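import Mathlib

/-!
# Generic points along an algebraic extension of domains
-/

set_option autoImplicit false
universe u

open CategoryTheory CategoryTheory.Limits AlgebraicGeometry

namespace K249.AlgGeneric

theorem map_closedPoint {B Ω : Type u} [CommRing B] [IsDomain B] [Field Ω] (j : B →+* Ω)
    (hj : Function.Injective j) :
    Spec.map (CommRingCat.ofHom j) (IsLocalRing.closedPoint Ω) =
      genericPoint (Spec (CommRingCat.of B)) := by
  rw [genericPoint_eq_bot_of_affine]
  apply PrimeSpectrum.ext
  change (IsLocalRing.maximalIdeal Ω).comap j = ⊥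
  rw [IsLocalRing.maximalIdeal_eq_bot]
  exact (RingHom.injective_iff_ker_eq_bot j).1 hj

theorem map_genericPoint {R B : Type u} [CommRing R] [IsDomain R] [CommRing B] [IsDomain B]
    (j : R →+* B) (hj : Function.Injective j) :
    Spec.map (CommRingCat.ofHom j) (genericPoint (Spec (CommRingCat.of B))) =
      genericPoint (Spec (CommRingCat.of R)) := by
  rw [genericPoint_eq_bot_of_affine, genericPoint_eq_bot_of_affine]
  apply PrimeSpectrum.ext
  change (⊥ : Ideal B).comap j = ⊥
  exact (RingHom.injective_iff_ker_eq_bot j).1 hj

theorem eq_genericPoint {R B : Type u} [CommRing R] [IsDomain R] [CommRing B] [IsDomain B]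
    [Algebra R B] (h : Algebra.IsAlgebraic R B) (x : Spec (CommRingCat.of B))
    (hx : Spec.map (CommRingCat.ofHom (algebraMap R B)) x = genericPoint (Spec (CommRingCat.of R))) :
    x = genericPoint (Spec (CommRingCat.of B)) := by
  rw [genericPoint_eq_bot_of_affine] at hx ⊢
  have h1 : x.asIdeal.comap (algebraMap R B) = ⊥ := congrArg PrimeSpectrum.asIdeal hx
  apply PrimeSpectrum.ext
  change x.asIdeal = ⊥
  by_contra hne
  obtain ⟨b, hb, hb0⟩ := Submodule.exists_mem_ne_zero_of_ne_bot hne
  exact Ideal.comap_ne_bot_of_algebraic_mem hb0 hb (h.isAlgebraic b) h1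

/-- Subalgebras of an algebraic closure of the fraction field are algebraic. -/
theorem isAlgebraic_subalgebra {R : Type u} [CommRing R] [IsDomain R]
    (B : Subalgebra R (AlgebraicClosure (FractionRing R))) : Algebra.IsAlgebraic R B := by
  constructor
  intro b
  have h1 : IsAlgebraic (FractionRing R) (b : AlgebraicClosure (FractionRing R)) :=
    Algebra.IsAlgebraic.isAlgebraic _
  have h2 : IsAlgebraic R (b : AlgebraicClosure (FractionRing R)) :=
    (IsFractionRing.isAlgebraic_iff R (FractionRing R) (AlgebraicClosure (FractionRing R))).2 h1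
  exact (isAlgebraic_algHom_iff B.val Subtype.val_injective).1 h2

theorem algebraMap_injective {R : Type u} [CommRing R] [IsDomain R] :
    Function.Injective (algebraMap R (AlgebraicClosure (FractionRing R))) := by
  rw [IsScalarTower.algebraMap_eq R (FractionRing R) (AlgebraicClosure (FractionRing R))]
  exact (algebraMap (FractionRing R) _).injective.comp (IsFractionRing.injective R (FractionRing R))

end K249.AlgGeneric
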