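import Groth.Prelude.Def_FlatCA
import Mathlib.LinearAlgebra.TensorProduct.DirectLimit

/-!
# Tensor products with a directed colimit of algebras

`h : FlatCA.IsDirectedColimitRing G g R'`, everything over a base ring `R`, `Q` an `R`-module.
* `exists_stage` : every element of `Q ⊗ R'` comes from a stage;
* `exists_zero` : an element of a stage vanishing in `Q ⊗ R'` vanishes at a later stage.
* `exists_one_mem` : for `S` an `R`-algebra, ideals `a i` of `S ⊗ G i` compatible with the
  transition maps and `1 ∈ ⨆ a i (S ⊗ R')`: `1 ∈ a k` for some `k`.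
-/

set_option autoImplicit false
universe u

namespace K249.DirColimTensor

open TensorProduct

variable {R : Type u} [CommRing R] {ι : Type u} [Preorder ι] (G : ι → Type u) [∀ i, CommRing (G i)]
  [∀ i, Algebra R (G i)] (g : ∀ i j, i ≤ j → G i →+* G j)
  (hgR : ∀ i j (h : i ≤ j), (g i j h).comp (algebraMap R (G i)) = algebraMap R (G j))
  (R' : Type u) [CommRing R'] [Algebra R R'] [∀ i, Algebra (G i) R'] [∀ i, IsScalarTower R (G i) R']

/-- the transition maps as algebra homomorphisms -/
def tr (i j : ι) (h : i ≤ j) : G i →ₐ[R] G j :=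
  { g i j h with commutes' := fun r => RingHom.congr_fun (hgR i j h) r }

/-- the map to the colimit -/
def toColim (i : ι) : G i →ₐ[R] R' := IsScalarTower.toAlgHom R (G i) R'

@[simp] theorem tr_apply (i j : ι) (h : i ≤ j) (x : G i) : tr G g hgR i j h x = g i j h x := rfl

@[simp] theorem toColim_apply (i : ι) (x : G i) :
    toColim (R := R) G R' i x = algebraMap (G i) R' x := rfl

variable {G g R'}

section

variable (h : FlatCA.IsDirectedColimitRing G g R')

include h in
theorem toColim_comp_tr (i j : ι) (hij : i ≤ j) :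
    (toColim (R := R) G R' j).comp (tr G g hgR i j hij) = toColim (R := R) G R' i :=
  AlgHom.ext fun x => RingHom.congr_fun (h.2.2.2.2.1 i j hij) x

include h in
theorem directedSystem : DirectedSystem G (fun i j hij => (tr G g hgR i j hij).toLinearMap) where
  map_self i x := RingHom.congr_fun (h.2.2.1 i) x
  map_map := fun k j i hij hjk x => RingHom.congr_fun (h.2.2.2.1 i j k hij hjk) x

include hgR h in
/-- every element of `Q ⊗ R'` comes from a stage -/
theorem exists_stage (Q : Type u) [AddCommGroup Q] [Module R Q] (y : Q ⊗[R] R') :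
    ∃ (i : ι) (x : Q ⊗[R] G i), (toColim (R := R) G R' i).toLinearMap.lTensor Q x = y := by
  induction y using TensorProduct.induction_on with
  | zero =>
    obtain ⟨i⟩ := h.2.1
    exact ⟨i, 0, map_zero _⟩
  | tmul q y =>
    obtain ⟨i, x, rfl⟩ := h.2.2.2.2.2.1 y
    exact ⟨i, q ⊗ₜ x, rfl⟩
  | add a b ha hb =>
    obtain ⟨i, x, rfl⟩ := ha
    obtain ⟨j, y, rfl⟩ := hb
    obtain ⟨k, hik, hjk⟩ := h.1.directed i j
    have key : ∀ (i : ι) (hik : i ≤ k) (x : Q ⊗[R] G i),
        (toColim (R := R) G R' k).toLinearMap.lTensor Q ((tr G g hgR i k hik).toLinearMap.lTensor Q x) =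
          (toColim (R := R) G R' i).toLinearMap.lTensor Q x := by
      intro i hik x
      rw [← LinearMap.comp_apply, ← LinearMap.lTensor_comp]
      congr 2
      rw [← toColim_comp_tr hgR h i k hik]
      rfl
    refine ⟨k, (tr G g hgR i k hik).toLinearMap.lTensor Q x +
      (tr G g hgR j k hjk).toLinearMap.lTensor Q y, ?_⟩
    rw [map_add, key, key]

include h in
/-- an element of a stage vanishing in `Q ⊗ R'` vanishes at a later stage -/
theorem exists_zero (Q : Type u) [AddCommGroup Q] [Module R Q] (i : ι) (m : Q ⊗[R] G i)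
    (hm : (toColim (R := R) G R' i).toLinearMap.lTensor Q m = 0) :
    ∃ (j : ι) (hij : i ≤ j), (tr G g hgR i j hij).toLinearMap.lTensor Q m = 0 := by
  classical
  have hdir : IsDirected ι (· ≤ ·) := h.1
  have hne : Nonempty ι := h.2.1
  have hds := directedSystem hgR h
  have hc : ∀ (i j : ι) (hij : i ≤ j) (x : G i),
      (toColim (R := R) G R' j).toLinearMap ((tr G g hgR i j hij).toLinearMap x) =
        (toColim (R := R) G R' i).toLinearMap x :=
    fun i j hij x => RingHom.congr_fun (h.2.2.2.2.1 i j hij) x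
  have hz : ∀ (i : ι) (x : G i), (toColim (R := R) G R' i).toLinearMap x = 0 →
      ∃ (j : ι) (hij : i ≤ j), (tr G g hgR i j hij).toLinearMap x = 0 := h.2.2.2.2.2.2
  have hs : ∀ (y : R'), ∃ (i : ι) (x : G i), (toColim (R := R) G R' i).toLinearMap x = y :=
    h.2.2.2.2.2.1
  let e₀ : Module.DirectLimit G (fun i j hij => (tr G g hgR i j hij).toLinearMap) ≃ₗ[R] R' :=
    LinearEquiv.ofBijective
      (Module.DirectLimit.lift R ι G _ (fun i => (toColim (R := R) G R' i).toLinearMap)
        hc)
      (by
        constructor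
        · rw [injective_iff_map_eq_zero]
          intro y hy
          obtain ⟨r, m, rfl⟩ := Module.DirectLimit.exists_of y
          rw [Module.DirectLimit.lift_of] at hy
          obtain ⟨j, hj, h2⟩ := hz r m hy
          rw [← Module.DirectLimit.of_f (f := fun i j hij => (tr G g hgR i j hij).toLinearMap)
            (hij := hj), h2, map_zero]
        · intro y
          obtain ⟨r, m, rfl⟩ := hs y
          exact ⟨Module.DirectLimit.of R ι G _ r m, Module.DirectLimit.lift_of _ hc _⟩)
  have he₀ : ∀ (r : ι) (m : G r), e₀ (Module.DirectLimit.of R ι G _ r m) =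
      toColim (R := R) G R' r m := fun r m => Module.DirectLimit.lift_of _ hc _
  let e : Q ⊗[R] R' ≃ₗ[R] Module.DirectLimit (fun r => Q ⊗[R] G r)
      (fun i j hij => (tr G g hgR i j hij).toLinearMap.lTensor Q) :=
    (LinearEquiv.lTensor Q e₀.symm).trans (TensorProduct.directLimitRight _ _)
  have he : ∀ m : Q ⊗[R] G i, e ((toColim (R := R) G R' i).toLinearMap.lTensor Q m) =
      Module.DirectLimit.of R ι (fun r => Q ⊗[R] G r)
        (fun i j hij => (tr G g hgR i j hij).toLinearMap.lTensor Q) i m := by
    intro m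
    induction m using TensorProduct.induction_on with
    | zero => simp
    | tmul q m =>
      have : e₀.symm (toColim (R := R) G R' i m) = Module.DirectLimit.of R ι G _ i m := by
        rw [← he₀, LinearEquiv.symm_apply_apply]
      rw [LinearMap.lTensor_tmul, LinearEquiv.trans_apply, LinearEquiv.lTensor_tmul]
      change TensorProduct.directLimitRight _ _ (q ⊗ₜ e₀.symm (toColim (R := R) G R' i m)) = _
      rw [this]
      exact TensorProduct.directLimitRight_tmul_of
        (fun i j hij => (tr G g hgR i j hij).toLinearMap) Q q m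
    | add a b ha hb => rw [map_add, map_add, map_add, ha, hb]
  have h0 := he m
  rw [hm, map_zero] at h0
  obtain ⟨j, hj, h1⟩ := Module.DirectLimit.of.zero_exact h0.symm
  exact ⟨j, hj, h1⟩

end

section ring

variable (S : Type u) [CommRing S] [Algebra R S]

variable (G g) in
/-- transition maps of `S ⊗ G i` -/
noncomputable def trS (i j : ι) (h : i ≤ j) : S ⊗[R] G i →ₐ[S] S ⊗[R] G j :=
  Algebra.TensorProduct.map (AlgHom.id S S) (tr G g hgR i j h)

variable (G R') in
/-- maps `S ⊗ G i → S ⊗ R'` -/
noncomputable def toColimS (i : ι) : S ⊗[R] G i →ₐ[S] S ⊗[R] R' :=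
  Algebra.TensorProduct.map (AlgHom.id S S) (toColim (R := R) G R' i)

theorem trS_eq (i j : ι) (h : i ≤ j) (x : S ⊗[R] G i) :
    trS G g hgR S i j h x = (tr G g hgR i j h).toLinearMap.lTensor S x := by
  induction x using TensorProduct.induction_on with
  | zero => simp
  | tmul s m => rfl
  | add a b ha hb => rw [map_add, map_add, ha, hb]

theorem toColimS_eq (i : ι) (x : S ⊗[R] G i) :
    toColimS G R' S i x = (toColim (R := R) G R' i).toLinearMap.lTensor S x := by
  induction x using TensorProduct.induction_on with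
  | zero => simp
  | tmul s m => rfl
  | add a b ha hb => rw [map_add, map_add, ha, hb]

variable (h : FlatCA.IsDirectedColimitRing G g R')

include h in
theorem toColimS_trS (i j : ι) (hij : i ≤ j) (x : S ⊗[R] G i) :
    toColimS G R' S j (trS G g hgR S i j hij x) = toColimS G R' S i x := by
  rw [trS_eq, toColimS_eq, toColimS_eq, ← LinearMap.comp_apply, ← LinearMap.lTensor_comp]
  congr 2
  rw [← toColim_comp_tr hgR h i j hij]
  rfl

include h in
theorem trS_trS (i j k : ι) (hij : i ≤ j) (hjk : j ≤ k) (x : S ⊗[R] G i) :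
    trS G g hgR S j k hjk (trS G g hgR S i j hij x) = trS G g hgR S i k (hij.trans hjk) x := by
  rw [trS_eq, trS_eq, trS_eq, ← LinearMap.comp_apply, ← LinearMap.lTensor_comp]
  congr 2
  ext x
  exact RingHom.congr_fun (h.2.2.2.1 i j k hij hjk) x

include h in
/-- If ideals of the stages, compatible with the transition maps, generate the unit ideal in the
colimit, then one of them is the unit ideal. -/
theorem exists_one_mem (a : ∀ i, Ideal (S ⊗[R] G i))
    (ha : ∀ i j (hij : i ≤ j) (x), x ∈ a i → trS G g hgR S i j hij x ∈ a j)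
    (h1 : (1 : S ⊗[R] R') ∈ ⨆ i, (a i).map (toColimS G R' S i).toRingHom) :
    ∃ k, a k = ⊤ := by
  -- the elements coming from the ideals of the stages form an ideal
  let I : Ideal (S ⊗[R] R') :=
    { carrier := {y | ∃ (i : ι) (x : S ⊗[R] G i), x ∈ a i ∧ toColimS G R' S i x = y}
      zero_mem' := by
        obtain ⟨i⟩ := h.2.1
        exact ⟨i, 0, zero_mem _, map_zero _⟩
      add_mem' := by
        rintro _ _ ⟨i, x, hx, rfl⟩ ⟨j, y, hy, rfl⟩
        obtain ⟨k, hik, hjk⟩ := h.1.directed i j
        refine ⟨k, trS G g hgR S i k hik x + trS G g hgR S j k hjk y,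
          add_mem (ha _ _ _ _ hx) (ha _ _ _ _ hy), ?_⟩
        rw [map_add, toColimS_trS hgR S h, toColimS_trS hgR S h]
      smul_mem' := by
        rintro c _ ⟨i, x, hx, rfl⟩
        obtain ⟨j, c', hc'⟩ := exists_stage hgR h S c
        rw [← toColimS_eq] at hc'
        obtain ⟨k, hik, hjk⟩ := h.1.directed i j
        refine ⟨k, trS G g hgR S j k hjk c' * trS G g hgR S i k hik x,
          Ideal.mul_mem_left _ _ (ha _ _ _ _ hx), ?_⟩
        rw [map_mul, toColimS_trS hgR S h, toColimS_trS hgR S h, hc', smul_eq_mul] }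
  have hle : (⨆ i, (a i).map (toColimS G R' S i).toRingHom) ≤ I := by
    refine iSup_le fun i => ?_
    rw [Ideal.map_le_iff_le_comap]
    intro x hx
    exact ⟨i, x, hx, rfl⟩
  obtain ⟨i, x, hx, hx1⟩ := hle h1
  have h2 : (toColim (R := R) G R' i).toLinearMap.lTensor S (1 - x) = 0 := by
    rw [← toColimS_eq, map_sub, map_one, hx1, sub_self]
  obtain ⟨j, hij, h3⟩ := exists_zero hgR h S i (1 - x) h2
  rw [← trS_eq, map_sub, map_one, sub_eq_zero] at h3
  refine ⟨j, ?_⟩
  rw [Ideal.eq_top_iff_one, h3]
  exact ha _ _ _ _ hx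

end ring

end K249.DirColimTensor
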