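import Mathlib.AlgebraicGeometry.AffineTransitionLimit
import Mathlib.AlgebraicGeometry.Limits
import Mathlib.AlgebraicGeometry.Noetherian
import Mathlib.Algebra.Category.Ring.FilteredColimits
import Mathlib.RingTheory.FiniteType
import Mathlib.RingTheory.Noetherian.Basic
import Mathlib.CategoryTheory.Limits.Types.Filtered

/-!
# The spectrum of an algebra as the limit of the spectra of its finitely generated subalgebras
-/

set_option autoImplicit false

universe u

open CategoryTheory Limits AlgebraicGeometry

namespace K249.FGLimit

variable (R A : Type u) [CommRing R] [CommRing A] [Algebra R A]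

/-- The type of finitely generated subalgebras of `A`, ordered by inclusion. -/
abbrev FGSub : Type u := {S : Subalgebra R A // S.FG}

instance : IsDirectedOrder (FGSub R A) where
  directed a b := ⟨⟨a.1 ⊔ b.1, a.2.sup b.2⟩, (le_sup_left : a.1 ≤ a.1 ⊔ b.1), (le_sup_right : b.1 ≤ a.1 ⊔ b.1)⟩

instance : Nonempty (FGSub R A) := ⟨⟨⊥, Subalgebra.fg_bot⟩⟩

/-- The diagram of finitely generated subrings. -/
def ringDiagram : FGSub R A ⥤ CommRingCat.{u} where
  obj S := CommRingCat.of S.1
  map {S T} h := CommRingCat.ofHom (Subalgebra.inclusion (leOfHom h)).toRingHom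
  map_id S := by ext x; rfl
  map_comp f g := by ext x; rfl

/-- The cocone with vertex `A`. -/
def ringCocone : Cocone (ringDiagram R A) where
  pt := CommRingCat.of A
  ι := { app := fun S => CommRingCat.ofHom S.1.val.toRingHom
         naturality := fun S T h => by ext x; rfl }

/-- `A` is the filtered colimit of its finitely generated subalgebras. -/
noncomputable def isColimitRingCocone : IsColimit (ringCocone R A) := by
  haveI : ReflectsColimit (ringDiagram R A) (forget CommRingCat.{u}) :=
    reflectsColimit_of_reflectsIsomorphisms (ringDiagram R A) (forget CommRingCat.{u})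
  refine isColimitOfReflects (forget CommRingCat.{u}) ?_
  refine Types.FilteredColimit.isColimitOf _ _ ?_ ?_
  · intro x
    refine ⟨⟨Algebra.adjoin R {x}, Subalgebra.fg_def.2 ⟨{x}, Set.finite_singleton x, rfl⟩⟩,
      ⟨x, Algebra.subset_adjoin rfl⟩, rfl⟩
  · intro i j xi xj h
    obtain ⟨k, hik, hjk⟩ := exists_ge_ge i j
    refine ⟨k, homOfLE hik, homOfLE hjk, ?_⟩
    exact Subtype.ext h

/-- The diagram of spectra of the finitely generated subalgebras of `A`. -/
noncomputable def specDiagram : (FGSub R A)ᵒᵖ ⥤ Scheme.{u} := (ringDiagram R A).op ⋙ Scheme.Spec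

/-- The cone with vertex `Spec A`. -/
noncomputable def specCone : Cone (specDiagram R A) := Scheme.Spec.mapCone (ringCocone R A).op

/-- `Spec A` is the limit of the spectra of the finitely generated subalgebras. -/
noncomputable def isLimitSpecCone : IsLimit (specCone R A) :=
  isLimitOfPreserves Scheme.Spec (isColimitRingCocone R A).op

theorem specCone_pt : (specCone R A).pt = Spec (CommRingCat.of A) := rfl

instance [IsNoetherianRing R] (i : (FGSub R A)ᵒᵖ) : IsNoetherianRing i.unop.1 := by
  have := (Subalgebra.fg_iff_finiteType _).1 i.unop.2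
  exact Algebra.FiniteType.isNoetherianRing R _

instance (i : (FGSub R A)ᵒᵖ) : IsAffine ((specDiagram R A).obj i) :=
  inferInstanceAs (IsAffine (Spec (CommRingCat.of i.unop.1)))

instance {i j : (FGSub R A)ᵒᵖ} (f : i ⟶ j) : IsAffineHom ((specDiagram R A).map f) := inferInstance

instance [IsNoetherianRing R] (i : (FGSub R A)ᵒᵖ) : IsNoetherian ((specDiagram R A).obj i) :=
  inferInstanceAs (IsNoetherian (Spec (CommRingCat.of i.unop.1)))

end K249.FGLimit
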