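import Groth.Agent.Flat2E.GenPt
import Groth.Agent.Flat2E.SpreadScheme
import Mathlib.AlgebraicGeometry.Morphisms.Finite
import Mathlib.AlgebraicGeometry.Morphisms.Flat
import Mathlib.RingTheory.Localization.Integer
import Mathlib.LinearAlgebra.FreeModule.Finite.Basic

/-!
# Spreading out a finite extension of the function field
-/

set_option autoImplicit false
set_option linter.style.haveILetI false
universe u

open CategoryTheory CategoryTheory.Limits AlgebraicGeometry

namespace K249.FinSpread

open Groth.Agent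

section algebra

variable {A K k' : Type u} [CommRing A] [IsDomain A] [Field K] [Field k'] [Algebra A K]
  [IsFractionRing A K] [Algebra K k'] [FiniteDimensional K k']

variable (A K k') in
theorem exists_spread : ∃ f : A, f ≠ 0 ∧ ∀ (A' : Type u) [CommRing A'] [Algebra A A'] [Algebra A' K]
      [IsScalarTower A A' K] [IsLocalization.Away f A'],
      ∃ (B : Type u) (_ : CommRing B) (_ : Algebra A' B) (φ : B →+* k'),
        φ.comp (algebraMap A' B) = (algebraMap K k').comp (algebraMap A' K) ∧
        Function.Injective φ ∧ Module.Free A' B ∧ Module.Finite A' B ∧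
        Function.Injective (algebraMap A' B) ∧ ∀ x : k', ∃ b s : B, s ≠ 0 ∧ φ s * x = φ b := by
  classical
  let b := Module.finBasis K k'
  let T : Finset K := (Finset.univ.image fun k => b.repr 1 k) ∪
    (Finset.univ.image fun ijk : _ × _ × _ => b.repr (b ijk.1 * b ijk.2.1) ijk.2.2)
  obtain ⟨⟨f, hf⟩, hfT⟩ := IsLocalization.exist_integer_multiples_of_finset (nonZeroDivisors A) T
  refine ⟨f, nonZeroDivisors.ne_zero hf, ?_⟩
  intro A' _ _ _ _ _
  letI : Algebra A' k' := ((algebraMap K k').comp (algebraMap A' K)).toAlgebra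
  haveI : IsScalarTower A' K k' := .of_algebraMap_eq fun _ => rfl
  have hfK : algebraMap A K f ≠ 0 := by
    intro h
    exact nonZeroDivisors.ne_zero hf ((FaithfulSMul.algebraMap_injective A K) (by rw [h, map_zero]))
  -- elements of `T` come from `A'`
  have hT : ∀ t ∈ T, ∃ a : A', algebraMap A' K a = t := by
    intro t ht
    obtain ⟨a, ha⟩ := hfT t ht
    obtain ⟨v, hv⟩ := IsLocalization.Away.algebraMap_isUnit (S := A') f
    refine ⟨algebraMap A A' a * ↑v⁻¹, ?_⟩
    have h1 : algebraMap A' K (↑v⁻¹ : A') * algebraMap A K f = 1 := by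
      rw [IsScalarTower.algebraMap_apply A A' K, ← hv, ← map_mul, Units.inv_mul, map_one]
    rw [map_mul, ← IsScalarTower.algebraMap_apply A A' K, ha]
    change (f • t) * _ = t
    rw [Algebra.smul_def, mul_comm, ← mul_assoc, h1, one_mul]
  -- `A' → K` is injective
  have hinj' : Function.Injective (algebraMap A' K) := by
    rw [injective_iff_map_eq_zero]
    intro x hx
    obtain ⟨n, a, ha⟩ := IsLocalization.Away.surj f x
    have h1 : algebraMap A K a = 0 := by
      rw [IsScalarTower.algebraMap_apply A A' K, ← ha, map_mul, hx, zero_mul]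
    have h2 : a = 0 := (FaithfulSMul.algebraMap_injective A K) (by rw [h1, map_zero])
    rw [h2, map_zero] at ha
    exact ((((IsLocalization.Away.algebraMap_isUnit (S := A') f).pow n).mul_left_eq_zero).1 ha)
  let P : Submodule A' k' := Submodule.span A' (Set.range b)
  have hmem : ∀ x : k', (∀ k, ∃ a : A', algebraMap A' K a = b.repr x k) → x ∈ P := by
    intro x hx
    rw [← b.sum_repr x]
    refine Submodule.sum_mem _ fun k _ => ?_
    obtain ⟨a, ha⟩ := hx k
    rw [← ha, algebraMap_smul]
    exact Submodule.smul_mem _ _ (Submodule.subset_span ⟨k, rfl⟩)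
  have h1P : (1 : k') ∈ P := hmem 1 fun k => hT _ (Finset.mem_union_left _
    (Finset.mem_image.2 ⟨k, Finset.mem_univ _, rfl⟩))
  have hmul : P * P ≤ P := by
    rw [Submodule.span_mul_span, Submodule.span_le]
    rintro _ ⟨_, ⟨i, rfl⟩, _, ⟨j, rfl⟩, rfl⟩
    exact hmem _ fun k => hT _ (Finset.mem_union_right _
      (Finset.mem_image.2 ⟨(i, j, k), Finset.mem_univ _, rfl⟩))
  let B : Subalgebra A' k' := P.toSubalgebra h1P fun x y hx hy => hmul (Submodule.mul_mem_mul hx hy)
  have hli : LinearIndependent A' b := by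
    refine b.linearIndependent.restrict_scalars fun x y hxy => hinj' ?_
    simpa [Algebra.smul_def] using hxy
  let e : P ≃ₗ[A'] B :=
    { toFun := fun x => ⟨x.1, x.2⟩
      invFun := fun x => ⟨x.1, x.2⟩
      map_add' := fun _ _ => rfl
      map_smul' := fun _ _ => rfl
      left_inv := fun _ => rfl
      right_inv := fun _ => rfl }
  haveI : Module.Free A' P := Module.Free.of_basis (Module.Basis.span hli)
  haveI : Module.Finite A' P := Module.Finite.of_basis (Module.Basis.span hli)
  refine ⟨B, inferInstance, inferInstance, B.val.toRingHom, ?_, Subtype.val_injective,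
    Module.Free.of_equiv e, Module.Finite.equiv e, ?_, ?_⟩
  · ext x
    rfl
  · intro x y hxy
    have h1 := congrArg Subtype.val hxy
    exact hinj' ((algebraMap K k').injective h1)
  · intro x
    obtain ⟨⟨s, hs⟩, hsT⟩ := IsLocalization.exist_integer_multiples_of_finset (nonZeroDivisors A)
      (Finset.univ.image fun k => b.repr x k)
    have h1 : (algebraMap A' k' (algebraMap A A' s)) * x ∈ P := by
      refine hmem _ fun k => ?_
      obtain ⟨a, ha⟩ := hsT _ (Finset.mem_image.2 ⟨k, Finset.mem_univ _, rfl⟩)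
      refine ⟨algebraMap A A' a, ?_⟩
      rw [← IsScalarTower.algebraMap_apply A A' K, ha]
      change s • b.repr x k = _
      rw [IsScalarTower.algebraMap_apply A' K k', ← IsScalarTower.algebraMap_apply A A' K,
        ← Algebra.smul_def, map_smul, Finsupp.smul_apply, Algebra.smul_def, smul_eq_mul]
    refine ⟨⟨_, h1⟩, algebraMap A' B (algebraMap A A' s), ?_, rfl⟩
    intro h
    have h2 := congrArg Subtype.val h
    have h3 : algebraMap K k' (algebraMap A' K (algebraMap A A' s)) = 0 := h2
    rw [← IsScalarTower.algebraMap_apply A A' K, map_eq_zero] at h3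
    exact nonZeroDivisors.ne_zero hs ((FaithfulSMul.algebraMap_injective A K) (by rw [h3, map_zero]))

end algebra

theorem closure_eq_univ {B : Type u} [CommRing B] (p : PrimeSpectrum B) (hp : p.asIdeal = ⊥) :
    closure {p} = Set.univ := by
  rw [PrimeSpectrum.closure_singleton, hp]
  ext x
  simp

/-- Spreading out a finite extension of the function field. -/
theorem exists_spread_scheme {Y : Scheme.{u}} [IsIntegral Y] (k' : Type u) [Field k']
    [Algebra (Y.residueField (genericPoint Y)) k']
    [FiniteDimensional (Y.residueField (genericPoint Y)) k'] :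
    ∃ (V : Y.Opens) (Y' : Scheme.{u}) (g : Y' ⟶ (V : Scheme.{u})) (_ : IsIntegral Y'),
      (V : Set ↑Y).Nonempty ∧ IsAffineOpen V ∧ IsAffine Y' ∧ Surjective g ∧ IsFinite g ∧ Flat g ∧
      ∃ e : Spec (Y'.residueField (genericPoint Y')) ≅ Spec (CommRingCat.of k'),
        e.hom ≫ Spec.map (CommRingCat.ofHom (algebraMap (Y.residueField (genericPoint Y)) k')) ≫
          Y.fromSpecResidueField (genericPoint Y) = Y'.fromSpecResidueField (genericPoint Y') ≫ (g ≫ V.ι) := by
  obtain ⟨_, ⟨V0, hV0, rfl⟩, hηV0, -⟩ := Y.isBasis_affineOpens.exists_subset_of_mem_open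
    (Set.mem_univ (genericPoint Y)) isOpen_univ
  let : Algebra Γ(Y, V0) (Y.residueField (genericPoint Y)) := (Y.evaluation V0 (genericPoint Y) hηV0).hom.toAlgebra
  haveI : Nonempty V0 := ⟨⟨_, hηV0⟩⟩
  have h1 : RingHom.ker (algebraMap Γ(Y, V0) (Y.residueField (genericPoint Y))) = nilradical Γ(Y, V0) :=
    Flat2E.GenPt.ker_evaluation_genericPoint hV0.isCompact hηV0
  rw [nilradical_eq_zero] at h1
  have hinj : Function.Injective (algebraMap Γ(Y, V0) (Y.residueField (genericPoint Y))) :=
    (RingHom.injective_iff_ker_eq_bot _).2 h1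
  haveI : FaithfulSMul Γ(Y, V0) (Y.residueField (genericPoint Y)) :=
    (faithfulSMul_iff_algebraMap_injective _ _).2 hinj
  have hfr : IsFractionRing Γ(Y, V0) (Y.residueField (genericPoint Y)) := by
    refine IsFractionRing.of_field _ _ fun x => ?_
    obtain ⟨a, s, hs, h⟩ := Flat2E.GenPt.exists_evaluation_mul_eq hV0 (genericPoint Y) hηV0 x
    refine ⟨a, s, ?_⟩
    rw [eq_div_iff (show algebraMap Γ(Y, V0) (Y.residueField (genericPoint Y)) s ≠ 0 from hs), mul_comm]
    exact h
  obtain ⟨f0, hf0, H⟩ := exists_spread Γ(Y, V0) (Y.residueField (genericPoint Y)) k'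
  have hηV : genericPoint Y ∈ Y.basicOpen f0 := by
    rw [← Scheme.evaluation_ne_zero_iff_mem_basicOpen _ _ hηV0]
    intro h
    exact hf0 (hinj (by rw [map_zero]; exact h))
  have hV : IsAffineOpen (Y.basicOpen f0) := hV0.basicOpen f0
  let : Algebra Γ(Y, Y.basicOpen f0) (Y.residueField (genericPoint Y)) :=
    (Y.evaluation (Y.basicOpen f0) (genericPoint Y) hηV).hom.toAlgebra
  have : IsScalarTower Γ(Y, V0) Γ(Y, Y.basicOpen f0) (Y.residueField (genericPoint Y)) := by
    apply IsScalarTower.of_algebraMap_eq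
    intro x
    change Y.evaluation V0 (genericPoint Y) hηV0 x = Y.evaluation (Y.basicOpen f0) (genericPoint Y) hηV (Y.presheaf.map _ x)
    rw [← Scheme.germ_residue, ← Scheme.germ_residue, CommRingCat.comp_apply, CommRingCat.comp_apply, TopCat.Presheaf.germ_res_apply]
  have := hV0.isLocalization_basicOpen f0
  obtain ⟨B, _, _, φ, hφ, hφi, hfree, hfin, hinj', hfrac⟩ := H Γ(Y, Y.basicOpen f0)
  have hdom : IsDomain B := hφi.isDomain φ
  have hgen : genericPoint ↑(Spec (CommRingCat.of B)) = Flat2E.SpreadScheme.pt φ := by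
    exact (genericPoint_spec ↑(Spec (CommRingCat.of B))).eq
      (closure_eq_univ _ ((RingHom.injective_iff_ker_eq_bot _).1 hφi))
  refine ⟨Y.basicOpen f0, Spec (CommRingCat.of B),
    Spec.map (CommRingCat.ofHom (algebraMap Γ(Y, Y.basicOpen f0) B)) ≫ hV.isoSpec.inv, inferInstance,
    ⟨_, hηV⟩, hV, inferInstance, ?_, ?_, ?_, ?_⟩
  · have h3 : Surjective (Spec.map (CommRingCat.ofHom (algebraMap Γ(Y, Y.basicOpen f0) B))) := by
      constructor
      exact (algebraMap_isIntegral_iff.mpr (inferInstance : Algebra.IsIntegral Γ(Y, Y.basicOpen f0) B)).comap_surjective hinj'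
    infer_instance
  · have h3 : IsFinite (Spec.map (CommRingCat.ofHom (algebraMap Γ(Y, Y.basicOpen f0) B))) := by
      rw [IsFinite.SpecMap_iff]
      exact RingHom.finite_algebraMap.mpr hfin
    infer_instance
  · have h3 : Flat (Spec.map (CommRingCat.ofHom (algebraMap Γ(Y, Y.basicOpen f0) B))) := by
      rw [Flat.SpecMap_iff]
      exact RingHom.flat_algebraMap_iff.mpr inferInstance
    infer_instance
  · rw [hgen]
    obtain ⟨e, he⟩ := Flat2E.SpreadScheme.exists_iso φ (by
      intro x
      obtain ⟨b, s, hs, h⟩ := hfrac x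
      refine ⟨b, s, ?_, h⟩
      intro h0
      exact hs (hφi (by rw [h0, map_zero])))
    refine ⟨e, ?_⟩
    rw [← he, ← Flat2E.SpreadScheme.fromSpecResidueField_eq hV (genericPoint Y) hηV]
    simp only [Category.assoc]
    congr 1
    rw [IsAffineOpen.isoSpec_inv_ι, ← Category.assoc, ← Category.assoc, ← Spec.map_comp, ← Spec.map_comp]
    congr 2
    ext x
    exact congr($hφ x).symm

end K249.FinSpread
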