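import Groth.Agent.Flat2B.FlatDim

/-!
# Flatness at a prime: descent along flat base change, and along a base change flat at one prime
-/

set_option autoImplicit false
set_option linter.style.haveILetI false
universe u

namespace K249.FlatAtDescent

open TensorProduct
open Groth.Agent

section

variable {A₁ B₁ A₂ B₂ N₁ N₂ : Type u} [CommRing A₁] [CommRing B₁] [CommRing A₂] [CommRing B₂]
  [Algebra A₁ B₁] [Algebra A₁ A₂] [Algebra B₁ B₂] [Algebra A₂ B₂] [Algebra A₁ B₂]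
  [IsScalarTower A₁ B₁ B₂] [IsScalarTower A₁ A₂ B₂] [Algebra.IsPushout A₁ B₁ A₂ B₂]
  [AddCommGroup N₁] [Module B₁ N₁] [Module A₁ N₁] [IsScalarTower A₁ B₁ N₁]
  [AddCommGroup N₂] [Module B₂ N₂] [Module B₁ N₂] [IsScalarTower B₁ B₂ N₂]
  [Module A₂ N₂] [IsScalarTower A₂ B₂ N₂]

/-- Flatness at a prime descends along flat base change. -/
theorem flatAt_descend [Module.Flat A₁ A₂] (f : N₁ →ₗ[B₁] N₂) (hf : IsBaseChange B₂ f)
    (Q₁ : Ideal B₁) [Q₁.IsPrime] (Q₂ : Ideal B₂) [Q₂.IsPrime] [Q₂.LiesOver Q₁]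
    (h : FlatCA.FlatAt A₂ Q₂ N₂) : FlatCA.FlatAt A₁ Q₁ N₁ := by
  have : Algebra.IsPushout A₁ A₂ B₁ B₂ := .symm inferInstance
  have : Module.Flat B₁ B₂ := Module.Flat.isBaseChange A₁ B₁ A₂ B₂
    (Algebra.IsPushout.out (self := ‹Algebra.IsPushout A₁ B₁ A₂ B₂›))
  let _ : Module A₁ N₂ := Module.compHom N₂ (algebraMap A₁ B₂)
  have : IsScalarTower A₁ B₂ N₂ := .of_algebraMap_smul fun _ _ => rfl
  have : IsScalarTower A₁ A₂ N₂ := .of_algebraMap_smul fun a x => by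
    rw [← algebraMap_smul B₂, ← IsScalarTower.algebraMap_apply]
    rfl
  rw [Flat2C.FlatAt.flatAt_iff_of_isBaseChange (R := A₁) f Q₁ Q₂ hf]
  have : Module.Flat A₂ (LocalizedModule Q₂.primeCompl N₂) := h
  exact Module.Flat.trans A₁ A₂ (LocalizedModule Q₂.primeCompl N₂)

/-- auxiliary, two steps -/
theorem flatAt_descend₂ (f : N₁ →ₗ[B₁] N₂) (hf : IsBaseChange B₂ f)
    {A₃ B₃ N₃ : Type u} [CommRing A₃] [CommRing B₃] [Algebra A₁ A₃] [Algebra A₂ A₃]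
    [IsScalarTower A₁ A₂ A₃] [Algebra A₃ B₃] [Algebra B₂ B₃] [Algebra A₂ B₃]
    [IsScalarTower A₂ B₂ B₃] [IsScalarTower A₂ A₃ B₃] [Algebra.IsPushout A₂ B₂ A₃ B₃]
    [Module.Flat A₁ A₃] [AddCommGroup N₃] [Module B₃ N₃] [Module B₂ N₃] [IsScalarTower B₂ B₃ N₃]
    (g : N₂ →ₗ[B₂] N₃) (hg : IsBaseChange B₃ g)
    (Q₁ : Ideal B₁) [Q₁.IsPrime] (P₃ : Ideal A₃) [P₃.IsPrime]
    (hP : P₃.comap (algebraMap A₁ A₃) = Q₁.comap (algebraMap A₁ B₁))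
    (h : ∀ (Q₂ : Ideal B₂) [Q₂.IsPrime], Q₂.LiesOver Q₁ →
      Q₂.comap (algebraMap A₂ B₂) = P₃.comap (algebraMap A₂ A₃) → FlatCA.FlatAt A₂ Q₂ N₂) :
    FlatCA.FlatAt A₁ Q₁ N₁ := by
  let P₁ : Ideal A₁ := Q₁.under A₁
  have i1 : Q₁.LiesOver P₁ := ⟨rfl⟩
  letI : Algebra B₁ B₃ := ((algebraMap B₂ B₃).comp (algebraMap B₁ B₂)).toAlgebra
  letI : Algebra A₁ B₃ := ((algebraMap B₁ B₃).comp (algebraMap A₁ B₁)).toAlgebra
  haveI : IsScalarTower B₁ B₂ B₃ := .of_algebraMap_eq' rfl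
  haveI : IsScalarTower A₁ B₁ B₃ := .of_algebraMap_eq' rfl
  haveI : IsScalarTower A₁ B₂ B₃ := .of_algebraMap_eq' (by
    change (algebraMap B₁ B₃).comp (algebraMap A₁ B₁) = _
    rw [IsScalarTower.algebraMap_eq A₁ B₁ B₂, ← RingHom.comp_assoc]
    rfl)
  haveI : IsScalarTower A₁ A₂ B₃ := .of_algebraMap_eq' (by
    rw [IsScalarTower.algebraMap_eq A₁ B₂ B₃, IsScalarTower.algebraMap_eq A₁ A₂ B₂,
      ← RingHom.comp_assoc, ← IsScalarTower.algebraMap_eq])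
  haveI : IsScalarTower A₁ A₃ B₃ := .of_algebraMap_eq' (by
    rw [IsScalarTower.algebraMap_eq A₁ A₂ B₃, IsScalarTower.algebraMap_eq A₂ A₃ B₃,
      IsScalarTower.algebraMap_eq A₁ A₂ A₃, ← RingHom.comp_assoc])
  haveI p2 : Algebra.IsPushout A₁ B₁ A₂ B₂ := inferInstance
  haveI p3 : Algebra.IsPushout A₁ B₁ A₃ B₃ := by
    have h1 : Algebra.IsPushout A₁ A₂ B₁ B₂ := p2.symm
    have h2 : Algebra.IsPushout A₂ A₃ B₂ B₃ := .symm inferInstance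
    exact ((Algebra.IsPushout.comp_iff A₁ A₂ B₁ B₂).2 h2).symm
  haveI i4 : P₃.LiesOver P₁ := ⟨hP.symm⟩
  obtain ⟨Q₃, hQ₃, hQ₃1, hQ₃2⟩ := Flat2B.EtaleNhd.exists_prime_of_isPushout (R := A₁) (R' := A₃)
    (S := B₁) (S' := B₃) P₁ Q₁ P₃
  let Q₂ : Ideal B₂ := Q₃.under B₂
  haveI i5 : Q₃.LiesOver Q₂ := ⟨rfl⟩
  haveI i6 : Q₂.LiesOver Q₁ := ⟨by
    rw [Ideal.over_def Q₃ Q₁]
    change _ = (Q₃.under B₂).under B₁
    rw [Ideal.under_under]⟩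
  have e7 : Q₂.comap (algebraMap A₂ B₂) = P₃.comap (algebraMap A₂ A₃) := by
    have e2 : P₃ = Q₃.under A₃ := Ideal.over_def Q₃ P₃
    have e3 : P₃.under A₂ = (Q₃.under A₃).under A₂ := congrArg (Ideal.under A₂) e2
    rw [Ideal.under_under] at e3
    change (Q₃.under B₂).under A₂ = P₃.under A₂
    rw [Ideal.under_under]
    exact e3.symm
  have h2 : FlatCA.FlatAt A₂ Q₂ N₂ := h Q₂ i6 e7
  letI : Module B₁ N₃ := Module.compHom N₃ (algebraMap B₁ B₃)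
  haveI : IsScalarTower B₁ B₃ N₃ := .of_algebraMap_smul fun _ _ => rfl
  letI : Module A₃ N₃ := Module.compHom N₃ (algebraMap A₃ B₃)
  haveI : IsScalarTower A₃ B₃ N₃ := .of_algebraMap_smul fun _ _ => rfl
  haveI : IsScalarTower B₁ B₂ N₃ := .of_algebraMap_smul fun b x => by
    rw [← algebraMap_smul B₃ (algebraMap B₁ B₂ b) x, ← IsScalarTower.algebraMap_apply]
    rfl
  have h3 : FlatCA.FlatAt A₃ Q₃ N₃ := Flat2B.FlatDim.flatAt_baseChange g hg Q₂ Q₃ h2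
  exact flatAt_descend (A₂ := A₃) ((g.restrictScalars B₁).comp f) (hf.comp hg) Q₁ Q₃ h3

omit [Module B₁ N₂] [IsScalarTower B₁ B₂ N₂] [Module A₂ N₂] [IsScalarTower A₂ B₂ N₂] in
theorem exists_baseChange_model (N₂ : Type u) [AddCommGroup N₂] [Module B₂ N₂] (B₃ : Type u)
    [CommRing B₃] [Algebra B₂ B₃] :
    ∃ (N₃ : Type u) (_ : AddCommGroup N₃) (_ : Module B₃ N₃) (_ : Module B₂ N₃)
      (_ : IsScalarTower B₂ B₃ N₃) (g : N₂ →ₗ[B₂] N₃), IsBaseChange B₃ g :=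
  ⟨B₃ ⊗[B₂] N₂, inferInstance, inferInstance, inferInstance, inferInstance,
    TensorProduct.mk B₂ B₃ N₂ 1, TensorProduct.isBaseChange B₂ N₂ B₃⟩

omit [Algebra A₁ B₁] [Algebra A₁ A₂] [Algebra B₁ B₂] [Algebra A₁ B₂] in
theorem exists_pushout_model (A₃ : Type u) [CommRing A₃] [Algebra A₂ A₃] :
    ∃ (B₃ : Type u) (_ : CommRing B₃) (_ : Algebra A₃ B₃) (_ : Algebra B₂ B₃) (_ : Algebra A₂ B₃)
      (_ : IsScalarTower A₂ B₂ B₃) (_ : IsScalarTower A₂ A₃ B₃),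
      Algebra.IsPushout A₂ B₂ A₃ B₃ := by
  letI : Algebra A₃ (B₂ ⊗[A₂] A₃) := Algebra.TensorProduct.rightAlgebra
  exact ⟨B₂ ⊗[A₂] A₃, inferInstance, inferInstance, inferInstance, inferInstance, inferInstance,
    inferInstance, inferInstance⟩

/-- Flatness at a prime descends along a base change `A₁ → A₂` which is flat at the prime below:
`P₂` a prime of `A₂` with `(A₂)_{P₂}` flat over `A₁`, `Q₁` a prime of `B₁` over `P₂ ∩ A₁`; if `N₂` is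
flat over `A₂` at the primes of `B₂` over `Q₁` and over `P₂`, then `N₁` is flat at `Q₁`. -/
theorem flatAt_descend_of_flat_at (P₂ : Ideal A₂) [P₂.IsPrime]
    [Module.Flat A₁ (Localization.AtPrime P₂)] (f : N₁ →ₗ[B₁] N₂) (hf : IsBaseChange B₂ f)
    (Q₁ : Ideal B₁) [Q₁.IsPrime] (hP : P₂.comap (algebraMap A₁ A₂) = Q₁.comap (algebraMap A₁ B₁))
    (h : ∀ (Q₂ : Ideal B₂) [Q₂.IsPrime], Q₂.LiesOver Q₁ →
      Q₂.comap (algebraMap A₂ B₂) = P₂ → FlatCA.FlatAt A₂ Q₂ N₂) :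
    FlatCA.FlatAt A₁ Q₁ N₁ := by
  let A₃ := Localization.AtPrime P₂
  obtain ⟨B₃, _, _, _, _, _, _, _⟩ := exists_pushout_model (A₂ := A₂) (B₂ := B₂) A₃
  obtain ⟨N₃, _, _, _, _, g, hg⟩ := exists_baseChange_model (B₂ := B₂) N₂ B₃
  have h0 : (IsLocalRing.maximalIdeal A₃).comap (algebraMap A₂ A₃) = P₂ :=
    Localization.AtPrime.under_maximalIdeal (I := P₂)
  refine flatAt_descend₂ (A₁ := A₁) (A₂ := A₂) (B₂ := B₂) (A₃ := A₃) (B₃ := B₃) f hf g hg Q₁ (IsLocalRing.maximalIdeal A₃) ?_ ?_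
  · rw [IsScalarTower.algebraMap_eq A₁ A₂ A₃, ← Ideal.comap_comap, h0, hP]
  · intro Q₂ _ h1 h2
    exact h Q₂ h1 (h2.trans h0)

end

end K249.FlatAtDescent
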