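import Groth.Agent.Flat2A.MinFlatIdeal
import Mathlib.RingTheory.Localization.Finiteness
import Mathlib.RingTheory.Localization.Submodule
import Mathlib.RingTheory.Localization.AtPrime.Basic
import Mathlib.Algebra.Module.LocalizedModule.IsLocalization

/-!
# The smallest flattening ideal over a complete Noetherian local ring

* `flat_quotient_inf` : if `M/IM` is flat over `R/I` and `M/JM` is flat over `R/J` then
  `M/(I ∩ J)M` is flat over `R/(I ∩ J)`.
* `exists_least_flat_ideal` : complete Noetherian local base, finite module over a Noetherian local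
  algebra: there is a least ideal `I` with `M/IM` flat over `R/I`.
-/

set_option autoImplicit false
universe u v

namespace K249.FlatIdeal

open TensorProduct IsLocalRing
open Groth.Agent

/-- auxiliary: `I ∩ J = 0` -/
theorem flat_of_inf_eq_bot {R : Type u} {M : Type v} [CommRing R] [AddCommGroup M] [Module R M]
    (I J : Ideal R) (hIJ : I ⊓ J = ⊥)
    (hI : Module.Flat (R ⧸ I) ((R ⧸ I) ⊗[R] M)) (hJ : Module.Flat (R ⧸ J) ((R ⧸ J) ⊗[R] M)) :
    Module.Flat R M := by
  rw [Module.Flat.iff_rTensor_injective']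
  intro a
  rw [injective_iff_map_eq_zero]
  intro x hx
  -- the image of `a` in `R/I`
  let b : Ideal R := a ⊓ I
  let ι : b →ₗ[R] a := Submodule.inclusion inf_le_left
  let mkI : R →ₗ[R] (R ⧸ I) := Submodule.mkQ I
  let K : Submodule R (R ⧸ I) := Submodule.map mkI a
  let p : a →ₗ[R] K := (mkI.comp a.subtype).codRestrict K (fun y => Submodule.mem_map_of_mem y.2)
  have hp : Function.Surjective p := by
    rintro ⟨_, y, hy, rfl⟩
    exact ⟨⟨y, hy⟩, rfl⟩
  have hex : Function.Exact ι p := by
    intro y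
    constructor
    · intro hy
      have h1 : mkI y.1 = 0 := congrArg Subtype.val hy
      have h2 : y.1 ∈ I := (Submodule.Quotient.mk_eq_zero I).1 h1
      exact ⟨⟨y.1, y.2, h2⟩, rfl⟩
    · rintro ⟨z, rfl⟩
      apply Subtype.ext
      exact (Submodule.Quotient.mk_eq_zero I).2 z.2.2
  have hx1 : p.rTensor M x = 0 := by
    have h1 := FlatA.LocalCriterion.injective_of_flat_quotient (M := M) I K
    apply h1
    rw [map_zero, ← LinearMap.comp_apply, ← LinearMap.rTensor_comp]
    have h2 : K.subtype ∘ₗ p = mkI ∘ₗ a.subtype := rfl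
    rw [h2, LinearMap.rTensor_comp, LinearMap.comp_apply, hx, map_zero]
  obtain ⟨y, rfl⟩ := (rTensor_exact M hex hp x).1 hx1
  -- the image of `b` in `R/J`
  let mkJ : R →ₗ[R] (R ⧸ J) := Submodule.mkQ J
  let K' : Submodule R (R ⧸ J) := Submodule.map mkJ b
  let p' : b →ₗ[R] K' := (mkJ.comp b.subtype).codRestrict K' (fun y => Submodule.mem_map_of_mem y.2)
  have hp' : Function.Bijective p' := by
    constructor
    · rw [injective_iff_map_eq_zero]
      intro z hz
      have h1 : mkJ z.1 = 0 := congrArg Subtype.val hz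
      have h2 : z.1 ∈ J := (Submodule.Quotient.mk_eq_zero J).1 h1
      have h3 : z.1 ∈ I ⊓ J := ⟨z.2.2, h2⟩
      rw [hIJ, Submodule.mem_bot] at h3
      exact Subtype.ext h3
    · rintro ⟨_, y, hy, rfl⟩
      exact ⟨⟨y, hy⟩, rfl⟩
  let e := LinearEquiv.ofBijective p' hp'
  have hy : p'.rTensor M y = 0 := by
    have h1 := FlatA.LocalCriterion.injective_of_flat_quotient (M := M) J K'
    apply h1
    rw [map_zero, ← LinearMap.comp_apply, ← LinearMap.rTensor_comp]
    have h2 : K'.subtype ∘ₗ p' = mkJ ∘ₗ (a.subtype ∘ₗ ι) := rfl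
    rw [h2, LinearMap.rTensor_comp, LinearMap.comp_apply, LinearMap.rTensor_comp,
      LinearMap.comp_apply, hx, map_zero]
  have hy' : y = 0 := by
    have h1 : Function.Injective (p'.rTensor M) := (e.rTensor M).injective
    exact h1 (by rw [hy, map_zero])
  rw [hy', map_zero]

/-- Flatness modulo two ideals gives flatness modulo the intersection. -/
theorem flat_quotient_inf {R : Type u} {M : Type v} [CommRing R] [AddCommGroup M] [Module R M]
    (I J : Ideal R)
    (hI : Module.Flat (R ⧸ I) ((R ⧸ I) ⊗[R] M)) (hJ : Module.Flat (R ⧸ J) ((R ⧸ J) ⊗[R] M)) :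
    Module.Flat (R ⧸ (I ⊓ J)) ((R ⧸ (I ⊓ J)) ⊗[R] M) := by
  let R' := R ⧸ (I ⊓ J)
  have key : ∀ I₀ : Ideal R, I ⊓ J ≤ I₀ → Module.Flat (R ⧸ I₀) ((R ⧸ I₀) ⊗[R] M) →
      Module.Flat (R' ⧸ (I₀.map (algebraMap R R'))) ((R' ⧸ (I₀.map (algebraMap R R'))) ⊗[R'] (R' ⊗[R] M)) := by
    intro I₀ h0 h
    have h1 : I₀ ≤ RingHom.ker (algebraMap R (R' ⧸ (I₀.map (algebraMap R R')))) := by
      intro x hx
      rw [RingHom.mem_ker, IsScalarTower.algebraMap_apply R R' (R' ⧸ (I₀.map (algebraMap R R')))]
      exact Ideal.Quotient.eq_zero_iff_mem.2 (Ideal.mem_map_of_mem _ hx)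
    have h2 := Flat2A.MinFlatIdeal.flat_baseChange_of_le_ker h1 h
    exact Module.Flat.of_linearEquiv
      (TensorProduct.AlgebraTensorModule.cancelBaseChange R R' (R' ⧸ (I₀.map (algebraMap R R')))
        (R' ⧸ (I₀.map (algebraMap R R'))) M)
  refine flat_of_inf_eq_bot (I.map (algebraMap R R')) (J.map (algebraMap R R')) ?_
    (key I inf_le_left hI) (key J inf_le_right hJ)
  rw [eq_bot_iff]
  rintro x ⟨h1, h2⟩
  obtain ⟨y, hy, rfl⟩ := (Ideal.mem_map_iff_of_surjective _ Ideal.Quotient.mk_surjective).1 h1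
  obtain ⟨z, hz, hyz⟩ := (Ideal.mem_map_iff_of_surjective _ Ideal.Quotient.mk_surjective).1 h2
  have h3 : z - y ∈ I ⊓ J := Ideal.Quotient.eq.1 hyz
  have h4 : y ∈ J := by
    have := sub_mem hz h3.2
    rwa [sub_sub_cancel] at this
  rw [Submodule.mem_bot]
  exact Ideal.Quotient.eq_zero_iff_mem.2 ⟨hy, h4⟩

/-- Least flattening ideal, local source. -/
theorem exists_least_flat_ideal {L S N : Type u} [CommRing L] [IsLocalRing L] [IsNoetherianRing L]
    [IsAdicComplete (maximalIdeal L) L] [CommRing S] [IsLocalRing S] [IsNoetherianRing S]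
    [Algebra L S] [IsLocalHom (algebraMap L S)] [AddCommGroup N] [Module S N] [Module L N]
    [IsScalarTower L S N] [Module.Finite S N] :
    ∃ I : Ideal L, ∀ J : Ideal L, Module.Flat (L ⧸ J) ((L ⧸ J) ⊗[L] N) ↔ I ≤ J := by
  obtain ⟨I, hI, hmin⟩ := Flat2A.MinFlatIdeal.exists_minimal_flat_ideal (L := L) (S := S) (N := N)
  refine ⟨I, fun J => ⟨fun hJ => ?_, fun hJ => ?_⟩⟩
  · exact (hmin (flat_quotient_inf I J hI hJ) inf_le_left).trans inf_le_right
  · exact Flat2A.MinFlatIdeal.flat_quotient_mono hJ hI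

/-- Least flattening ideal above the closed point. -/
theorem exists_least_flat_ideal_above {R S : Type u} [CommRing R] [IsLocalRing R]
    [IsNoetherianRing R] [IsAdicComplete (maximalIdeal R) R] [CommRing S] [Algebra R S]
    [IsNoetherianRing S]
    (M : Type u) [AddCommGroup M] [Module S M] [Module R M] [IsScalarTower R S M]
    [Module.Finite S M] :
    ∃ I : Ideal R, I ≤ maximalIdeal R ∧
      ∀ J : Ideal R, (∀ (q : Ideal S) [q.IsPrime], q.comap (algebraMap R S) = maximalIdeal R →
        Module.Flat (R ⧸ J) ((R ⧸ J) ⊗[R] LocalizedModule q.primeCompl M)) ↔ I ≤ J := by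
  have key : ∀ q : {q : PrimeSpectrum S // q.asIdeal.comap (algebraMap R S) = maximalIdeal R},
      ∃ I : Ideal R, ∀ J : Ideal R, Module.Flat (R ⧸ J)
        ((R ⧸ J) ⊗[R] LocalizedModule q.1.asIdeal.primeCompl M) ↔ I ≤ J := by
    intro q
    have h0 : IsLocalHom (algebraMap R (Localization.AtPrime q.1.asIdeal)) := by
      have : q.1.asIdeal.LiesOver (maximalIdeal R) := ⟨q.2.symm⟩
      refine ((IsLocalRing.local_hom_TFAE _).out 0 4).2 ?_
      rw [IsScalarTower.algebraMap_eq R S (Localization.AtPrime q.1.asIdeal), ← Ideal.comap_comap]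
      have h1 : (maximalIdeal (Localization.AtPrime q.1.asIdeal)).comap
          (algebraMap S (Localization.AtPrime q.1.asIdeal)) = q.1.asIdeal :=
        Localization.AtPrime.under_maximalIdeal (I := q.1.asIdeal)
      rw [h1]
      exact q.2
    have h1 : Module.Finite (Localization.AtPrime q.1.asIdeal)
        (LocalizedModule q.1.asIdeal.primeCompl M) :=
      Module.Finite.of_isLocalizedModule q.1.asIdeal.primeCompl
        (LocalizedModule.mkLinearMap q.1.asIdeal.primeCompl M)
    have h2 : IsNoetherianRing (Localization.AtPrime q.1.asIdeal) :=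
      IsLocalization.isNoetherianRing q.1.asIdeal.primeCompl _ inferInstance
    exact exists_least_flat_ideal (L := R) (S := Localization.AtPrime q.1.asIdeal)
      (N := LocalizedModule q.1.asIdeal.primeCompl M)
  choose I hI using key
  refine ⟨⨆ q, I q, iSup_le fun q => ?_, fun J => ⟨fun h => iSup_le fun q => ?_, fun h q _ hq => ?_⟩⟩
  · rw [← hI q]
    let _ : Field (R ⧸ maximalIdeal R) := Ideal.Quotient.field _
    infer_instance
  · rw [← hI q]
    exact h q.1.asIdeal q.2
  · exact (hI ⟨⟨q, inferInstance⟩, hq⟩ J).2 ((le_iSup I _).trans h)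

end K249.FlatIdeal
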