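import Groth.Agent.FlatMor.K249.FlatTensorLoc
import Groth.Agent.FlatMor.K249.FlatIdeal
import Groth.Agent.Fdesc.ChevalleyAdic
import Groth.Agent.FlatA.ArtinianDescent

/-!
# Universal property of the least flattening ideal over a complete Noetherian local ring
-/

set_option autoImplicit false
set_option linter.style.haveILetI false
universe u

namespace K249.FlatIdealUniv

open TensorProduct IsLocalRing
open Groth.Agent

variable {R S R' S' : Type u} [CommRing R] [IsLocalRing R] [CommRing S]
    [CommRing R'] [IsLocalRing R'] [CommRing S']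
    [Algebra R S] [Algebra R R'] [IsLocalHom (algebraMap R R')] [Algebra S S'] [Algebra R' S'] [Algebra R S']
    [IsScalarTower R S S'] [IsScalarTower R R' S'] [Algebra.IsPushout R S R' S']
    {M M' : Type u} [AddCommGroup M] [Module S M] [Module R M] [IsScalarTower R S M]
    [AddCommGroup M'] [Module S' M'] [Module R' M'] [IsScalarTower R' S' M'] [Module S M'] [IsScalarTower S S' M']

omit [IsLocalRing R] [IsLocalRing R'] [IsLocalHom (algebraMap R R')] in
/-- the easy direction -/
theorem flatAt_of_le_ker (f : M →ₗ[S] M') (hf : IsBaseChange S' f) (I : Ideal R)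
    (hI : I ≤ RingHom.ker (algebraMap R R')) (q' : Ideal S') [q'.IsPrime]
    (h : Module.Flat (R ⧸ I) ((R ⧸ I) ⊗[R] LocalizedModule (q'.under S).primeCompl M)) :
    FlatCA.FlatAt R' q' M' :=
  (FlatTensorLoc.flat_tensor_localized_iff f hf (q'.under S)).1
    (Flat2A.MinFlatIdeal.flat_baseChange_of_le_ker hI h) q' le_rfl

/-- Over an Artinian local quotient of `R'`, flatness above the closed point descends to the image
of `R`. -/
theorem flat_quotient_of_flatAt [IsNoetherianRing R] (f : M →ₗ[S] M') (hf : IsBaseChange S' f)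
    (h : ∀ (q' : Ideal S') [q'.IsPrime], q'.comap (algebraMap R' S') = maximalIdeal R' →
      FlatCA.FlatAt R' q' M') (n : ℕ) (q : Ideal S) [q.IsPrime] :
    Module.Flat (R ⧸ RingHom.ker (algebraMap R (R' ⧸ maximalIdeal R' ^ n)))
      ((R ⧸ RingHom.ker (algebraMap R (R' ⧸ maximalIdeal R' ^ n))) ⊗[R]
        LocalizedModule q.primeCompl M) := by
  let A := R' ⧸ maximalIdeal R' ^ n
  let J : Ideal R := RingHom.ker (algebraMap R A)
  let L := LocalizedModule q.primeCompl M
  -- the pushout to `A`
  obtain ⟨SA, _, _, _, _, _, _, _⟩ := FlatAtDescent.exists_pushout_model (A₂ := R') (B₂ := S') A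
  obtain ⟨MA, _, _, _, _, g, hg⟩ := FlatAtDescent.exists_baseChange_model (B₂ := S') M' SA
  letI : Algebra S SA := ((algebraMap S' SA).comp (algebraMap S S')).toAlgebra
  letI : Algebra R SA := ((algebraMap S SA).comp (algebraMap R S)).toAlgebra
  haveI : IsScalarTower S S' SA := .of_algebraMap_eq' rfl
  haveI : IsScalarTower R S SA := .of_algebraMap_eq' rfl
  haveI : IsScalarTower R S' SA := .of_algebraMap_eq' (by
    change (algebraMap S SA).comp (algebraMap R S) = _
    rw [IsScalarTower.algebraMap_eq R S S', ← RingHom.comp_assoc]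
    rfl)
  haveI : IsScalarTower R R' SA := .of_algebraMap_eq' (by
    rw [IsScalarTower.algebraMap_eq R S' SA, IsScalarTower.algebraMap_eq R R' S',
      ← RingHom.comp_assoc, ← IsScalarTower.algebraMap_eq])
  haveI : IsScalarTower R A SA := .of_algebraMap_eq' (by
    rw [IsScalarTower.algebraMap_eq R R' SA, IsScalarTower.algebraMap_eq R' A SA,
      IsScalarTower.algebraMap_eq R R' A, ← RingHom.comp_assoc])
  haveI p3 : Algebra.IsPushout R S A SA := by
    have h1 : Algebra.IsPushout R R' S S' := .symm inferInstance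
    have h2 : Algebra.IsPushout R' A S' SA := .symm inferInstance
    exact ((Algebra.IsPushout.comp_iff R R' S S').2 h2).symm
  letI : Module S MA := Module.compHom MA (algebraMap S SA)
  haveI : IsScalarTower S SA MA := .of_algebraMap_smul fun _ _ => rfl
  letI : Module A MA := Module.compHom MA (algebraMap A SA)
  haveI : IsScalarTower A SA MA := .of_algebraMap_smul fun _ _ => rfl
  haveI : IsScalarTower S S' MA := .of_algebraMap_smul fun b x => by
    rw [← algebraMap_smul SA (algebraMap S S' b) x, ← IsScalarTower.algebraMap_apply]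
    rfl
  have hA : Module.Flat A (A ⊗[R] L) := by
    refine (FlatTensorLoc.flat_tensor_localized_iff (A₂ := A) ((g.restrictScalars S).comp f)
      (hf.comp hg) q).2 fun Q _ _ => ?_
    refine Flat2B.FlatDim.flatAt_baseChange (A₁ := R') g hg (Q.under S') Q (h (Q.under S') ?_)
    have h1 : (maximalIdeal R') ≤ (Q.under S').comap (algebraMap R' S') := by
      have h2 : maximalIdeal R' ^ n ≤ (Q.under S').comap (algebraMap R' S') := by
        intro x hx
        change algebraMap S' SA (algebraMap R' S' x) ∈ Q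
        rw [← IsScalarTower.algebraMap_apply, IsScalarTower.algebraMap_apply R' A SA]
        have : algebraMap R' A x = 0 := Ideal.Quotient.eq_zero_iff_mem.2 hx
        rw [this, map_zero]
        exact zero_mem _
      exact Ideal.IsPrime.le_of_pow_le h2
    exact ((maximalIdeal.isMaximal R').eq_of_le (Ideal.IsPrime.ne_top inferInstance) h1).symm
  -- descend to `R ⧸ J`
  letI : Algebra (R ⧸ J) A := (RingHom.kerLift (algebraMap R A)).toAlgebra
  haveI : IsScalarTower R (R ⧸ J) A := .of_algebraMap_eq' rfl
  have hinj : Function.Injective (algebraMap (R ⧸ J) A) := RingHom.kerLift_injective _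
  have hart : IsArtinianRing (R ⧸ J) := by
    have h1 : maximalIdeal R ^ n ≤ J := by
      rw [← Ideal.map_le_iff_le_comap.trans (by rfl : maximalIdeal R ^ n ≤ (⊥ : Ideal A).comap _ ↔
        maximalIdeal R ^ n ≤ J)]
      rw [IsScalarTower.algebraMap_eq R R' A, ← Ideal.map_map, Ideal.map_pow]
      have h2 : (maximalIdeal R).map (algebraMap R R') ≤ maximalIdeal R' :=
        ((IsLocalRing.local_hom_TFAE (algebraMap R R')).out 0 2).1 ‹_›
      refine (Ideal.map_mono (Ideal.pow_right_mono h2 n)).trans ?_
      rw [Ideal.map_le_iff_le_comap]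
      intro x hx
      exact Ideal.Quotient.eq_zero_iff_mem.2 hx
    have h2 : IsArtinianRing (R ⧸ maximalIdeal R ^ n) :=
      Fdesc.ChevalleyAdic.isArtinianRing_quotient_pow (A := R) n
    exact Function.Surjective.isArtinianRing (Ideal.Quotient.factor_surjective h1)
  have e : A ⊗[R ⧸ J] ((R ⧸ J) ⊗[R] L) ≃ₗ[A] A ⊗[R] L :=
    TensorProduct.AlgebraTensorModule.cancelBaseChange R (R ⧸ J) A A L
  have : Module.Flat A (A ⊗[R ⧸ J] ((R ⧸ J) ⊗[R] L)) := Module.Flat.of_linearEquiv e
  exact FlatA.ArtinianDescent.flat_of_baseChange_flat_of_injective (S := A) hinj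

/-- The hard direction for a Noetherian target. -/
theorem le_ker_of_flatAt [IsNoetherianRing R] [IsNoetherianRing R'] (f : M →ₗ[S] M')
    (hf : IsBaseChange S' f) (I : Ideal R)
    (hmin : ∀ J : Ideal R, (∀ (q : Ideal S) [q.IsPrime], q.comap (algebraMap R S) = maximalIdeal R →
        Module.Flat (R ⧸ J) ((R ⧸ J) ⊗[R] LocalizedModule q.primeCompl M)) → I ≤ J)
    (h : ∀ (q' : Ideal S') [q'.IsPrime], q'.comap (algebraMap R' S') = maximalIdeal R' →
      FlatCA.FlatAt R' q' M') : I ≤ RingHom.ker (algebraMap R R') := by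
  intro x hx
  rw [RingHom.mem_ker]
  have h1 : (⨅ n : ℕ, maximalIdeal R' ^ n) = ⊥ :=
    Ideal.iInf_pow_eq_bot_of_isLocalRing _ (Ideal.IsPrime.ne_top inferInstance)
  have h2 : algebraMap R R' x ∈ ⨅ n : ℕ, maximalIdeal R' ^ n := by
    rw [Submodule.mem_iInf]
    intro n
    have h3 := hmin _ (fun q _ _ => flat_quotient_of_flatAt f hf h n q) hx
    rw [RingHom.mem_ker, IsScalarTower.algebraMap_apply R R' (R' ⧸ maximalIdeal R' ^ n)] at h3
    exact Ideal.Quotient.eq_zero_iff_mem.1 h3
  rw [h1] at h2
  exact h2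

end K249.FlatIdealUniv
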