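import Groth.Agent.Fdesc.PureModel
import Groth.Agent.FlatMor.K249.FlatAtDescent
import Groth.Agent.FlatA.Model
import Groth.Agent.Flat2C.LocModel

/-!
# Flatness along a compact set of primes descends to a finitely generated subalgebra
-/

set_option autoImplicit false
set_option linter.style.haveILetI false
universe u

namespace K249.FlatStage

open TensorProduct
open Groth.Agent Groth.Agent.Fdesc.PureModel

section

variable {A₀ B₀ N₀ A B : Type u} [CommRing A₀] [CommRing B₀] [Algebra A₀ B₀] [AddCommGroup N₀] [Module A₀ N₀]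
  [Module B₀ N₀] [IsScalarTower A₀ B₀ N₀] [CommRing A] [Algebra A₀ A] [CommRing B] [Algebra A B] [Algebra B₀ B]
  [Algebra A₀ B] [IsScalarTower A₀ A B] [IsScalarTower A₀ B₀ B]

/-- Flatness along a compact set of primes descends to a finitely generated subalgebra. -/
theorem exists_fg_flat_compact [IsNoetherianRing A₀] [Algebra.FiniteType A₀ B₀] [Module.Finite B₀ N₀]
    [Algebra.IsPushout A₀ A B₀ B] {N : Type u} [AddCommGroup N] [Module B N] [Module A N] [Module B₀ N]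
    [IsScalarTower A B N] [IsScalarTower B₀ B N] (g : N₀ →ₗ[B₀] N) (hg : IsBaseChange B g)
    (E : Set (PrimeSpectrum B)) (hE : IsCompact E)
    (h : ∀ q ∈ E, Module.Flat A (LocalizedModule q.asIdeal.primeCompl N)) :
    ∃ (A' : Subalgebra A₀ A) (B₁ N₁ : Type u) (_ : CommRing B₁) (_ : Algebra A₀ B₁) (_ : Algebra A' B₁)
      (_ : Algebra B₀ B₁) (_ : Algebra B₁ B) (_ : IsScalarTower A₀ A' B₁) (_ : IsScalarTower A₀ B₀ B₁)
      (_ : Algebra.IsPushout A₀ A' B₀ B₁) (_ : IsScalarTower B₀ B₁ B) (_ : IsScalarTower A' B₁ B)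
      (_ : AddCommGroup N₁) (_ : Module B₀ N₁) (_ : Module A' N₁) (_ : Module B₁ N₁)
      (_ : IsScalarTower A' B₁ N₁) (_ : IsScalarTower B₀ B₁ N₁) (g₁ : N₀ →ₗ[B₀] N₁) (K : Ideal B₁),
      A'.FG ∧ IsBaseChange B₁ g₁ ∧
      (∀ (q : Ideal B₁) [q.IsPrime], ¬ K ≤ q → FlatCA.FlatAt A' q N₁) ∧
      (∀ q ∈ E, ¬ K ≤ q.asIdeal.comap (algebraMap B₁ B)) := by
  let ι := {A' : Subalgebra A₀ A // A'.FG}
  have : Nonempty ι := ⟨⟨⊥, Subalgebra.fg_bot⟩⟩
  obtain ⟨⟨A', hA'⟩, hFA'⟩ := hE.elim_directed_cover (fun A' : ι => V (B₀ := B₀) N₀ B A'.1)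
    (fun A' => isOpen_V A'.1) (by
      intro q hq
      obtain ⟨A', hA', hq'⟩ := exists_mem_V (A₀ := A₀) g hg q (h q hq)
      exact Set.mem_iUnion.mpr ⟨⟨A', hA'⟩, hq'⟩) (by
      intro A' A''
      exact ⟨⟨A'.1 ⊔ A''.1, A'.2.sup A''.2⟩, V_mono le_sup_left, V_mono le_sup_right⟩)
  obtain ⟨B₁, N₁, _, _, _, _, _, _, _, _, _, _, _, _, _, _, _, _, g₁, hg₁, h1, h2⟩ :=
    exists_level (A₀ := A₀) (B₀ := B₀) (N₀ := N₀) (A := A) (B := B) A'
  have hopen := Groth.Agent.S0387.result (R := A') (S := B₁) (M := N₁)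
  obtain ⟨K, hK⟩ := (PrimeSpectrum.isClosed_iff_zeroLocus_ideal _).1 hopen.isClosed_compl
  refine ⟨A', B₁, N₁, inferInstance, inferInstance, inferInstance, inferInstance, inferInstance,
    inferInstance, inferInstance, inferInstance, inferInstance, inferInstance, inferInstance,
    inferInstance, inferInstance, inferInstance, inferInstance, inferInstance, g₁, K, hA', hg₁,
    ?_, ?_⟩
  · intro q _ hq
    by_contra hcon
    have h3 : (⟨q, inferInstance⟩ : PrimeSpectrum B₁) ∈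
        {q : PrimeSpectrum B₁ | Module.Flat A' (LocalizedModule q.asIdeal.primeCompl N₁)}ᶜ := hcon
    rw [hK] at h3
    exact hq h3
  · intro q hq hcon
    have h3 : PrimeSpectrum.comap (algebraMap B₁ B) q ∈ PrimeSpectrum.zeroLocus (K : Set B₁) := hcon
    rw [← hK] at h3
    exact h3 (hFA' hq B₁ N₁ g₁ hg₁)

end

end K249.FlatStage
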