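import Groth.Agent.FlatMor.K249.FlatAtDescent

/-!
# Transfer of flatness at a prime from a model over a smaller ring, with a flat map on the source
-/

set_option autoImplicit false
set_option linter.style.haveILetI false
universe u

namespace K249.FlatStage2

open TensorProduct
open Groth.Agent

/-- lift of a linear map along a base change, as a base change -/
theorem exists_lift_isBaseChange {A B C M N P : Type u} [CommRing A] [CommRing B] [CommRing C]
    [Algebra A B] [Algebra B C] [Algebra A C] [IsScalarTower A B C]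
    [AddCommGroup M] [Module A M] [AddCommGroup N] [Module B N] [Module A N] [IsScalarTower A B N]
    [AddCommGroup P] [Module C P] [Module B P] [Module A P] [IsScalarTower B C P]
    [IsScalarTower A C P] [IsScalarTower A B P]
    (f : M →ₗ[A] N) (hf : IsBaseChange B f) (h : M →ₗ[A] P) (hh : IsBaseChange C h) :
    ∃ g : N →ₗ[B] P, IsBaseChange C g ∧ ∀ x, g (f x) = h x := by
  refine ⟨hf.lift h, ?_, fun x => hf.lift_eq h x⟩
  apply IsBaseChange.of_comp hf
  rw [hf.lift_comp]
  exact hh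

/-- Flatness at a prime passes to a base change followed by a flat map on the source. -/
theorem flatAt_of_flat_over_pushout {A₁ B₁ A₂ C B₂ N₁ N₂ : Type u} [CommRing A₁] [CommRing B₁]
    [CommRing A₂] [CommRing C] [CommRing B₂] [Algebra A₁ B₁] [Algebra A₁ A₂] [Algebra B₁ C]
    [Algebra A₂ C] [Algebra A₁ C] [IsScalarTower A₁ B₁ C] [IsScalarTower A₁ A₂ C]
    [Algebra.IsPushout A₁ B₁ A₂ C] [Algebra C B₂] [Algebra A₂ B₂] [IsScalarTower A₂ C B₂]
    [Module.Flat C B₂] [AddCommGroup N₁] [Module B₁ N₁] [Module A₁ N₁] [IsScalarTower A₁ B₁ N₁]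
    [AddCommGroup N₂] [Module B₂ N₂] [Module A₂ N₂] [IsScalarTower A₂ B₂ N₂]
    [Algebra B₁ B₂] [IsScalarTower B₁ C B₂] [Module B₁ N₂] [IsScalarTower B₁ B₂ N₂]
    (f : N₁ →ₗ[B₁] N₂) (hf : IsBaseChange B₂ f)
    (Q₂ : Ideal B₂) [Q₂.IsPrime]
    (h : ∀ (Q₁ : Ideal B₁) [Q₁.IsPrime],
      Q₁ = Q₂.comap (algebraMap B₁ B₂) → FlatCA.FlatAt A₁ Q₁ N₁) :
    FlatCA.FlatAt A₂ Q₂ N₂ := by
  letI : Module C N₂ := Module.compHom N₂ (algebraMap C B₂)
  haveI : IsScalarTower C B₂ N₂ := .of_algebraMap_smul fun _ _ => rfl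
  haveI : IsScalarTower B₁ C N₂ := .of_algebraMap_smul fun b x => by
    change algebraMap C B₂ (algebraMap B₁ C b) • x = _
    rw [← IsScalarTower.algebraMap_apply, algebraMap_smul]
  haveI : IsScalarTower A₂ C N₂ := .of_algebraMap_smul fun a x => by
    rw [← algebraMap_smul B₂ (algebraMap A₂ C a) x, ← IsScalarTower.algebraMap_apply,
      algebraMap_smul]
  obtain ⟨NC, _, _, _, _, u, hu⟩ := FlatAtDescent.exists_baseChange_model (B₂ := B₁) N₁ C
  letI : Module A₂ NC := Module.compHom NC (algebraMap A₂ C)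
  haveI : IsScalarTower A₂ C NC := .of_algebraMap_smul fun _ _ => rfl
  obtain ⟨v, hv, -⟩ := exists_lift_isBaseChange (A := B₁) (B := C) (C := B₂) u hu f hf
  let QC : Ideal C := Q₂.under C
  haveI : Q₂.LiesOver QC := ⟨rfl⟩
  rw [← Flat2C.FlatAt.flatAt_iff_of_isBaseChange (R := A₂) v QC Q₂ hv]
  haveI : QC.LiesOver (QC.under B₁) := ⟨rfl⟩
  refine Flat2B.FlatDim.flatAt_baseChange u hu (QC.under B₁) QC (h (QC.under B₁) ?_)
  change (Q₂.comap (algebraMap C B₂)).comap (algebraMap B₁ C) = _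
  rw [Ideal.comap_comap, ← IsScalarTower.algebraMap_eq]

end K249.FlatStage2
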