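import Groth.Agent.FlatMor.K249.FlatStage2

/-!
# Transfer of flatness from a model at a finite stage
-/

set_option autoImplicit false
set_option linter.style.haveILetI false
universe u

namespace K249.FlatStage3

open TensorProduct
open Groth.Agent

/-- `B₀` an `A₀`-algebra with module `P₀`; `S₀ = R ⊗ B₀`, `N₀` its base change, `S` flat over `S₀`, `M` the
base change of `N₀`; `B₁ = A₁ ⊗ B₀`, `P₁` its base change; `T` an `R`-algebra and an `A₁`-algebra, `Si = S ⊗ T`.
Flatness of `P₁` over `A₁` at the contraction of `Q` gives flatness of `M ⊗ T` over `T` at `Q`. -/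
theorem flatAt_transfer
    {A₀ B₀ P₀ R S₀ N₀ S M A₁ B₁ P₁ T Si Mi : Type u}
    [CommRing A₀] [CommRing B₀] [Algebra A₀ B₀] [AddCommGroup P₀] [Module B₀ P₀]
    [CommRing R] [Algebra A₀ R] [CommRing S₀] [Algebra R S₀] [Algebra B₀ S₀] [Algebra A₀ S₀]
    [IsScalarTower A₀ R S₀] [IsScalarTower A₀ B₀ S₀] [Algebra.IsPushout A₀ B₀ R S₀]
    [AddCommGroup N₀] [Module S₀ N₀] [Module B₀ N₀] [IsScalarTower B₀ S₀ N₀]
    (g₀ : P₀ →ₗ[B₀] N₀) (hg₀ : IsBaseChange S₀ g₀)
    [CommRing S] [Algebra S₀ S] [Algebra R S] [IsScalarTower R S₀ S] [Module.Flat S₀ S]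
    [AddCommGroup M] [Module S M] [Module S₀ M] [IsScalarTower S₀ S M]
    (φ : N₀ →ₗ[S₀] M) (hφ : IsBaseChange S φ)
    [CommRing A₁] [Algebra A₀ A₁] [CommRing B₁] [Algebra A₁ B₁] [Algebra B₀ B₁] [Algebra A₀ B₁]
    [IsScalarTower A₀ A₁ B₁] [IsScalarTower A₀ B₀ B₁] [Algebra.IsPushout A₀ A₁ B₀ B₁]
    [AddCommGroup P₁] [Module B₁ P₁] [Module B₀ P₁] [IsScalarTower B₀ B₁ P₁] [Module A₁ P₁]
    [IsScalarTower A₁ B₁ P₁] (g₁ : P₀ →ₗ[B₀] P₁) (hg₁ : IsBaseChange B₁ g₁)
    [CommRing T] [Algebra R T] [Algebra A₁ T] [Algebra A₀ T] [IsScalarTower A₀ R T]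
    [IsScalarTower A₀ A₁ T]
    [CommRing Si] [Algebra S Si] [Algebra T Si] [Algebra R Si] [IsScalarTower R S Si]
    [IsScalarTower R T Si] [Algebra.IsPushout R S T Si]
    [AddCommGroup Mi] [Module Si Mi] [Module S Mi] [IsScalarTower S Si Mi] [Module T Mi]
    [IsScalarTower T Si Mi] (f : M →ₗ[S] Mi) (hf : IsBaseChange Si f)
    (θ : B₁ →+* Si) (hθ1 : θ.comp (algebraMap A₁ B₁) = (algebraMap T Si).comp (algebraMap A₁ T))
    (hθ2 : θ.comp (algebraMap B₀ B₁) =
      (algebraMap S Si).comp ((algebraMap S₀ S).comp (algebraMap B₀ S₀)))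
    (Q : Ideal Si) [Q.IsPrime]
    (h : ∀ (Q₁ : Ideal B₁) [Q₁.IsPrime], Q₁ = Q.comap θ → FlatCA.FlatAt A₁ Q₁ P₁) :
    FlatCA.FlatAt T Q Mi := by
  -- the pushout `C = S₀ ⊗ T`
  obtain ⟨C, _, _, _, _, _, _, _⟩ := FlatAtDescent.exists_pushout_model (A₂ := R) (B₂ := S₀) T
  letI : Algebra S₀ Si := ((algebraMap S Si).comp (algebraMap S₀ S)).toAlgebra
  haveI : IsScalarTower S₀ S Si := .of_algebraMap_eq' rfl
  haveI : IsScalarTower R S₀ Si := .of_algebraMap_eq' (by
    change algebraMap R Si = ((algebraMap S Si).comp (algebraMap S₀ S)).comp (algebraMap R S₀)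
    rw [RingHom.comp_assoc, ← IsScalarTower.algebraMap_eq R S₀ S, ← IsScalarTower.algebraMap_eq])
  let κ : C →ₐ[R] Si := Algebra.pushoutDesc C (IsScalarTower.toAlgHom R S₀ Si)
    (IsScalarTower.toAlgHom R T Si) (fun x y => mul_comm _ _)
  letI : Algebra C Si := κ.toRingHom.toAlgebra
  haveI : IsScalarTower S₀ C Si := .of_algebraMap_eq' (RingHom.ext fun x =>
    (Algebra.pushoutDesc_left C (IsScalarTower.toAlgHom R S₀ Si)
      (IsScalarTower.toAlgHom R T Si) (fun x y => mul_comm _ _) x).symm)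
  haveI : IsScalarTower T C Si := .of_algebraMap_eq' (RingHom.ext fun x =>
    (Algebra.pushoutDesc_right C (IsScalarTower.toAlgHom R S₀ Si)
      (IsScalarTower.toAlgHom R T Si) (fun x y => mul_comm _ _) x).symm)
  haveI p1 : Algebra.IsPushout S₀ S C Si := by
    have h1 : Algebra.IsPushout R S₀ T C := inferInstance
    have h2 : Algebra.IsPushout R S T Si := inferInstance
    exact (Algebra.IsPushout.comp_iff R S₀ T C).1 h2
  haveI : Module.Flat C Si := Module.Flat.isBaseChange S₀ C S Si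
    (p1.symm.out)
  -- `B₁ → C`
  letI : Algebra A₀ C := ((algebraMap T C).comp (algebraMap A₀ T)).toAlgebra
  haveI : IsScalarTower A₀ T C := .of_algebraMap_eq' rfl
  haveI : IsScalarTower A₀ R C := .of_algebraMap_eq' (by
    rw [IsScalarTower.algebraMap_eq A₀ T C, IsScalarTower.algebraMap_eq A₀ R T,
      IsScalarTower.algebraMap_eq R T C, RingHom.comp_assoc])
  letI : Algebra B₀ C := ((algebraMap S₀ C).comp (algebraMap B₀ S₀)).toAlgebra
  haveI : IsScalarTower B₀ S₀ C := .of_algebraMap_eq' rfl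
  haveI : IsScalarTower A₀ S₀ C := .of_algebraMap_eq' (by
    rw [IsScalarTower.algebraMap_eq A₀ R C, IsScalarTower.algebraMap_eq A₀ R S₀,
      IsScalarTower.algebraMap_eq R S₀ C, RingHom.comp_assoc])
  haveI : IsScalarTower A₀ B₀ C := .of_algebraMap_eq' (by
    change _ = ((algebraMap S₀ C).comp (algebraMap B₀ S₀)).comp (algebraMap A₀ B₀)
    rw [RingHom.comp_assoc, ← IsScalarTower.algebraMap_eq A₀ B₀ S₀, ← IsScalarTower.algebraMap_eq])
  letI : Algebra A₁ C := ((algebraMap T C).comp (algebraMap A₁ T)).toAlgebra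
  haveI : IsScalarTower A₁ T C := .of_algebraMap_eq' rfl
  haveI : IsScalarTower A₀ A₁ C := .of_algebraMap_eq' (by
    change _ = ((algebraMap T C).comp (algebraMap A₁ T)).comp (algebraMap A₀ A₁)
    rw [RingHom.comp_assoc, ← IsScalarTower.algebraMap_eq A₀ A₁ T, ← IsScalarTower.algebraMap_eq])
  let ρ : B₁ →ₐ[A₀] C := Algebra.pushoutDesc B₁ (IsScalarTower.toAlgHom A₀ A₁ C)
    (IsScalarTower.toAlgHom A₀ B₀ C) (fun x y => mul_comm _ _)
  letI : Algebra B₁ C := ρ.toRingHom.toAlgebra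
  haveI : IsScalarTower A₁ B₁ C := .of_algebraMap_eq' (RingHom.ext fun x =>
    (Algebra.pushoutDesc_left B₁ (IsScalarTower.toAlgHom A₀ A₁ C)
      (IsScalarTower.toAlgHom A₀ B₀ C) (fun x y => mul_comm _ _) x).symm)
  haveI : IsScalarTower B₀ B₁ C := .of_algebraMap_eq' (RingHom.ext fun x =>
    (Algebra.pushoutDesc_right B₁ (IsScalarTower.toAlgHom A₀ A₁ C)
      (IsScalarTower.toAlgHom A₀ B₀ C) (fun x y => mul_comm _ _) x).symm)
  haveI p2 : Algebra.IsPushout A₀ B₀ T C := by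
    have h1 : Algebra.IsPushout A₀ R B₀ S₀ := .symm inferInstance
    have h2 : Algebra.IsPushout R T S₀ C := .symm inferInstance
    exact ((Algebra.IsPushout.comp_iff A₀ R B₀ S₀).2 h2).symm
  haveI p3 : Algebra.IsPushout A₁ B₁ T C := by
    have h1 : Algebra.IsPushout A₀ A₁ B₀ B₁ := inferInstance
    have h2 : Algebra.IsPushout A₀ T B₀ C := p2.symm
    exact ((Algebra.IsPushout.comp_iff A₀ A₁ B₀ B₁).1 h2).symm
  -- `B₁ → C → Si` is `θ`
  have hθ : (algebraMap C Si).comp (algebraMap B₁ C) = θ := by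
    letI : Algebra A₀ Si := ((algebraMap C Si).comp (algebraMap A₀ C)).toAlgebra
    let θ₁ : B₁ →ₐ[A₀] Si := { (algebraMap C Si).comp (algebraMap B₁ C) with
      commutes' := fun x => by
        change algebraMap C Si (ρ (algebraMap A₀ B₁ x)) = _
        rw [ρ.commutes]
        rfl }
    let θ₂ : B₁ →ₐ[A₀] Si := { θ with
      commutes' := fun x => by
        change θ (algebraMap A₀ B₁ x) = algebraMap C Si (algebraMap T C (algebraMap A₀ T x))
        rw [IsScalarTower.algebraMap_apply A₀ A₁ B₁, ← IsScalarTower.algebraMap_apply T C Si,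
          IsScalarTower.algebraMap_apply A₀ A₁ T]
        exact RingHom.congr_fun hθ1 _ }
    have h3 : θ₁ = θ₂ := by
      apply Algebra.IsPushout.algHom_ext (R := A₀) (S := A₁) (R' := B₀) (S' := B₁)
      · ext x
        change algebraMap C Si (algebraMap B₁ C (algebraMap B₀ B₁ x)) = θ (algebraMap B₀ B₁ x)
        rw [← IsScalarTower.algebraMap_apply B₀ B₁ C, IsScalarTower.algebraMap_apply B₀ S₀ C,
          ← IsScalarTower.algebraMap_apply S₀ C Si]
        exact (RingHom.congr_fun hθ2 x).symm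
      · ext x
        change algebraMap C Si (algebraMap B₁ C (algebraMap A₁ B₁ x)) = θ (algebraMap A₁ B₁ x)
        rw [← IsScalarTower.algebraMap_apply A₁ B₁ C, IsScalarTower.algebraMap_apply A₁ T C,
          ← IsScalarTower.algebraMap_apply T C Si]
        exact (RingHom.congr_fun hθ1 x).symm
    exact congrArg AlgHom.toRingHom h3
  -- modules
  letI : Module S₀ Mi := Module.compHom Mi (algebraMap S₀ Si)
  haveI : IsScalarTower S₀ Si Mi := .of_algebraMap_smul fun _ _ => rfl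
  haveI : IsScalarTower S₀ S Mi := .of_algebraMap_smul fun a x => by
    rw [← algebraMap_smul Si (algebraMap S₀ S a) x]
    rfl
  have h1 : IsBaseChange Si ((f.restrictScalars S₀).comp φ) := hφ.comp hf
  letI : Algebra B₀ Si := ((algebraMap S₀ Si).comp (algebraMap B₀ S₀)).toAlgebra
  haveI : IsScalarTower B₀ S₀ Si := .of_algebraMap_eq' rfl
  letI : Module B₀ Mi := Module.compHom Mi (algebraMap B₀ Si)
  haveI : IsScalarTower B₀ Si Mi := .of_algebraMap_smul fun _ _ => rfl
  haveI : IsScalarTower B₀ S₀ Mi := .of_algebraMap_smul fun a x => rfl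
  have h2 : IsBaseChange Si ((((f.restrictScalars S₀).comp φ).restrictScalars B₀).comp g₀) :=
    hg₀.comp h1
  letI : Algebra B₁ Si := θ.toAlgebra
  haveI : IsScalarTower B₀ B₁ Si := .of_algebraMap_eq' (by
    change _ = θ.comp _
    rw [hθ2]
    rfl)
  letI : Module B₁ Mi := Module.compHom Mi (algebraMap B₁ Si)
  haveI : IsScalarTower B₁ Si Mi := .of_algebraMap_smul fun _ _ => rfl
  haveI : IsScalarTower B₀ B₁ Mi := .of_algebraMap_smul fun a x => by
    rw [← algebraMap_smul Si (algebraMap B₀ B₁ a) x, ← IsScalarTower.algebraMap_apply,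
      algebraMap_smul]
  obtain ⟨v, hv, -⟩ := FlatStage2.exists_lift_isBaseChange (A := B₀) (B := B₁) (C := Si) g₁ hg₁ _ h2
  haveI : IsScalarTower B₁ C Si := .of_algebraMap_eq' hθ.symm
  exact FlatStage2.flatAt_of_flat_over_pushout (A₁ := A₁) (B₁ := B₁) (A₂ := T) (C := C) (B₂ := Si)
    v hv Q h

end K249.FlatStage3
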