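import Groth.Agent.FlatMor.K249.FlatStage
import Groth.Agent.FlatMor.K249.FlatStage3
import Groth.Agent.FlatMor.K249.DirColimTensor
import Groth.Agent.Fdesc.DirColimLift

/-!
# Flatness above a closed subset descends to a stage of a directed colimit
-/

set_option autoImplicit false
set_option linter.style.haveILetI false
universe u

namespace K249.FlatStage4

open TensorProduct
open Groth.Agent

/-- Noetherian models, abstract form -/
theorem exists_model_abs {R S M : Type u} [CommRing R] [CommRing S] [Algebra R S]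
    [Algebra.FinitePresentation R S] [AddCommGroup M] [Module S M]
    [Module.FinitePresentation S M] :
    ∃ (A₀ B₀ P₀ : Type u) (_ : CommRing A₀) (_ : CommRing B₀) (_ : Algebra A₀ B₀)
      (_ : Algebra A₀ R) (_ : Algebra B₀ S) (_ : Algebra A₀ S) (_ : IsScalarTower A₀ R S)
      (_ : IsScalarTower A₀ B₀ S) (_ : AddCommGroup P₀) (_ : Module B₀ P₀)
      (_ : Module A₀ P₀) (_ : IsScalarTower A₀ B₀ P₀) (_ : Module B₀ M) (_ : IsScalarTower B₀ S M)
      (g : P₀ →ₗ[B₀] M),
      Algebra.FiniteType ℤ A₀ ∧ Algebra.IsPushout A₀ R B₀ S ∧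
      Algebra.FiniteType A₀ B₀ ∧ Module.Finite B₀ P₀ ∧ IsBaseChange S g := by
  obtain ⟨R₀, S₀, M₀, _, _, _, _, _, _, _, _, _, _, g, h1, -, h3, h4, -, h6, h7⟩ :=
    FlatA.Model.exists_model (R := R) (S := S) (M := M) ∅ ∅
  exact ⟨R₀, S₀, M₀, inferInstance, inferInstance, inferInstance, inferInstance, inferInstance,
    inferInstance, inferInstance, inferInstance, inferInstance, inferInstance, inferInstance,
    inferInstance, inferInstance, inferInstance, g, R₀.fg_iff_finiteType.mp h1, h3, inferInstance,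
    inferInstance, h7⟩

/-- Ring homomorphisms out of a pushout are determined on the two factors. -/
theorem ringHom_ext_of_isPushout {A₀ A₁ B₀ B₁ T : Type u} [CommRing A₀] [CommRing A₁] [CommRing B₀]
    [CommRing B₁] [Algebra A₀ A₁] [Algebra A₀ B₀] [Algebra A₁ B₁] [Algebra B₀ B₁] [Algebra A₀ B₁]
    [IsScalarTower A₀ A₁ B₁] [IsScalarTower A₀ B₀ B₁] [Algebra.IsPushout A₀ A₁ B₀ B₁] [CommRing T]
    (f g : B₁ →+* T) (h1 : f.comp (algebraMap A₁ B₁) = g.comp (algebraMap A₁ B₁))
    (h2 : f.comp (algebraMap B₀ B₁) = g.comp (algebraMap B₀ B₁)) : f = g := by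
  letI : Algebra A₀ T := (f.comp (algebraMap A₀ B₁)).toAlgebra
  let f' : B₁ →ₐ[A₀] T := { f with commutes' := fun x => rfl }
  let g' : B₁ →ₐ[A₀] T := { g with
    commutes' := fun x => by
      change g (algebraMap A₀ B₁ x) = f (algebraMap A₀ B₁ x)
      rw [IsScalarTower.algebraMap_apply A₀ A₁ B₁]
      exact (RingHom.congr_fun h1 _).symm }
  have h3 : f' = g' := by
    apply Algebra.IsPushout.algHom_ext (R := A₀) (S := A₁) (R' := B₀) (S' := B₁)
    · ext x
      exact RingHom.congr_fun h2 x
    · ext x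
      exact RingHom.congr_fun h1 x
  exact congrArg AlgHom.toRingHom h3

section stage

variable {ι : Type u} [Preorder ι] (G : ι → Type u) [∀ i, CommRing (G i)]
    (g : ∀ i j, i ≤ j → G i →+* G j) {A : Type u} [CommRing A] [∀ i, Algebra (G i) A]

/-- Two maps from a finitely generated `ℤ`-algebra to a stage which agree in the colimit agree at a
later stage. -/
theorem exists_stage_eq (h : FlatCA.IsDirectedColimitRing G g A) {R : Type u} [CommRing R]
    [Algebra.FiniteType ℤ R] (i : ι) (u v : R →+* G i)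
    (huv : (algebraMap (G i) A).comp u = (algebraMap (G i) A).comp v) :
    ∃ (j : ι) (hij : i ≤ j), (g i j hij).comp u = (g i j hij).comp v := by
  classical
  obtain ⟨s, hs⟩ := (inferInstance : Algebra.FiniteType ℤ R).out
  obtain ⟨j, hij, hj⟩ := Fdesc.DirColimLift.exists_stage_zero G g h i
    (s.image fun x => u x - v x) (by
      intro x hx
      obtain ⟨y, hy, rfl⟩ := Finset.mem_image.1 hx
      have := RingHom.congr_fun huv y
      rw [RingHom.comp_apply, RingHom.comp_apply] at this
      rw [map_sub, this, sub_self])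
  refine ⟨j, hij, ?_⟩
  let E : Subalgebra ℤ R := AlgHom.equalizer ((g i j hij).comp u).toIntAlgHom
    ((g i j hij).comp v).toIntAlgHom
  have hE : E = ⊤ := by
    rw [eq_top_iff, ← hs]
    refine Algebra.adjoin_le fun x hx => ?_
    have h1 := hj (u x - v x) (Finset.mem_image_of_mem _ hx)
    rw [map_sub, sub_eq_zero] at h1
    exact h1
  ext x
  have : x ∈ E := by rw [hE]; trivial
  exact this

end stage

end K249.FlatStage4
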