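import Groth.Agent.FlatMor.K249.FlatStage4

/-!
# Flatness above a closed subset descends to a finitely generated subalgebra (essentially finitely
presented case)
-/

set_option autoImplicit false
set_option linter.style.haveILetI false
universe u

namespace K249.FlatStage5

open TensorProduct
open Groth.Agent

theorem exists_level_model
    {A₀ B₀ P₀ R S₀ N₀ S M R' S' M' : Type u}
    [CommRing A₀] [IsNoetherianRing A₀] [CommRing B₀] [Algebra A₀ B₀] [Algebra.FiniteType A₀ B₀]
    [AddCommGroup P₀] [Module B₀ P₀] [Module A₀ P₀] [IsScalarTower A₀ B₀ P₀] [Module.Finite B₀ P₀]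
    [CommRing R] [Algebra A₀ R] [CommRing S₀] [Algebra R S₀] [Algebra B₀ S₀] [Algebra A₀ S₀]
    [IsScalarTower A₀ R S₀] [IsScalarTower A₀ B₀ S₀] [Algebra.IsPushout A₀ B₀ R S₀]
    [AddCommGroup N₀] [Module S₀ N₀] [Module B₀ N₀] [IsScalarTower B₀ S₀ N₀]
    (g₀ : P₀ →ₗ[B₀] N₀) (hg₀ : IsBaseChange S₀ g₀)
    [CommRing S] [Algebra S₀ S] [Algebra R S] [IsScalarTower R S₀ S] [Module.Flat S₀ S]
    [AddCommGroup M] [Module S M] [Module S₀ M] [IsScalarTower S₀ S M]
    (φ : N₀ →ₗ[S₀] M) (hφ : IsBaseChange S φ)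
    [CommRing R'] [Algebra R R'] [Algebra A₀ R'] [IsScalarTower A₀ R R']
    [CommRing S'] [Algebra S S'] [Algebra R' S'] [Algebra R S'] [IsScalarTower R S S']
    [IsScalarTower R R' S'] [Algebra.IsPushout R S R' S']
    [AddCommGroup M'] [Module S' M'] [Module S M'] [IsScalarTower S S' M'] [Module R' M']
    [IsScalarTower R' S' M'] (f : M →ₗ[S] M') (hf : IsBaseChange S' f)
    (I₀ : Ideal S') (h : ∀ (q' : Ideal S') [q'.IsPrime], I₀ ≤ q' → FlatCA.FlatAt R' q' M') :
    ∃ (A₁ B₁ P₁ : Type u) (_ : CommRing A₁) (_ : Algebra A₀ A₁) (_ : Algebra A₁ R')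
      (_ : IsScalarTower A₀ A₁ R') (_ : CommRing B₁) (_ : Algebra A₀ B₁) (_ : Algebra A₁ B₁)
      (_ : Algebra B₀ B₁) (_ : IsScalarTower A₀ A₁ B₁) (_ : IsScalarTower A₀ B₀ B₁)
      (_ : Algebra.IsPushout A₀ A₁ B₀ B₁) (_ : AddCommGroup P₁) (_ : Module B₀ P₁)
      (_ : Module A₁ P₁) (_ : Module B₁ P₁) (_ : IsScalarTower A₁ B₁ P₁)
      (_ : IsScalarTower B₀ B₁ P₁) (g₁ : P₀ →ₗ[B₀] P₁) (K : Ideal B₁) (θ : B₁ →+* S'),
      Algebra.FiniteType A₀ A₁ ∧ IsBaseChange B₁ g₁ ∧
      θ.comp (algebraMap A₁ B₁) = (algebraMap R' S').comp (algebraMap A₁ R') ∧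
      θ.comp (algebraMap B₀ B₁) =
        (algebraMap S S').comp ((algebraMap S₀ S).comp (algebraMap B₀ S₀)) ∧
      (∀ (Q : Ideal B₁) [Q.IsPrime], ¬ K ≤ Q → FlatCA.FlatAt A₁ Q P₁) ∧
      (∀ (q' : Ideal S') [q'.IsPrime], I₀ ≤ q' → ¬ K ≤ q'.comap θ) := by
  -- the pushout `C = S₀ ⊗ R'`
  obtain ⟨C, _, _, _, _, _, _, _⟩ := FlatAtDescent.exists_pushout_model (A₂ := R) (B₂ := S₀) R'
  letI : Algebra S₀ S' := ((algebraMap S S').comp (algebraMap S₀ S)).toAlgebra
  haveI : IsScalarTower S₀ S S' := .of_algebraMap_eq' rfl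
  haveI : IsScalarTower R S₀ S' := .of_algebraMap_eq' (by
    change algebraMap R S' = ((algebraMap S S').comp (algebraMap S₀ S)).comp (algebraMap R S₀)
    rw [RingHom.comp_assoc, ← IsScalarTower.algebraMap_eq R S₀ S, ← IsScalarTower.algebraMap_eq])
  let κ : C →ₐ[R] S' := Algebra.pushoutDesc C (IsScalarTower.toAlgHom R S₀ S')
    (IsScalarTower.toAlgHom R R' S') (fun x y => mul_comm _ _)
  letI : Algebra C S' := κ.toRingHom.toAlgebra
  haveI : IsScalarTower S₀ C S' := .of_algebraMap_eq' (RingHom.ext fun x =>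
    (Algebra.pushoutDesc_left C (IsScalarTower.toAlgHom R S₀ S')
      (IsScalarTower.toAlgHom R R' S') (fun x y => mul_comm _ _) x).symm)
  haveI : IsScalarTower R' C S' := .of_algebraMap_eq' (RingHom.ext fun x =>
    (Algebra.pushoutDesc_right C (IsScalarTower.toAlgHom R S₀ S')
      (IsScalarTower.toAlgHom R R' S') (fun x y => mul_comm _ _) x).symm)
  haveI p1 : Algebra.IsPushout S₀ S C S' := by
    have h1 : Algebra.IsPushout R S₀ R' C := inferInstance
    have h2 : Algebra.IsPushout R S R' S' := inferInstance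
    exact (Algebra.IsPushout.comp_iff R S₀ R' C).1 h2
  haveI : Module.Flat C S' := Module.Flat.isBaseChange S₀ C S S'
    (p1.symm.out)
  letI : Algebra A₀ C := ((algebraMap R' C).comp (algebraMap A₀ R')).toAlgebra
  haveI : IsScalarTower A₀ R' C := .of_algebraMap_eq' rfl
  haveI : IsScalarTower A₀ R C := .of_algebraMap_eq' (by
    rw [IsScalarTower.algebraMap_eq A₀ R' C, IsScalarTower.algebraMap_eq A₀ R R',
      IsScalarTower.algebraMap_eq R R' C, RingHom.comp_assoc])
  letI : Algebra B₀ C := ((algebraMap S₀ C).comp (algebraMap B₀ S₀)).toAlgebra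
  haveI : IsScalarTower B₀ S₀ C := .of_algebraMap_eq' rfl
  haveI : IsScalarTower A₀ S₀ C := .of_algebraMap_eq' (by
    rw [IsScalarTower.algebraMap_eq A₀ R C, IsScalarTower.algebraMap_eq A₀ R S₀,
      IsScalarTower.algebraMap_eq R S₀ C, RingHom.comp_assoc])
  haveI : IsScalarTower A₀ B₀ C := .of_algebraMap_eq' (by
    change _ = ((algebraMap S₀ C).comp (algebraMap B₀ S₀)).comp (algebraMap A₀ B₀)
    rw [RingHom.comp_assoc, ← IsScalarTower.algebraMap_eq A₀ B₀ S₀, ← IsScalarTower.algebraMap_eq])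
  haveI p2 : Algebra.IsPushout A₀ R' B₀ C := by
    have h1 : Algebra.IsPushout A₀ R B₀ S₀ := .symm inferInstance
    have h2 : Algebra.IsPushout R R' S₀ C := .symm inferInstance
    exact (Algebra.IsPushout.comp_iff A₀ R B₀ S₀).2 h2
  -- modules
  obtain ⟨NC, _, _, _, _, u, hu⟩ := FlatAtDescent.exists_baseChange_model (B₂ := S₀) N₀ C
  letI : Module R' NC := Module.compHom NC (algebraMap R' C)
  haveI : IsScalarTower R' C NC := .of_algebraMap_smul fun _ _ => rfl
  letI : Module B₀ NC := Module.compHom NC (algebraMap B₀ C)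
  haveI : IsScalarTower B₀ C NC := .of_algebraMap_smul fun _ _ => rfl
  haveI : IsScalarTower B₀ S₀ NC := .of_algebraMap_smul fun a x => by
    rw [← algebraMap_smul C (algebraMap B₀ S₀ a) x]
    rfl
  have hg : IsBaseChange C ((u.restrictScalars B₀).comp g₀) := hg₀.comp hu
  -- `M'` is the base change of `NC`
  letI : Module S₀ M' := Module.compHom M' (algebraMap S₀ S')
  haveI : IsScalarTower S₀ S' M' := .of_algebraMap_smul fun _ _ => rfl
  haveI : IsScalarTower S₀ S M' := .of_algebraMap_smul fun a x => by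
    rw [← algebraMap_smul S' (algebraMap S₀ S a) x]
    rfl
  have h1 : IsBaseChange S' ((f.restrictScalars S₀).comp φ) := hφ.comp hf
  letI : Module C M' := Module.compHom M' (algebraMap C S')
  haveI : IsScalarTower C S' M' := .of_algebraMap_smul fun _ _ => rfl
  haveI : IsScalarTower S₀ C M' := .of_algebraMap_smul fun a x => by
    rw [← algebraMap_smul S' (algebraMap S₀ C a) x, ← IsScalarTower.algebraMap_apply,
      algebraMap_smul]
  haveI : IsScalarTower R' C M' := .of_algebraMap_smul fun a x => by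
    rw [← algebraMap_smul S' (algebraMap R' C a) x, ← IsScalarTower.algebraMap_apply,
      algebraMap_smul]
  obtain ⟨v, hv, -⟩ := FlatStage2.exists_lift_isBaseChange (A := S₀) (B := C) (C := S') u hu _ h1
  -- the compact set
  let E : Set (PrimeSpectrum C) :=
    PrimeSpectrum.comap (algebraMap C S') '' PrimeSpectrum.zeroLocus (I₀ : Set S')
  have hE : IsCompact E :=
    ((PrimeSpectrum.isClosed_zeroLocus _).isCompact).image (PrimeSpectrum.continuous_comap _)
  have hflat : ∀ q ∈ E, Module.Flat R' (LocalizedModule q.asIdeal.primeCompl NC) := by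
    rintro _ ⟨q', hq', rfl⟩
    haveI : q'.asIdeal.LiesOver (PrimeSpectrum.comap (algebraMap C S') q').asIdeal := ⟨rfl⟩
    have h2 := (Flat2C.FlatAt.flatAt_iff_of_isBaseChange (R := R') v
      (PrimeSpectrum.comap (algebraMap C S') q').asIdeal q'.asIdeal hv).2 (h q'.asIdeal hq')
    exact h2
  obtain ⟨A', B₁, P₁, _, _, _, _, _, _, _, _, _, _, _, _, _, _, _, _, g₁, K, hA', hg₁, hK1, hK2⟩ :=
    FlatStage.exists_fg_flat_compact (A₀ := A₀) (B₀ := B₀) (N₀ := P₀) (A := R') (B := C)
      _ hg E hE hflat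
  refine ⟨A', B₁, P₁, inferInstance, inferInstance, inferInstance, inferInstance, inferInstance,
    inferInstance, inferInstance, inferInstance, inferInstance, inferInstance, inferInstance,
    inferInstance, inferInstance, inferInstance, inferInstance, inferInstance, inferInstance,
    g₁, K, (algebraMap C S').comp (algebraMap B₁ C), A'.fg_iff_finiteType.mp hA', hg₁, ?_, ?_,
    hK1, ?_⟩
  · rw [RingHom.comp_assoc, ← IsScalarTower.algebraMap_eq A' B₁ C,
      IsScalarTower.algebraMap_eq R' C S', RingHom.comp_assoc]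
    rfl
  · rw [RingHom.comp_assoc, ← IsScalarTower.algebraMap_eq B₀ B₁ C,
      IsScalarTower.algebraMap_eq B₀ S₀ C, ← RingHom.comp_assoc, ← IsScalarTower.algebraMap_eq S₀ C S']
    rfl
  · intro q' _ hq'
    have h3 := hK2 (PrimeSpectrum.comap (algebraMap C S') ⟨q', inferInstance⟩) ⟨_, hq', rfl⟩
    rw [← Ideal.comap_comap]
    exact h3

end K249.FlatStage5
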