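import Groth.Agent.FlatMor.K249.FlatAtDescent

/-!
# Flatness of `A₂ ⊗ (N₁)_{Q₁}` in terms of the primes of the pushout

`flat_tensor_localized_iff`: for a pushout square `A₁ → B₁`, `A₂ → B₂` and a base change `N₂` of `N₁`,
the module `A₂ ⊗ (N₁)_{Q₁}` is flat over `A₂` iff `N₂` is flat over `A₂` at all primes of `B₂` whose
contraction to `B₁` is contained in `Q₁`.
-/

set_option autoImplicit false
set_option linter.style.haveILetI false
universe u

namespace K249.FlatTensorLoc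

open TensorProduct
open Groth.Agent K249.FlatAtDescent

variable {A₁ B₁ A₂ B₂ N₁ N₂ : Type u} [CommRing A₁] [CommRing B₁] [CommRing A₂] [CommRing B₂]
  [Algebra A₁ B₁] [Algebra A₁ A₂] [Algebra B₁ B₂] [Algebra A₂ B₂] [Algebra A₁ B₂]
  [IsScalarTower A₁ B₁ B₂] [IsScalarTower A₁ A₂ B₂] [Algebra.IsPushout A₁ B₁ A₂ B₂]
  [AddCommGroup N₁] [Module B₁ N₁] [Module A₁ N₁] [IsScalarTower A₁ B₁ N₁]
  [AddCommGroup N₂] [Module B₂ N₂] [Module B₁ N₂] [IsScalarTower B₁ B₂ N₂]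
  [Module A₂ N₂] [IsScalarTower A₂ B₂ N₂]

theorem flat_tensor_localized_iff (f : N₁ →ₗ[B₁] N₂) (hf : IsBaseChange B₂ f)
    (Q₁ : Ideal B₁) [Q₁.IsPrime] :
    Module.Flat A₂ (A₂ ⊗[A₁] LocalizedModule Q₁.primeCompl N₁) ↔
      ∀ (Q₂ : Ideal B₂) [Q₂.IsPrime], Q₂.comap (algebraMap B₁ B₂) ≤ Q₁ → FlatCA.FlatAt A₂ Q₂ N₂ := by
  let L := LocalizedModule Q₁.primeCompl N₁
  let g : N₁ →ₗ[B₁] L := LocalizedModule.mkLinearMap Q₁.primeCompl N₁
  have h1 : IsLocalizedModule Q₁.primeCompl ((g.baseChange B₂).restrictScalars B₁) :=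
    Flat2B.FlatDim.isLocalizedModule_lTensor (N := B₂) Q₁.primeCompl g
  have h2 : IsLocalizedModule (Algebra.algebraMapSubmonoid B₂ Q₁.primeCompl) (g.baseChange B₂) :=
    IsLocalizedModule.of_restrictScalars _ _
  have h3 : IsBaseChange A₂ ((TensorProduct.mk B₁ B₂ L 1).restrictScalars A₁) :=
    Flat2A.ProjPure.isBaseChange_of_isPushout inferInstance _ (TensorProduct.isBaseChange B₁ L B₂)
  have h4 : Module.Flat A₂ (A₂ ⊗[A₁] L) ↔ Module.Flat A₂ (B₂ ⊗[B₁] L) :=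
    ⟨fun _ => Module.Flat.of_linearEquiv h3.equiv.symm, fun _ => Module.Flat.of_linearEquiv h3.equiv⟩
  have h5 : ∀ (Q₂ : Ideal B₂) [Q₂.IsPrime],
      FlatCA.FlatAt A₂ Q₂ N₂ ↔ FlatCA.FlatAt A₂ Q₂ (B₂ ⊗[B₁] N₁) := fun Q₂ _ =>
    Flat2C.FlatAtCriterion.flatAt_congr Q₂ hf.equiv.symm
  simp only [h5]
  rw [h4, Flat2C.FlatAtCriterion.flat_isLocalizedModule_iff
    (Algebra.algebraMapSubmonoid B₂ Q₁.primeCompl) (g.baseChange B₂)]
  constructor
  · intro h Q₂ _ hQ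
    rw [Flat2C.FlatAtCriterion.flatAt_iff]
    intro I x hx
    obtain ⟨_, ⟨b, hb, rfl⟩, hbx⟩ := h I x hx
    exact ⟨algebraMap B₁ B₂ b, fun hc => hb (hQ hc), hbx⟩
  · intro h I x hx
    by_contra hcon
    push Not at hcon
    have hdisj : Disjoint ((Submodule.span B₂ {x}).annihilator : Set B₂)
        (Algebra.algebraMapSubmonoid B₂ Q₁.primeCompl : Set B₂) := by
      rw [Set.disjoint_left]
      intro t ht ht'
      refine hcon t ht' ?_
      exact (Submodule.mem_annihilator_span_singleton x t).1 ht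
    obtain ⟨Q₂, hQ₂, hle, hdis⟩ := Ideal.exists_le_prime_disjoint _ _ hdisj
    obtain ⟨t, ht, htx⟩ := (Flat2C.FlatAtCriterion.flatAt_iff Q₂).1 (h Q₂ (by
      intro b hb
      by_contra hbQ
      exact (Set.disjoint_left.1 hdis) hb ⟨b, hbQ, rfl⟩)) I x hx
    exact ht (hle ((Submodule.mem_annihilator_span_singleton x t).2 htx))

end K249.FlatTensorLoc
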