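import Groth.Agent.S1364
import Groth.Agent.S1358
import Groth.Agent.S15604
import Groth.Agent.S1629
import Groth.Agent.S1654
import Groth.Agent.Flat2E.SpreadScheme
import Groth.Agent.Ega1.ReducedSub

/-!
# Components with geometrically integral reduction

`GC p`: every irreducible component of `X`, with its reduced structure, is geometrically integral over `Y`.
`exists_GC`: for `F` of finite type over a field, this holds after a finite extension.
-/

set_option autoImplicit false
set_option linter.style.haveILetI false
universe u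

open CategoryTheory CategoryTheory.Limits AlgebraicGeometry

namespace K249.GeomComp

open Groth.Agent

/-- Every irreducible component with reduced structure is geometrically integral. -/
def GC {X Y : Scheme.{u}} (p : X ⟶ Y) : Prop :=
  ∀ (Z : Scheme.{u}) (i : Z ⟶ X) [IsClosedImmersion i] [IsReduced Z],
    Set.range i.base ∈ irreducibleComponents ↥X → GeometricallyIntegral (i ≫ p)

/-- A reduced scheme over `X` lands in a reduced closed subscheme as soon as it does so on points. -/
theorem exists_lift {Z X₁ X : Scheme.{u}} (r : X₁ ⟶ X) [IsClosedImmersion r] [IsReduced X₁]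
    (i : Z ⟶ X) [QuasiCompact i] [IsReduced Z] (h : Set.range i.base ⊆ Set.range r.base) :
    ∃ i' : Z ⟶ X₁, i' ≫ r = i := by
  have h1 : r.ker ≤ i.ker := by
    rw [Ega1.ReducedSub.ker_eq_vanishingIdeal r, Ega1.ReducedSub.ker_eq_vanishingIdeal i]
    exact Scheme.IdealSheafData.vanishingIdeal_antimono (closure_mono h)
  exact ⟨IsClosedImmersion.lift r i h1, IsClosedImmersion.lift_fac r i h1⟩

theorem exists_iso_of_range_eq {Z₁ Z₂ X : Scheme.{u}} (i₁ : Z₁ ⟶ X) (i₂ : Z₂ ⟶ X)
    [IsClosedImmersion i₁] [IsClosedImmersion i₂] [IsReduced Z₁] [IsReduced Z₂]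
    (h : Set.range i₁.base = Set.range i₂.base) : ∃ j : Z₁ ≅ Z₂, j.hom ≫ i₂ = i₁ := by
  apply Flat2E.SpreadScheme.exists_iso_of_ker_eq
  rw [Ega1.ReducedSub.ker_eq_vanishingIdeal i₁, Ega1.ReducedSub.ker_eq_vanishingIdeal i₂]
  congr 2
  exact congrArg closure h

theorem mem_irreducibleComponents_preimage {X Y : Type*} [TopologicalSpace X] [TopologicalSpace Y]
    {f : Y → X} (hf : IsHomeomorph f) {t : Set X} (ht : t ∈ irreducibleComponents X) :
    f ⁻¹' t ∈ irreducibleComponents Y := by
  refine preimage_mem_irreducibleComponents ht hf.isOpenEmbedding ?_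
  rw [hf.surjective.range_eq, Set.inter_univ]
  exact ht.1.nonempty

theorem isHomeomorph_of_surjective {X₁ X : Scheme.{u}} (r : X₁ ⟶ X) [IsClosedImmersion r]
    [Surjective r] : IsHomeomorph r.base :=
  isHomeomorph_iff_isEmbedding_surjective.2 ⟨r.isClosedEmbedding.isEmbedding, r.surjective⟩

/-- reduction to the reduction -/
theorem GC.of_red {X₁ X Y : Scheme.{u}} (r : X₁ ⟶ X) [IsClosedImmersion r] [Surjective r]
    [IsReduced X₁] (p : X ⟶ Y) (h : GC (r ≫ p)) : GC p := by
  intro Z i _ _ hi
  obtain ⟨i', hi'⟩ := exists_lift r i (by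
    rw [r.surjective.range_eq]
    exact Set.subset_univ _)
  have h1 : IsClosedImmersion (i' ≫ r) := by rw [hi']; infer_instance
  have h2 : IsClosedImmersion i' := IsClosedImmersion.of_comp i' r
  have h3 : Set.range i'.base = r.base ⁻¹' (Set.range i.base) := by
    rw [← hi']
    ext x
    constructor
    · rintro ⟨z, rfl⟩
      exact ⟨z, Scheme.Hom.comp_apply _ _ _⟩
    · rintro ⟨z, hz⟩
      rw [Scheme.Hom.comp_apply] at hz
      exact ⟨z, r.isClosedEmbedding.injective hz⟩
  have h4 := h Z i' (by
    rw [h3]
    exact mem_irreducibleComponents_preimage (isHomeomorph_of_surjective r) hi)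
  rwa [← Category.assoc, hi'] at h4

/-- invariance under isomorphism -/
theorem GC.of_iso {X X' Y Y' : Scheme.{u}} (p : X ⟶ Y) (p' : X' ⟶ Y') (E : X' ≅ X) (e : Y' ≅ Y)
    (w : E.hom ≫ p = p' ≫ e.hom) (h : GC p) : GC p' := by
  intro Z i _ _ hi
  have h1 : Set.range (i ≫ E.hom).base = E.inv.base ⁻¹' (Set.range i.base) := by
    ext x
    constructor
    · rintro ⟨z, rfl⟩
      refine ⟨z, ?_⟩
      rw [← Scheme.Hom.comp_apply, Category.assoc, E.hom_inv_id, Category.comp_id]
    · rintro ⟨z, hz⟩
      refine ⟨z, ?_⟩
      rw [Scheme.Hom.comp_apply]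
      rw [hz, ← Scheme.Hom.comp_apply, E.inv_hom_id]
      rfl
  have h2 := h Z (i ≫ E.hom) (by
    rw [h1]
    exact mem_irreducibleComponents_preimage E.inv.homeomorph.isHomeomorph hi)
  rwa [Category.assoc, w, ← Category.assoc,
    MorphismProperty.cancel_right_of_respectsIso @GeometricallyIntegral] at h2

/-- A component of a geometrically reduced scheme is geometrically reduced. -/
theorem geometricallyReduced_component {k : Type u} [Field k] {X Z : Scheme.{u}}
    (p : X ⟶ Spec (CommRingCat.of k)) [LocallyOfFiniteType p] [QuasiCompact p]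
    [GeometricallyReduced p] (i : Z ⟶ X) [IsClosedImmersion i] [IsReduced Z]
    (hi : Set.range i.base ∈ irreducibleComponents ↥X) : GeometricallyReduced (i ≫ p) := by
  have : IsNoetherianRing (CommRingCat.of k) := inferInstanceAs (IsNoetherianRing k)
  have : IsLocallyNoetherian X := LocallyOfFiniteType.isLocallyNoetherian p
  have : CompactSpace X := QuasiCompact.compactSpace_of_compactSpace p
  have : IsNoetherian X := {}
  have hXred : IsReduced X := GeometricallyReduced.isReduced_of_flat_of_isLocallyNoetherian p
  obtain ⟨o, ho, hne, hsub⟩ :=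
    TopologicalSpace.NoetherianSpace.exists_isOpen_nonempty_subset_irreducibleComponent
      (Set.range i.base) hi
  let U : X.Opens := ⟨o, ho⟩
  let W : Z.Opens := i ⁻¹ᵁ U
  have hiZ : IrreducibleSpace Z := by
    have h1 : IsIrreducible (Set.range i.base) := hi.1
    have h2 : IrreducibleSpace (Set.range i.base) :=
      isIrreducible_iff_irreducibleSpace.1 h1
    exact (i.isClosedEmbedding.isEmbedding.toHomeomorph.symm.surjective).irreducibleSpace
      i.isClosedEmbedding.isEmbedding.toHomeomorph.symm.continuous
  have hsurj : Surjective (i ∣_ U) := by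
    refine ⟨fun y => ?_⟩
    obtain ⟨z, hz⟩ := hsub y.2
    refine ⟨⟨z, ?_⟩, ?_⟩
    · change i z ∈ U
      rw [show i z = y.1 from hz]
      exact y.2
    · apply U.ι.isEmbedding.injective
      rw [← Scheme.Hom.comp_apply, morphismRestrict_ι]
      exact hz
  have hci : IsClosedImmersion (i ∣_ U) := inferInstance
  have hiso : IsIso (i ∣_ U) := isIso_of_isClosedImmersion_of_surjective (i ∣_ U)
  have h1 : GeometricallyReduced (U.ι ≫ p) := S1364.geometricallyReduced_comp U.ι p
  have h2 : GeometricallyReduced ((i ∣_ U) ≫ U.ι ≫ p) := by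
    rw [MorphismProperty.cancel_left_of_respectsIso @GeometricallyReduced]
    exact h1
  rw [← Category.assoc, morphismRestrict_ι, Category.assoc] at h2
  have hWne : (W : Set Z).Nonempty := by
    obtain ⟨x, hx⟩ := hne
    obtain ⟨z, rfl⟩ := hsub hx
    exact ⟨z, hx⟩
  have hdom : IsDominant W.ι := by
    refine ⟨?_⟩
    rw [DenseRange, Scheme.Opens.range_ι]
    exact W.isOpen.dense hWne
  have hnZ : IsLocallyNoetherian Z := LocallyOfFiniteType.isLocallyNoetherian (i ≫ p)
  have hcZ : CompactSpace Z := QuasiCompact.compactSpace_of_compactSpace (i ≫ p)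
  have hnZ' : IsNoetherian Z := {}
  have hst : IsSchemeTheoreticallyDominant W.ι := IsSchemeTheoreticallyDominant.of_isDominant W.ι
  let G : Over (Spec (CommRingCat.of k)) := Over.mk (W.ι ≫ i ≫ p)
  let H : Over (Spec (CommRingCat.of k)) := Over.mk (i ≫ p)
  let φ : G ⟶ H := Over.homMk W.ι rfl
  have h3 : GeometricallyReduced G.hom := h2
  have h4 : IsSchemeTheoreticallyDominant φ.left := hst
  have h5 : QuasiCompact φ.left := inferInstanceAs (QuasiCompact W.ι)
  exact S15604.geometricallyReduced_of_dominant φ

theorem isReduced_vanishingIdeal {X : Scheme.{u}} (T : TopologicalSpace.Closeds X) :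
    IsReduced (Scheme.IdealSheafData.vanishingIdeal T).subscheme :=
  Ega1.ReducedSub.isReduced_subscheme_vanishingIdeal T

theorem finite_components {K : Type u} [Field K] {F : Scheme.{u}} (p : F ⟶ Spec (CommRingCat.of K))
    [LocallyOfFiniteType p] [QuasiCompact p] : (irreducibleComponents (F : Type u)).Finite := by
  have : IsNoetherianRing (CommRingCat.of K) := inferInstanceAs (IsNoetherianRing K)
  have : IsLocallyNoetherian F := LocallyOfFiniteType.isLocallyNoetherian p
  have : CompactSpace F := QuasiCompact.compactSpace_of_compactSpace p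
  have : IsNoetherian F := {}
  exact TopologicalSpace.NoetherianSpace.finite_irreducibleComponents

/-- After a finite extension, all components are geometrically integral. -/
theorem exists_GC {K : Type u} [Field K] {F : Scheme.{u}} (p : F ⟶ Spec (CommRingCat.of K))
    [LocallyOfFiniteType p] [QuasiCompact p] :
    ∃ (k' : Type u) (_ : Field k') (_ : Algebra K k'), FiniteDimensional K k' ∧
      GC (pullback.snd p (Spec.map (CommRingCat.ofHom (algebraMap K k')))) := by
  let i0 : F.Over (Spec (CommRingCat.of K)) := ⟨p⟩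
  have i1 : LocallyOfFiniteType (F ↘ (Spec (CommRingCat.of K))) := inferInstanceAs (LocallyOfFiniteType p)
  obtain ⟨k1, _, _, hk1, hpi, H1⟩ := S1629.result K F (finite_components p)
  let a1 := Spec.map (CommRingCat.ofHom (algebraMap K k1))
  let F1 := pullback p a1
  let r1 : F1.nilradical.subscheme ⟶ F1 := F1.nilradical.subschemeι
  let p1 : F1.nilradical.subscheme ⟶ Spec (CommRingCat.of k1) := r1 ≫ pullback.snd p a1
  have hr1 : Surjective r1 := S1358.surjective_nilradical_subschemeι F1
  have hgr : GeometricallyReduced p1 := H1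
  let i2 : F1.nilradical.subscheme.Over (Spec (CommRingCat.of k1)) := ⟨p1⟩
  have i3 : LocallyOfFiniteType (F1.nilradical.subscheme ↘ (Spec (CommRingCat.of k1))) :=
    inferInstanceAs (LocallyOfFiniteType p1)
  obtain ⟨k2, _, _, hk2, hsep, H2⟩ := S1654.result k1 F1.nilradical.subscheme (finite_components p1)
  let a2 := Spec.map (CommRingCat.ofHom (algebraMap k1 k2))
  letI : Algebra K k2 := ((algebraMap k1 k2).comp (algebraMap K k1)).toAlgebra
  haveI : IsScalarTower K k1 k2 := .of_algebraMap_eq fun _ => rfl
  refine ⟨k2, inferInstance, inferInstance, FiniteDimensional.trans K k1 k2, ?_⟩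
  -- the reduced model
  have h1 : GC (pullback.snd p1 a2) := by
    intro Z i _ _ hi
    have h2 : GeometricallyReduced (i ≫ pullback.snd p1 a2) := geometricallyReduced_component _ i hi
    have h3 : GeometricallyIrreducible (i ≫ pullback.snd p1 a2) := by
      have h4 := H2 (Set.range i.base) hi
      have h5 := isReduced_vanishingIdeal (X := pullback p1 a2)
        ⟨Set.range i.base, isClosed_of_mem_irreducibleComponents _ hi⟩
      obtain ⟨j, hj⟩ := exists_iso_of_range_eq i (Scheme.IdealSheafData.vanishingIdeal
        (⟨Set.range i.base, isClosed_of_mem_irreducibleComponents _ hi⟩ :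
          TopologicalSpace.Closeds (pullback p1 a2 : Scheme.{u}))).subschemeι (by
            rw [Scheme.IdealSheafData.range_subschemeι, Scheme.IdealSheafData.coe_support_vanishingIdeal]
            rfl)
      rw [← hj, Category.assoc, MorphismProperty.cancel_left_of_respectsIso @GeometricallyIrreducible]
      exact h4
    exact GeometricallyIntegral.of_geometricallyReduced_of_geometricallyIrreducible _
  have hP1 : IsPullback (pullback.fst p1 a2) (pullback.snd p1 a2) p1 a2 := IsPullback.of_hasPullback _ _
  have hP2 : IsPullback (pullback.fst (pullback.snd p a1) a2) (pullback.snd (pullback.snd p a1) a2)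
    (pullback.snd p a1) a2 := IsPullback.of_hasPullback _ _
  let r2 : pullback p1 a2 ⟶ pullback (pullback.snd p a1) a2 :=
    hP2.lift (pullback.fst p1 a2 ≫ r1) (pullback.snd p1 a2) (by rw [Category.assoc]; exact hP1.w)
  have hr2 : r2 ≫ pullback.snd (pullback.snd p a1) a2 = pullback.snd p1 a2 := hP2.lift_snd _ _ _
  have hr2' : r2 ≫ pullback.fst (pullback.snd p a1) a2 = pullback.fst p1 a2 ≫ r1 := hP2.lift_fst _ _ _
  have hsq : IsPullback (pullback.fst p1 a2) r2 r1 (pullback.fst (pullback.snd p a1) a2) := by
    refine IsPullback.of_bot (v₂₁ := pullback.snd (pullback.snd p a1) a2)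
      (v₂₂ := pullback.snd p a1) (h₃₁ := a2) ?_ hr2'.symm hP2
    rw [hr2]
    exact hP1
  have hci : IsClosedImmersion r2 := MorphismProperty.of_isPullback hsq inferInstance
  have hsj : Surjective r2 := MorphismProperty.of_isPullback hsq hr1
  have hrd : IsReduced (pullback p1 a2) :=
    GeometricallyReduced.geometrically_isReduced (f := p1) a2 _ _ hP1
  have h6 : GC (pullback.snd (pullback.snd p a1) a2) := by
    apply GC.of_red r2
    rw [hr2]
    exact h1
  -- the composite
  have ha : Spec.map (CommRingCat.ofHom (algebraMap K k2)) = a2 ≫ a1 := by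
    rw [← Spec.map_comp]
    rfl
  have hP3 : IsPullback (pullback.fst p a1) (pullback.snd p a1) p a1 := IsPullback.of_hasPullback _ _
  have hP4 := (hP2.flip.paste_vert hP3.flip).flip
  rw [← ha] at hP4
  have hP5 : IsPullback (pullback.fst p (Spec.map (CommRingCat.ofHom (algebraMap K k2))))
    (pullback.snd p (Spec.map (CommRingCat.ofHom (algebraMap K k2)))) p
    (Spec.map (CommRingCat.ofHom (algebraMap K k2))) := IsPullback.of_hasPullback _ _
  refine GC.of_iso _ _ (hP5.isoIsPullback _ _ hP4) (Iso.refl _) ?_ h6
  rw [Iso.refl_hom, Category.comp_id, IsPullback.isoIsPullback_hom_snd]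

end K249.GeomComp
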