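import Groth.Agent.FlatMor.K249.GeomComp
import Groth.Agent.FlatMor.K249.FinSpread
import Groth.Agent.S0414
import Groth.Agent.S0419
import Groth.Agent.S0434
import Groth.Agent.S4715
import Groth.Agent.Flat2D.GenFibTop
import Groth.Agent.Flat2E.GenericFibre
import Groth.Agent.Flat2E.GenericQS

/-!
# Spreading out geometric integrality of the components of the generic fibre
-/

set_option autoImplicit false
set_option linter.style.haveILetI false
universe u

open CategoryTheory CategoryTheory.Limits AlgebraicGeometry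

namespace K249.GeomCompSpread

open Groth.Agent K249.GeomComp

/-- The trace on the generic fibre of a component dominating the base is a component. -/
theorem fiber_component {X Y : Scheme.{u}} (p : X ⟶ Y) [IrreducibleSpace Y] {T : Set X}
    (hT : T ∈ irreducibleComponents ↥X) (x : X) (hx : x ∈ T) (hpx : p x = genericPoint Y) :
    (p.fiberι (genericPoint Y)) ⁻¹' T ∈ irreducibleComponents ↥(p.fiber (genericPoint Y)) := by
  have hcl : IsClosed T := isClosed_of_mem_irreducibleComponents T hT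
  obtain ⟨ξ, hξ⟩ := QuasiSober.sober hT.1 hcl
  have hξx : ξ ⤳ x := by
    rw [specializes_iff_mem_closure, hξ.def]
    exact hx
  have hpξ : p ξ = genericPoint Y := by
    have h1 : p ξ ⤳ p x := hξx.map p.continuous
    rw [hpx] at h1
    exact (h1.antisymm (genericPoint_specializes _)).eq
  obtain ⟨ξ', hξ'⟩ := (p.range_fiberι (genericPoint Y)).ge (show ξ ∈ p ⁻¹' {genericPoint Y} from hpξ)
  have hemb := (p.fiberι (genericPoint Y)).isEmbedding
  have h2 : (p.fiberι (genericPoint Y)) ⁻¹' T = closure {ξ'} := by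
    rw [hemb.isInducing.closure_eq_preimage_closure_image, Set.image_singleton, hξ', hξ.def]
  refine ⟨?_, ?_⟩
  · rw [h2]
    exact isIrreducible_singleton.closure
  · intro t ht hle
    have h3 : IsIrreducible (closure ((p.fiberι (genericPoint Y)) '' t)) :=
      (ht.image _ (p.fiberι (genericPoint Y)).continuous.continuousOn).closure
    have h4 : T ⊆ closure ((p.fiberι (genericPoint Y)) '' t) := by
      rw [← hξ.def]
      refine closure_mono ?_
      rw [Set.singleton_subset_iff]
      refine ⟨ξ', hle ?_, hξ'⟩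
      rw [h2]
      exact subset_closure rfl
    have h5 := hT.2 h3 h4
    intro z hz
    exact h5 (subset_closure ⟨z, hz, rfl⟩)

theorem exists_fiber_closed {Z X Y : Scheme.{u}} (i : Z ⟶ X) [IsClosedImmersion i] (p : X ⟶ Y) (y : Y) :
    ∃ j : (i ≫ p).fiber y ⟶ p.fiber y, IsClosedImmersion j ∧
      j ≫ p.fiberToSpecResidueField y = (i ≫ p).fiberToSpecResidueField y ∧
      IsPullback ((i ≫ p).fiberι y) j i (p.fiberι y) := by
  have h0 : IsPullback (p.fiberι y) (p.fiberToSpecResidueField y) p (Y.fromSpecResidueField y) :=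
    IsPullback.of_hasPullback _ _
  have h1 : IsPullback ((i ≫ p).fiberι y) ((i ≫ p).fiberToSpecResidueField y) (i ≫ p)
    (Y.fromSpecResidueField y) := IsPullback.of_hasPullback _ _
  let j : (i ≫ p).fiber y ⟶ p.fiber y :=
    h0.lift ((i ≫ p).fiberι y ≫ i) ((i ≫ p).fiberToSpecResidueField y) (by rw [Category.assoc, h1.w])
  have hj' : j ≫ p.fiberToSpecResidueField y = (i ≫ p).fiberToSpecResidueField y := h0.lift_snd _ _ _
  have hj : IsPullback ((i ≫ p).fiberι y) j i (p.fiberι y) := by
    refine IsPullback.of_bot (v₂₁ := p.fiberToSpecResidueField y)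
      (v₂₂ := p) (h₃₁ := Y.fromSpecResidueField y) ?_ ?_ ?_
    · rw [hj']
      exact h1
    · exact (h0.lift_fst _ _ _).symm
    · exact h0
  exact ⟨j, MorphismProperty.of_isPullback hj inferInstance, hj', hj⟩

theorem range_snd {P X Y S : Scheme.{u}} {a : P ⟶ X} {b : P ⟶ Y} {f : X ⟶ S} {g : Y ⟶ S}
    (h : IsPullback a b f g) : Set.range b.base = g.base ⁻¹' (Set.range f.base) := by
  ext y
  constructor
  · rintro ⟨z, rfl⟩
    exact ⟨a.base z, by
      rw [← Scheme.Hom.comp_apply, ← Scheme.Hom.comp_apply, h.w]⟩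
  · rintro ⟨x, hx⟩
    obtain ⟨z, -, hz⟩ := Scheme.exists_preimage_of_isPullback h x y hx
    exact ⟨z, hz⟩

/-- One component. -/
theorem exists_opens_component {X Y Z : Scheme.{u}} (p : X ⟶ Y) [IsIntegral Y] [LocallyOfFiniteType p]
    [QuasiCompact p] (H : GC (p.fiberToSpecResidueField (genericPoint Y)))
    (i : Z ⟶ X) [IsClosedImmersion i] [IsReduced Z] (hi : Set.range i.base ∈ irreducibleComponents ↥X) :
    ∃ V : Y.Opens, (V : Set Y).Nonempty ∧ ∀ W : Y.Opens, W ≤ V → ((∀ z : Z, (i ≫ p) z ∉ W) ∨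
      (Flat ((i ≫ p) ∣_ W) ∧ GeometricallyIntegral ((i ≫ p) ∣_ W))) := by
  by_cases hgen : ∃ x ∈ Set.range i.base, p x = genericPoint Y
  · obtain ⟨x, hx, hpx⟩ := hgen
    obtain ⟨j, hj, hj', hsq⟩ := exists_fiber_closed i p (genericPoint Y)
    have hcomp := fiber_component p hi x hx hpx
    have hrange := range_snd hsq
    have hred : IsReduced ((i ≫ p).fiber (genericPoint Y)) :=
      Flat2E.GenericFibre.isReduced_genericFiber (i ≫ p)
    have h1 : GeometricallyIntegral (j ≫ p.fiberToSpecResidueField (genericPoint Y)) :=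
      H _ j (by rw [hrange]; exact hcomp)
    rw [hj'] at h1
    obtain ⟨V1, hV1, H1⟩ := S0434.result (i ≫ p) inferInstance
    obtain ⟨V2, hV2, H2⟩ := S0419.result (i ≫ p) inferInstance
    obtain ⟨V3, hV3, H3, -⟩ := S0414.result (i ≫ p)
    refine ⟨V1 ⊓ V2 ⊓ V3, ⟨genericPoint Y, ⟨Flat2D.GenFibTop.genericPoint_mem V1 hV1,
      Flat2D.GenFibTop.genericPoint_mem V2 hV2⟩,
      Flat2D.GenFibTop.genericPoint_mem V3 hV3.nonempty⟩, fun W hW => Or.inr ⟨?_, ?_⟩⟩
    · exact Flat2E.GenericQS.restrict_of_le @Flat _ (hW.trans inf_le_right) H3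
    · have h2 := Flat2E.GenericQS.restrict_of_le @GeometricallyReduced _
        (hW.trans (inf_le_left.trans inf_le_left)) H1
      have h3 := Flat2E.GenericQS.restrict_of_le @GeometricallyIrreducible _
        (hW.trans (inf_le_left.trans inf_le_right)) H2
      exact GeometricallyIntegral.of_geometricallyReduced_of_geometricallyIrreducible _
  · push Not at hgen
    obtain ⟨V, hV, h⟩ := Flat2D.GenFibTop.exists_opens_disjoint_of_isClosed p _
      i.isClosedEmbedding.isClosed_range hgen
    refine ⟨V, hV, fun W hW => Or.inl fun z hz => ?_⟩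
    rw [Scheme.Hom.comp_apply] at hz
    exact h (i z) (hW hz) ⟨z, rfl⟩

theorem restrict_iso (P : MorphismProperty Scheme.{u}) [P.RespectsIso] {Z Z' Y : Scheme.{u}}
    (j : Z ≅ Z') (q : Z' ⟶ Y) (V : Y.Opens) (h : P (q ∣_ V)) : P ((j.hom ≫ q) ∣_ V) := by
  have h4 : P ((j.hom ∣_ (q ⁻¹ᵁ V)) ≫ (q ∣_ V)) :=
    (MorphismProperty.cancel_left_of_respectsIso P _ _).2 h
  rw [morphismRestrict_comp]
  exact h4

/-- All components at once. -/
theorem exists_opens {X Y : Scheme.{u}} (p : X ⟶ Y) [IsIntegral Y] [LocallyOfFiniteType p]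
    [QuasiCompact p] (H : GC (p.fiberToSpecResidueField (genericPoint Y)))
    (hfin : (irreducibleComponents ↥X).Finite) :
    ∃ V : Y.Opens, (V : Set Y).Nonempty ∧ ∀ (Z : Scheme.{u}) (i : Z ⟶ X) [IsClosedImmersion i]
      [IsReduced Z], Set.range i.base ∈ irreducibleComponents ↥X → ((∀ z : Z, (i ≫ p) z ∉ V) ∨
      (Flat ((i ≫ p) ∣_ V) ∧ GeometricallyIntegral ((i ≫ p) ∣_ V))) := by
  have hf : Finite (irreducibleComponents ↥X) := hfin
  let S : ∀ T : irreducibleComponents ↥X, X.IdealSheafData := fun T =>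
    Scheme.IdealSheafData.vanishingIdeal ⟨T.1, isClosed_of_mem_irreducibleComponents T.1 T.2⟩
  have hS : ∀ T, IsReduced (S T).subscheme := fun T => isReduced_vanishingIdeal _
  have hr : ∀ T, Set.range (S T).subschemeι.base = T.1 := fun T => by
    rw [Scheme.IdealSheafData.range_subschemeι, Scheme.IdealSheafData.coe_support_vanishingIdeal]
    rfl
  have h1 := fun T : irreducibleComponents ↥X => exists_opens_component p H (S T).subschemeι
    (by rw [hr]; exact T.2)
  choose V hV hW using h1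
  have hgp : ∀ T, genericPoint Y ∈ V T := fun T => Flat2D.GenFibTop.genericPoint_mem _ (hV T)
  let V0 : Y.Opens := ⟨⋂ T, (V T : Set Y), isOpen_iInter_of_finite fun T => (V T).isOpen⟩
  refine ⟨V0, ⟨genericPoint Y, Set.mem_iInter.2 hgp⟩, ?_⟩
  intro Z i _ _ hi
  obtain ⟨j, hj⟩ := exists_iso_of_range_eq i (S ⟨_, hi⟩).subschemeι (hr ⟨_, hi⟩).symm
  have h2 := hW ⟨_, hi⟩ V0 (Set.iInter_subset _ _)
  rcases h2 with h2 | ⟨h2, h3⟩
  · left
    intro z
    rw [← hj, Category.assoc, Scheme.Hom.comp_apply]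
    exact h2 _
  · right
    rw [← hj, Category.assoc]
    exact ⟨restrict_iso @Flat j _ V0 h2, restrict_iso @GeometricallyIntegral j _ V0 h3⟩

/-- The closure of a component of an open subspace is a component. -/
theorem closure_image_mem {X X' : Type*} [TopologicalSpace X] [TopologicalSpace X'] {n : X' → X}
    (hn : Topology.IsOpenEmbedding n) {C : Set X'} (hC : C ∈ irreducibleComponents X') :
    closure (n '' C) ∈ irreducibleComponents X := by
  refine ⟨(hC.1.image n hn.continuous.continuousOn).closure, ?_⟩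
  intro u hu hle
  have h0 : n '' C ⊆ u := subset_closure.trans hle
  obtain ⟨c, hc⟩ := hC.1.nonempty
  have hne : (u ∩ Set.range n).Nonempty := ⟨n c, h0 ⟨c, hc, rfl⟩, ⟨c, rfl⟩⟩
  have h1 : IsIrreducible (n ⁻¹' u) := ⟨⟨c, h0 ⟨c, hc, rfl⟩⟩, hu.2.preimage hn⟩
  have h2 : n ⁻¹' u ⊆ C := hC.2 h1 (by
    intro x hx
    exact h0 ⟨x, hx, rfl⟩)
  have h3 : u ⊆ closure (u ∩ Set.range n) :=
    subset_closure_inter_of_isPreirreducible_of_isOpen hu.2 hn.isOpen_range hne
  refine h3.trans (closure_mono ?_)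
  rintro _ ⟨hx, ⟨y, rfl⟩⟩
  exact ⟨y, h2 hx, rfl⟩

/-- Passing to a base open contained in the good open. -/
theorem good_of_isPullback {X Y X' Y' : Scheme.{u}} {n : X' ⟶ X} {p' : X' ⟶ Y'} {p : X ⟶ Y}
    {m : Y' ⟶ Y} (h : IsPullback n p' p m) [IsOpenImmersion m] (V : Y.Opens)
    (hm : Set.range m.base ⊆ V)
    (H : ∀ (Z : Scheme.{u}) (i : Z ⟶ X) [IsClosedImmersion i]
      [IsReduced Z], Set.range i.base ∈ irreducibleComponents ↥X → ((∀ z : Z, (i ≫ p) z ∉ V) ∨
      (Flat ((i ≫ p) ∣_ V) ∧ GeometricallyIntegral ((i ≫ p) ∣_ V))))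
    (Z' : Scheme.{u}) (i' : Z' ⟶ X') [IsClosedImmersion i'] [IsReduced Z']
    (hi' : Set.range i'.base ∈ irreducibleComponents ↥X') :
    Flat (i' ≫ p') ∧ GeometricallyIntegral (i' ≫ p') := by
  have hn : IsOpenImmersion n := MorphismProperty.of_isPullback h.flip inferInstance
  have hT := closure_image_mem n.isOpenEmbedding hi'
  let T : TopologicalSpace.Closeds X := ⟨closure (n.base '' Set.range i'.base), isClosed_closure⟩
  let i := (Scheme.IdealSheafData.vanishingIdeal T).subschemeι
  have hr : Set.range i.base = closure (n.base '' Set.range i'.base) := by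
    rw [Scheme.IdealSheafData.range_subschemeι, Scheme.IdealSheafData.coe_support_vanishingIdeal]
    rfl
  have hZ : IsReduced (Scheme.IdealSheafData.vanishingIdeal T).subscheme := isReduced_vanishingIdeal T
  have hP : IsPullback (pullback.fst i n) (pullback.snd i n) i n := IsPullback.of_hasPullback _ _
  have hPr : IsReduced (pullback i n) := isReduced_of_isOpenImmersion (pullback.fst i n)
  have hPi : Set.range (pullback.snd i n).base = Set.range i'.base := by
    rw [range_snd hP, hr]
    rw [← n.isOpenEmbedding.isEmbedding.isInducing.closure_eq_preimage_closure_image]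
    exact i'.isClosedEmbedding.isClosed_range.closure_eq
  obtain ⟨j, hj⟩ := exists_iso_of_range_eq i' (pullback.snd i n) hPi.symm
  have hQ := hP.paste_vert h
  have hrV : Set.range m.base ⊆ Set.range V.ι.base := by
    rw [Scheme.Opens.range_ι]
    exact hm
  obtain ⟨q, hq, -⟩ := Flat2D.GeomFib.exists_isPullback_lift
    (isPullback_morphismRestrict (i ≫ p) V).flip hQ (IsOpenImmersion.lift V.ι m hrV)
    (IsOpenImmersion.lift_fac _ _ _)
  rw [← hj, Category.assoc, MorphismProperty.cancel_left_of_respectsIso @Flat,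
    MorphismProperty.cancel_left_of_respectsIso @GeometricallyIntegral]
  rcases H _ i (by rw [hr]; exact hT) with h1 | ⟨h1, h2⟩
  · exfalso
    obtain ⟨x, hx⟩ := hi'.1.nonempty
    obtain ⟨z, hz⟩ := hPi.ge hx
    apply h1 ((pullback.fst i n).base z)
    rw [← Scheme.Hom.comp_apply, hQ.w, Scheme.Hom.comp_apply]
    exact hm ⟨_, rfl⟩
  · exact ⟨MorphismProperty.of_isPullback hq h1, MorphismProperty.of_isPullback hq h2⟩

end K249.GeomCompSpread
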