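import Groth.Agent.Variety.K418.NormalStalk
import Groth.Agent.Localalg.GrpSchComp
import Groth.Agent.Sga3C.GeomRedPerf
import Groth.Agent.Fdesc.GeomRed
import Groth.Agent.S4627
import Groth.Agent.S1585
import Groth.Agent.S2351
import Groth.Agent.FlatMor.K262.GenExt

/-!
# Geometric normality and geometric integrality over an algebraically closed extension
-/

set_option autoImplicit false
set_option linter.style.haveILetI false
universe u

open CategoryTheory CategoryTheory.Limits AlgebraicGeometry

namespace K249.GeomNormal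

open Groth.Agent

/-- Normality after base change to one algebraically closed extension implies geometric normality. -/
theorem isNormalScheme_bc {k Ω : Type u} [Field k] [Field Ω] [IsAlgClosed Ω] [Algebra k Ω]
    {X : Scheme.{u}} (f : X ⟶ Spec (CommRingCat.of k))
    (h : Pi1.IsNormalScheme (pullback f (Spec.map (CommRingCat.ofHom (algebraMap k Ω)))))
    (K : Type u) [Field K] [Algebra k K] :
    Pi1.IsNormalScheme (pullback f (Spec.map (CommRingCat.ofHom (algebraMap k K)))) := by
  letI : X.Over (Spec (CommRingCat.of k)) := ⟨f⟩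
  have h' : Pi1.IsNormalScheme (Curv2.bc k X Ω) := h
  change Pi1.IsNormalScheme (Curv2.bc k X K)
  intro y
  obtain ⟨x', hx'⟩ := (Curv2.bcFst k X Ω).surjective (Curv2.bcFst k X K y)
  refine K418.NormalStalk.of_baseChange k X Ω x' ?_ K y hx'.symm
  letI : (Curv2.bc k X Ω).Over (Spec (CommRingCat.of Ω)) := ⟨Curv2.bcSnd k X Ω⟩
  intro k'' _ _ x'' _
  haveI : Algebra.IsGeometricallyReduced Ω k'' := Fdesc.GeomRed.isGeometricallyReduced_of_perfectField k''
  exact K418.NormalStalk.isNormalScheme_bc_of_separable Ω (Curv2.bc k X Ω) h' k'' x''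

theorem geometricallyIntegral_of_isIntegral {Ω : Type u} [Field Ω] [IsAlgClosed Ω]
    {X : Scheme.{u}} (f : X ⟶ Spec (CommRingCat.of Ω)) [IsIntegral X] : GeometricallyIntegral f := by
  have h1 : GeometricallyIrreducible f :=
    Localalg.GrpSchComp.geometricallyIrreducible_of_irreducibleSpace f
  have h2 : GeometricallyReduced f := Sga3C.GeomRedPerf.geometricallyReduced_of_isReduced f
  exact GeometricallyIntegral.of_geometricallyReduced_of_geometricallyIrreducible f

/-- Integrality after base change to one algebraically closed extension implies geometric integrality. -/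
theorem geometricallyIntegral_of_bc {k Ω : Type u} [Field k] [Field Ω] [IsAlgClosed Ω] [Algebra k Ω]
    {X : Scheme.{u}} (f : X ⟶ Spec (CommRingCat.of k))
    (h : IsIntegral (pullback f (Spec.map (CommRingCat.ofHom (algebraMap k Ω))))) :
    GeometricallyIntegral f := by
  rw [S4627.result (K := Ω)]
  have h' : IsIntegral (FBase.bc f Ω) := h
  exact geometricallyIntegral_of_isIntegral (FBase.bcStr f Ω)

/-- The normalization of an integral scheme of finite type over a field. -/
theorem exists_normalization {Ω : Type u} [Field Ω] {P : Scheme.{u}} [IsIntegral P]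
    (p : P ⟶ Spec (CommRingCat.of Ω)) [LocallyOfFiniteType p] :
    ∃ (Y : Scheme.{u}) (ν : Y ⟶ P), IsIntegral Y ∧ Pi1.IsNormalScheme Y ∧ IsFinite ν ∧ Surjective ν := by
  letI : P.Over (Spec (CommRingCat.of Ω)) := ⟨p⟩
  haveI : LocallyOfFiniteType (P ↘ Spec (CommRingCat.of Ω)) := inferInstanceAs (LocallyOfFiniteType p)
  haveI : QuasiCompact (P.fromSpecStalk (genericPoint P)) := K262.GenExt.quasiCompact_fromSpecStalk P
  haveI : QuasiSeparated (P.fromSpecStalk (genericPoint P)) := inferInstance
  obtain ⟨h1, -, -, h2, h3⟩ := S1585.result Ω P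
  obtain ⟨-, -, h4, -⟩ := S2351.result P
  exact ⟨_, _, h2, h3, h1, h4⟩

end K249.GeomNormal
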