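import Groth.Agent.Ega43.FlatKer
import Groth.Agent.S3429
import Mathlib.Algebra.Module.FinitePresentation

/-!
# Bijectivity of a map with flat target descends along the local rings of a fibre product
-/

set_option autoImplicit false
set_option linter.style.haveILetI false
universe u

namespace K249.IsoCube

open TensorProduct
open Groth.Agent

/-- `R → S`, `R → T`, `S ⊗ T → U` flat, `S → U` local; `φ : M → N` with `N` flat over `R`: if
`U ⊗ φ` is bijective then so is `φ`. -/
theorem bijective_of_cube {R S T U : Type u} [CommRing R] [CommRing S] [CommRing T] [CommRing U]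
    [Algebra R S] [Algebra R T] [Algebra R U] [Algebra S U] [Algebra T U]
    [IsScalarTower R S U] [IsScalarTower R T U]
    (h : (Algebra.TensorProduct.productMap (IsScalarTower.toAlgHom R S U)
      (IsScalarTower.toAlgHom R T U)).toRingHom.Flat) [IsLocalRing S] [IsLocalRing U]
    [IsLocalHom (algebraMap S U)]
    {M N : Type u} [AddCommGroup M] [Module S M] [AddCommGroup N] [Module S N] [Module R N]
    [IsScalarTower R S N] [Module.Finite S M] [Module.FinitePresentation S N] [Module.Flat R N]
    (φ : M →ₗ[S] N) (hφ : Function.Bijective (φ.lTensor U)) : Function.Bijective φ := by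
  have hsurj : Function.Surjective φ := by
    by_contra hns
    have hC : Nontrivial (N ⧸ LinearMap.range φ) := by
      rw [Submodule.Quotient.nontrivial_iff, Ne, LinearMap.range_eq_top]
      exact hns
    have h1 : Nontrivial (U ⊗[S] (N ⧸ LinearMap.range φ)) :=
      S3429.nontrivial_tensor_of_local _
    obtain ⟨c, hc⟩ := exists_ne (0 : U ⊗[S] (N ⧸ LinearMap.range φ))
    have h2 : Function.Exact (φ.lTensor U) ((LinearMap.range φ).mkQ.lTensor U) :=
      lTensor_exact U (LinearMap.exact_map_mkQ_range φ) (Submodule.mkQ_surjective _)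
    obtain ⟨y, rfl⟩ := LinearMap.lTensor_surjective U (Submodule.mkQ_surjective
      (LinearMap.range φ)) c
    exact hc ((h2 y).2 (hφ.2 y))
  refine ⟨?_, hsurj⟩
  letI : Module R M := Module.compHom M (algebraMap R S)
  haveI : IsScalarTower R S M := .of_algebraMap_smul fun _ _ => rfl
  letI : Algebra (S ⊗[R] T) U := (Algebra.TensorProduct.productMap (IsScalarTower.toAlgHom R S U)
      (IsScalarTower.toAlgHom R T U)).toRingHom.toAlgebra
  haveI : Module.Flat (S ⊗[R] T) U := h
  haveI : IsScalarTower S (S ⊗[R] T) U := IsScalarTower.of_algebraMap_eq fun s => by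
    change _ = Algebra.TensorProduct.productMap (IsScalarTower.toAlgHom R S U)
      (IsScalarTower.toAlgHom R T U) (s ⊗ₜ 1)
    simp
  letI : Algebra T (S ⊗[R] T) := Algebra.TensorProduct.rightAlgebra
  -- the kernel
  let K := LinearMap.ker φ
  let ι : K →ₗ[S] M := K.subtype
  have hK : K.FG := Module.FinitePresentation.fg_ker φ hsurj
  haveI : Module.Finite S K := Module.Finite.iff_fg.2 hK
  have hex : Function.Exact ι φ := LinearMap.exact_subtype_ker_map φ
  have h1 : Function.Injective (ι.lTensor (S ⊗[R] T)) :=
    Ega43.FlatKer.lTensor_injective (R₀ := R) (R := T) (S₀ := S) (S := S ⊗[R] T) ι φ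
      (Submodule.subtype_injective _) hex hsurj
  have h2 : Function.Injective ((ι.baseChange (S ⊗[R] T)).lTensor U) :=
    Module.Flat.lTensor_preserves_injective_linearMap (M := U) _ h1
  let eK := AlgebraTensorModule.cancelBaseChange S (S ⊗[R] T) U U K
  let eM := AlgebraTensorModule.cancelBaseChange S (S ⊗[R] T) U U M
  have h3 : ∀ x, eM ((ι.baseChange (S ⊗[R] T)).lTensor U x) = ι.lTensor U (eK x) := by
    intro x
    induction x using TensorProduct.induction_on with
    | zero => simp
    | add x y hx hy => simp only [map_add, hx, hy]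
    | tmul a y =>
      induction y using TensorProduct.induction_on with
      | zero => simp
      | add x y hx hy =>
        rw [TensorProduct.tmul_add, map_add, map_add, map_add, map_add, hx, hy]
      | tmul b k => simp [eK, eM]
  have h4 : Function.Injective (ι.lTensor U) := by
    intro x y hxy
    have h5 := h3 (eK.symm x)
    have h6 := h3 (eK.symm y)
    rw [LinearEquiv.apply_symm_apply] at h5 h6
    rw [← h5, ← h6] at hxy
    exact eK.symm.injective (h2 (eM.injective hxy))
  rw [← LinearMap.ker_eq_bot]
  by_contra hne
  haveI : Nontrivial K := (Submodule.nontrivial_iff_ne_bot).2 hne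
  have h5 : Nontrivial (U ⊗[S] K) := S3429.nontrivial_tensor_of_local _
  obtain ⟨c, hc⟩ := exists_ne (0 : U ⊗[S] K)
  apply hc
  apply h4
  rw [map_zero]
  apply hφ.1
  rw [map_zero, ← LinearMap.comp_apply, ← LinearMap.lTensor_comp]
  have h6 : φ ∘ₗ ι = 0 := by
    ext k
    exact k.2
  rw [h6, LinearMap.lTensor_zero, LinearMap.zero_apply]

end K249.IsoCube
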