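import Groth.Agent.Ega43.FlatKer
import Groth.Agent.Flat2C.FittingZero
import Groth.Agent.Fdesc.FlatAlg
import Mathlib.RingTheory.Spectrum.Prime.Topology
import Mathlib.Algebra.Module.FinitePresentation

/-!
# The locus where a map of finitely presented modules with flat target is an isomorphism is open and
quasi-compact
-/

set_option autoImplicit false
set_option linter.style.haveILetI false
universe u

namespace K249.IsoLocus

open TensorProduct
open Groth.Agent

variable {B : Type u} [CommRing B]

/-- The complement of the support. -/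
def tl (B C : Type u) [CommRing B] [AddCommGroup C] [Module B C] : Set (PrimeSpectrum B) :=
  {q | ∀ c : C, ∃ s ∉ q.asIdeal, s • c = 0}

open Flat2C.FittingZero in
theorem tl_eq {C : Type u} [AddCommGroup C] [Module B C] {n : ℕ} (x : Fin n → C)
    (hx : Submodule.span B (Set.range x) = ⊤) :
    tl B C = (PrimeSpectrum.zeroLocus (relDet (R := B) x : Set B))ᶜ := by
  ext q
  rw [Set.mem_compl_iff, PrimeSpectrum.mem_zeroLocus]
  constructor
  · intro h hle
    choose s hs hs' using fun i => h (x i)
    -- the diagonal matrix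
    let a : Matrix (Fin n) (Fin n) B := Matrix.diagonal s
    have ha : a.det ∈ relDet (R := B) x := by
      refine Ideal.subset_span ⟨a, fun i => ?_, rfl⟩
      rw [Finset.sum_eq_single i]
      · have h1 : a i i = s i := Matrix.diagonal_apply_eq s i
        rw [h1]
        exact hs' i
      · intro j _ hj
        have h1 : a i j = 0 := Matrix.diagonal_apply_ne s hj.symm
        rw [h1, zero_smul]
      · intro hi
        exact absurd (Finset.mem_univ i) hi
    have h1 := hle ha
    rw [Matrix.det_diagonal] at h1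
    obtain ⟨i, -, hi⟩ := (Ideal.IsPrime.prod_mem_iff).1 h1
    exact hs i hi
  · intro h c
    rw [SetLike.coe_subset_coe, relDet, Ideal.span_le] at h
    obtain ⟨_, ⟨a, ha, rfl⟩, hda⟩ := Set.not_subset.1 h
    refine ⟨a.det, hda, ?_⟩
    have h1 : ∀ j, a.det • x j = 0 := by
      intro j
      have h2 : ∀ k, ∑ i, a.adjugate k i • ∑ j, a i j • x j = a.det • x k := by
        intro k
        simp only [Finset.smul_sum, smul_smul]
        rw [Finset.sum_comm]
        simp only [← Finset.sum_smul]
        have h3 : ∀ j, ∑ i, a.adjugate k i * a i j = (a.det • (1 : Matrix (Fin n) (Fin n) B)) k j := by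
          intro j
          rw [← Matrix.adjugate_mul]
          rfl
        simp only [h3]
        rw [Finset.sum_eq_single k]
        · simp
        · intro j _ hj
          simp [Matrix.one_apply_ne hj.symm]
        · intro hk
          exact absurd (Finset.mem_univ k) hk
      rw [← h2 j]
      refine Finset.sum_eq_zero fun i _ => ?_
      rw [ha i, smul_zero]
    have h4 : c ∈ Submodule.span B (Set.range x) := by rw [hx]; trivial
    induction h4 using Submodule.span_induction with
    | mem y hy => obtain ⟨j, rfl⟩ := hy; exact h1 j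
    | zero => exact smul_zero _
    | add y z _ _ hy hz => rw [smul_add, hy, hz, add_zero]
    | smul r y _ hy => rw [smul_comm, hy, smul_zero]

open Flat2C.FittingZero in
theorem isCompact_tl (C : Type u) [AddCommGroup C] [Module B C] [Module.FinitePresentation B C] :
    IsCompact (tl B C) ∧ IsOpen (tl B C) := by
  obtain ⟨n, x, hx⟩ := Module.Finite.exists_fin (R := B) (M := C)
  rw [PrimeSpectrum.isCompact_isOpen_iff_ideal]
  refine ⟨relDet (R := B) x, ?_, (tl_eq x hx).symm⟩
  refine relDet_fg x (Module.FinitePresentation.fg_ker _ ?_)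
  rw [← LinearMap.range_eq_top, Fintype.range_linearCombination, hx]

/-- Kernels of surjections onto finitely presented modules flat over the base. -/
theorem finitePresentation_ker (A : Type u) [CommRing A] [Algebra A B]
    [Algebra.FinitePresentation A B] {M N : Type u} [AddCommGroup M] [Module B M]
    [AddCommGroup N] [Module B N] [Module A N] [IsScalarTower A B N]
    [Module.FinitePresentation B M] [Module.FinitePresentation B N] [Module.Flat A N]
    (φ : M →ₗ[B] N) (hφ : Function.Surjective φ) :
    Module.FinitePresentation B (LinearMap.ker φ) := by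
  obtain ⟨n, p, hp⟩ := Module.Finite.exists_fin' B M
  have h1 : (LinearMap.ker p).FG := Module.FinitePresentation.fg_ker p hp
  have h2 : Module.FinitePresentation B (LinearMap.ker (φ ∘ₗ p)) :=
    Ega43.FlatKer.kerFP A B N n (φ ∘ₗ p) (hφ.comp hp)
  let r : LinearMap.ker (φ ∘ₗ p) →ₗ[B] LinearMap.ker φ :=
    p.restrict (fun x hx => hx)
  have hr : Function.Surjective r := by
    rintro ⟨y, hy⟩
    obtain ⟨x, rfl⟩ := hp y
    exact ⟨⟨x, hy⟩, rfl⟩
  refine Module.finitePresentation_of_surjective r hr ?_
  have h3 : LinearMap.ker r = (LinearMap.ker p).comap (LinearMap.ker (φ ∘ₗ p)).subtype := by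
    ext x
    rw [LinearMap.mem_ker, Submodule.mem_comap, LinearMap.mem_ker]
    constructor
    · intro h
      exact congrArg Subtype.val h
    · intro h
      exact Subtype.ext h
  rw [h3]
  refine Submodule.fg_of_fg_map_injective (LinearMap.ker (φ ∘ₗ p)).subtype
    (Submodule.subtype_injective _) ?_
  rw [Submodule.map_comap_subtype, inf_eq_right.2]
  · exact h1
  · intro x hx
    change φ (p x) = 0
    rw [LinearMap.mem_ker.1 hx, map_zero]

/-- The primes at which `φ` is bijective. -/
def isoSet {M N : Type u} [AddCommGroup M] [Module B M] [AddCommGroup N] [Module B N]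
    (φ : M →ₗ[B] N) : Set (PrimeSpectrum B) :=
  {q | (∀ n : N, ∃ s ∉ q.asIdeal, ∃ m, φ m = s • n) ∧
    ∀ m : M, φ m = 0 → ∃ s ∉ q.asIdeal, s • m = 0}

section main

variable {A : Type u} [CommRing A] [Algebra A B] [Algebra.FinitePresentation A B]
  {M N : Type u} [AddCommGroup M] [Module B M] [AddCommGroup N] [Module B N] [Module A N]
  [IsScalarTower A B N] [Module.FinitePresentation B M] [Module.FinitePresentation B N]
  (φ : M →ₗ[B] N)

/-- the surjectivity locus -/
theorem tl_quotient_range : tl B (N ⧸ LinearMap.range φ) =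
    {q | ∀ n : N, ∃ s ∉ q.asIdeal, ∃ m, φ m = s • n} := by
  ext q
  constructor
  · intro h n
    obtain ⟨s, hs, h1⟩ := h (Submodule.Quotient.mk n)
    rw [← Submodule.Quotient.mk_smul, Submodule.Quotient.mk_eq_zero] at h1
    obtain ⟨m, hm⟩ := h1
    exact ⟨s, hs, m, hm⟩
  · intro h c
    obtain ⟨n, rfl⟩ := Submodule.Quotient.mk_surjective _ c
    obtain ⟨s, hs, m, hm⟩ := h n
    refine ⟨s, hs, ?_⟩
    rw [← Submodule.Quotient.mk_smul, Submodule.Quotient.mk_eq_zero]
    exact ⟨m, hm⟩

/-- over `D(g)` in the surjectivity locus -/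
theorem isCompact_isoSet_basicOpen [Module.Flat A N] (g : B)
    (hg : (PrimeSpectrum.basicOpen g : Set (PrimeSpectrum B)) ⊆ tl B (N ⧸ LinearMap.range φ)) :
    IsCompact ((PrimeSpectrum.basicOpen g : Set (PrimeSpectrum B)) ∩ isoSet φ) ∧
      IsOpen ((PrimeSpectrum.basicOpen g : Set (PrimeSpectrum B)) ∩ isoSet φ) := by
  let Bg := Localization.Away g
  let Mg := LocalizedModule (Submonoid.powers g) M
  let Ng := LocalizedModule (Submonoid.powers g) N
  let jM := LocalizedModule.mkLinearMap (Submonoid.powers g) M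
  let jN := LocalizedModule.mkLinearMap (Submonoid.powers g) N
  let ψ : Mg →ₗ[B] Ng := IsLocalizedModule.map (Submonoid.powers g) jM jN φ
  have hψ : ∀ m, ψ (jM m) = jN (φ m) := fun m =>
    IsLocalizedModule.map_apply (Submonoid.powers g) jM jN φ m
  let ψg : Mg →ₗ[Bg] Ng := LinearMap.extendScalarsOfIsLocalization (Submonoid.powers g) Bg ψ
  have hψg : ∀ x, ψg x = ψ x := fun _ => rfl
  -- `ψ` is surjective
  have hdvd : ∀ n : N, ∃ k : ℕ, ∃ m, φ m = g ^ k • n := by
    intro n
    let I : Ideal B := (LinearMap.range φ).comap (LinearMap.toSpanSingleton B N n)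
    have hI : g ∈ I.radical := by
      rw [Ideal.radical_eq_sInf, Submodule.mem_sInf]
      rintro q ⟨hIq, hq⟩
      by_contra hgq
      have h1 := hg (show (⟨q, hq⟩ : PrimeSpectrum B) ∈ PrimeSpectrum.basicOpen g from hgq)
      rw [tl_quotient_range] at h1
      obtain ⟨s, hs, m, hm⟩ := h1 n
      exact hs (hIq ⟨m, hm⟩)
    obtain ⟨k, m, hm⟩ := hI
    exact ⟨k, m, hm⟩
  have hu : ∀ k : ℕ, IsUnit (algebraMap B Bg (g ^ k)) := fun k => by
    rw [map_pow]
    exact (IsLocalization.Away.algebraMap_isUnit g).pow k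
  have hsurj : Function.Surjective ψg := by
    intro y
    obtain ⟨⟨n, ⟨_, k, rfl⟩⟩, hy⟩ := IsLocalizedModule.surj (Submonoid.powers g) jN y
    obtain ⟨l, m, hm⟩ := hdvd n
    have h1 : (algebraMap B Bg (g ^ (l + k))) • y = ψg (jM m) := by
      rw [hψg, hψ, hm, algebraMap_smul, pow_add, mul_smul]
      have : g ^ k • y = jN n := hy
      rw [this, map_smul]
    refine ⟨(↑((hu (l + k)).unit⁻¹) : Bg) • jM m, ?_⟩
    rw [map_smul, ← h1, smul_smul, IsUnit.val_inv_mul, one_smul]
  -- structures over `A`
  haveI : IsScalarTower A B Ng := inferInstance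
  haveI : IsScalarTower A Bg Ng := .of_algebraMap_smul fun a x => by
    rw [IsScalarTower.algebraMap_apply A B Bg, algebraMap_smul, algebraMap_smul]
  haveI : Module.Flat A Ng := by
    have h1 : Module.Flat A (Bg ⊗[B] N) := Fdesc.FlatAlg.flat_tensor_of_flat
    have h2 : IsBaseChange Bg jN := IsLocalizedModule.isBaseChange (Submonoid.powers g) Bg jN
    exact Module.Flat.of_linearEquiv (h2.equiv.symm.restrictScalars A)
  haveI : Algebra.FinitePresentation B Bg := IsLocalization.Away.finitePresentation g
  haveI : Algebra.FinitePresentation A Bg := Algebra.FinitePresentation.trans A B Bg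
  haveI : Module.FinitePresentation Bg (LinearMap.ker ψg) := finitePresentation_ker A ψg hsurj
  obtain ⟨hc, ho⟩ := isCompact_tl (B := Bg) (LinearMap.ker ψg)
  have himg : PrimeSpectrum.comap (algebraMap B Bg) '' (tl Bg (LinearMap.ker ψg)) =
      (PrimeSpectrum.basicOpen g : Set (PrimeSpectrum B)) ∩ isoSet φ := by
    ext q
    constructor
    · rintro ⟨q', hq', rfl⟩
      have hgq : PrimeSpectrum.comap (algebraMap B Bg) q' ∈ PrimeSpectrum.basicOpen g := by
        intro h1
        have h2 := hu 1
        rw [pow_one] at h2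
        exact q'.2.ne_top (Ideal.eq_top_of_isUnit_mem _ h1 h2)
      refine ⟨hgq, ?_, ?_⟩
      · have h1 := hg hgq
        rw [tl_quotient_range] at h1
        exact h1
      · intro m hm
        obtain ⟨s', hs', h1⟩ := hq' ⟨jM m, by
          rw [LinearMap.mem_ker, hψg, hψ, hm, map_zero]⟩
        obtain ⟨⟨s, ⟨_, k, rfl⟩⟩, hs⟩ := IsLocalization.surj (Submonoid.powers g) s'
        have h2 : s' • jM m = 0 := congrArg Subtype.val h1
        have h3 : jM (s • m) = 0 := by
          rw [map_smul, ← algebraMap_smul Bg s (jM m)]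
          have : algebraMap B Bg s = s' * algebraMap B Bg (g ^ k) := hs.symm
          rw [this, mul_comm, mul_smul, h2, smul_zero]
        obtain ⟨⟨_, l, rfl⟩, h4⟩ := (IsLocalizedModule.eq_zero_iff (Submonoid.powers g) jM).1 h3
        refine ⟨g ^ l * s, ?_, by rw [mul_smul]; exact h4⟩
        intro h5
        rcases q'.2.mem_or_mem (show algebraMap B Bg (g ^ l) * algebraMap B Bg s ∈ q'.asIdeal by
          rw [← map_mul]; exact h5) with h6 | h6
        · exact q'.2.ne_top (Ideal.eq_top_of_isUnit_mem _ h6 (hu l))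
        · have : algebraMap B Bg s = s' * algebraMap B Bg (g ^ k) := hs.symm
          rw [this] at h6
          rcases q'.2.mem_or_mem h6 with h7 | h7
          · exact hs' h7
          · exact q'.2.ne_top (Ideal.eq_top_of_isUnit_mem _ h7 (hu k))
    · rintro ⟨hgq, h1, h2⟩
      have h3 : q ∈ Set.range (PrimeSpectrum.comap (algebraMap B Bg)) := by
        rw [PrimeSpectrum.localization_away_comap_range Bg g]
        exact hgq
      obtain ⟨q', rfl⟩ := h3
      refine ⟨q', ?_, rfl⟩
      rintro ⟨x, hx⟩
      obtain ⟨⟨m, ⟨_, k, rfl⟩⟩, hm⟩ := IsLocalizedModule.surj (Submonoid.powers g) jM x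
      have hm' : g ^ k • x = jM m := hm
      have h4 : jN (φ m) = 0 := by
        rw [← hψ, ← hm', map_smul]
        have : ψ x = 0 := hx
        rw [this, smul_zero]
      obtain ⟨⟨_, l, rfl⟩, h5⟩ := (IsLocalizedModule.eq_zero_iff (Submonoid.powers g) jN).1 h4
      have h5' : φ (g ^ l • m) = 0 := by rw [map_smul]; exact h5
      obtain ⟨s, hs, h6⟩ := h2 _ h5'
      refine ⟨algebraMap B Bg s, hs, ?_⟩
      apply Subtype.ext
      change algebraMap B Bg s • x = 0
      have h7 : algebraMap B Bg (g ^ (l + k)) • (algebraMap B Bg s • x) = 0 := by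
        rw [smul_comm, algebraMap_smul Bg (g ^ (l + k)) x, pow_add, mul_smul, hm', algebraMap_smul,
          ← map_smul, ← map_smul, h6, map_zero]
      have h8 := congrArg (fun y => (↑((hu (l + k)).unit⁻¹) : Bg) • y) h7
      simp only [smul_zero] at h8
      rwa [smul_smul, IsUnit.val_inv_mul, one_smul] at h8
  rw [← himg]
  exact ⟨hc.image (PrimeSpectrum.continuous_comap _),
    (PrimeSpectrum.localization_away_isOpenEmbedding Bg g).isOpenMap _ ho⟩

/-- The locus where `φ` is bijective is open and compact. -/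
theorem isCompact_isoSet [Module.Flat A N] : IsCompact (isoSet φ) ∧ IsOpen (isoSet φ) := by
  have hfp : Module.FinitePresentation B (N ⧸ LinearMap.range φ) :=
    Module.finitePresentation_of_surjective (LinearMap.range φ).mkQ (Submodule.mkQ_surjective _)
      (by
        rw [Submodule.ker_mkQ]
        exact Submodule.FG.of_finite)
  obtain ⟨hc, ho⟩ := isCompact_tl (B := B) (N ⧸ LinearMap.range φ)
  obtain ⟨s, hs⟩ := (PrimeSpectrum.isCompact_isOpen_iff).1 ⟨hc, ho⟩
  have h1 : tl B (N ⧸ LinearMap.range φ) = ⋃ g ∈ s, (PrimeSpectrum.basicOpen g : Set (PrimeSpectrum B)) := by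
    rw [← hs]
    ext q
    simp only [Set.mem_compl_iff, PrimeSpectrum.mem_zeroLocus, Set.mem_iUnion, Set.not_subset]
    constructor
    · rintro ⟨g, hg, hq⟩
      exact ⟨g, hg, hq⟩
    · rintro ⟨g, hg, hq⟩
      exact ⟨g, hg, hq⟩
  have h2 : isoSet φ = ⋃ g ∈ s, ((PrimeSpectrum.basicOpen g : Set (PrimeSpectrum B)) ∩ isoSet φ) := by
    rw [← Set.iUnion₂_inter, ← h1]
    refine (Set.inter_eq_right.2 ?_).symm
    intro q hq
    rw [tl_quotient_range]
    exact hq.1
  have h3 : ∀ g ∈ s, (PrimeSpectrum.basicOpen g : Set (PrimeSpectrum B)) ⊆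
      tl B (N ⧸ LinearMap.range φ) := by
    intro g hg
    rw [h1]
    exact Set.subset_biUnion_of_mem (u := fun g => (PrimeSpectrum.basicOpen g : Set (PrimeSpectrum B))) hg
  rw [h2]
  exact ⟨s.isCompact_biUnion fun g hg => (isCompact_isoSet_basicOpen (A := A) φ g (h3 g hg)).1,
    isOpen_biUnion fun g hg => (isCompact_isoSet_basicOpen (A := A) φ g (h3 g hg)).2⟩

end main

end K249.IsoLocus
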