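import Groth.Agent.FlatMor.K249.IsoLocus
import Groth.Agent.FlatMor.K249.IsoCube
import Groth.Agent.FlatMor.K256.StalkPull
import Groth.Agent.Fdesc.FlatBC
import Groth.Agent.Fdesc.QCohStalk
import Groth.Agent.Flat2C.FlatSec
import Groth.Agent.Desc.FPSections
import Groth.Agent.PerfC.FPSections
import Groth.Agent.Ega1.StalkFP
import Groth.Agent.S1453

/-!
# The locus where a morphism of finitely presented modules with flat target is an isomorphism
-/

set_option autoImplicit false
set_option linter.style.haveILetI false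
universe u
open CategoryTheory CategoryTheory.Limits AlgebraicGeometry TensorProduct

namespace K249.IsoLocusSch

open Groth.Agent Groth.Agent.Fdesc.Skyscraper Groth.Agent.Fdesc.PullbackStalk
open Groth.Agent.Fdesc.QCohStalk Groth.Agent.Flat2C.FlatSec K249.IsoLocus

/-- The map on sections. -/
noncomputable def secMap {X : Scheme.{u}} {M N : X.Modules} (φ : M ⟶ N) (U : X.Opens) :
    Γ(M, U) →ₗ[Γ(X, U)] Γ(N, U) where
  toFun := φ.app U
  map_add' := map_add _
  map_smul' r x := φ.app_smul r x

section chart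

variable {X : Scheme.{u}} {M N : X.Modules} (φ : M ⟶ N) {U : X.Opens} (hU : IsAffineOpen U)

/-- bijectivity on the stalk in terms of sections -/
theorem bijective_iff_mem_isoSet (hM : Coh.IsQCoh M) (hN : Coh.IsQCoh N) (x : X) (hx : x ∈ U) :
    Function.Bijective (stalkMap φ x) ↔ hU.primeIdealOf ⟨x, hx⟩ ∈ isoSet (secMap φ U) := by
  have hu : ∀ s : Γ(X, U), s ∉ (hU.primeIdealOf ⟨x, hx⟩).asIdeal →
      IsUnit (X.presheaf.germ U x hx s) := fun s hs =>
    (X.mem_basicOpen s x hx).mp ((mem_basicOpen_iff hU x hx s).2 hs)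
  constructor
  · rintro ⟨hi, hs⟩
    refine ⟨fun n => ?_, fun m hm => ?_⟩
    · obtain ⟨t, ht⟩ := hs (N.presheaf.germ U x hx n)
      obtain ⟨g, s, hg, h1⟩ := exists_germ_eq_smul M hU hM x hx t
      have h2 : N.presheaf.germ U x hx (φ.app U s - g • n) = 0 := by
        rw [map_sub, germ_smul', ← stalkMap_germ, h1, map_smul, ht, sub_self]
      obtain ⟨g', hg', h3⟩ := exists_smul_eq_zero_of_germ_eq_zero N hU hN x hx _ h2
      refine ⟨g' * g, ?_, g' • s, ?_⟩
      · intro h4
        rcases (hU.primeIdealOf ⟨x, hx⟩).2.mem_or_mem h4 with h5 | h5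
        · exact (mem_basicOpen_iff hU x hx g').1 hg' h5
        · exact (mem_basicOpen_iff hU x hx g).1 hg h5
      · rw [map_smul, mul_smul]
        change g' • φ.app U s = _
        rw [smul_sub, sub_eq_zero] at h3
        exact h3
    · have h1 : M.presheaf.germ U x hx m = 0 := by
        apply hi
        rw [stalkMap_germ, map_zero]
        have h2 : φ.app U m = 0 := hm
        rw [h2, map_zero]
      obtain ⟨g, hg, h3⟩ := exists_smul_eq_zero_of_germ_eq_zero M hU hM x hx _ h1
      exact ⟨g, (mem_basicOpen_iff hU x hx g).1 hg, h3⟩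
  · rintro ⟨hs, hi⟩
    constructor
    · rw [injective_iff_map_eq_zero]
      intro t ht
      obtain ⟨g, s, hg, h1⟩ := exists_germ_eq_smul M hU hM x hx t
      have hgu := (X.mem_basicOpen g x hx).mp hg
      have h2 : N.presheaf.germ U x hx (φ.app U s) = 0 := by
        rw [← stalkMap_germ, h1, map_smul, ht, smul_zero]
      obtain ⟨g', hg', h3⟩ := exists_smul_eq_zero_of_germ_eq_zero N hU hN x hx _ h2
      have hgu' := (X.mem_basicOpen g' x hx).mp hg'
      obtain ⟨r, hr, h4⟩ := hi (g' • s) (by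
        rw [map_smul]
        exact h3)
      have h5 : X.presheaf.germ U x hx r • X.presheaf.germ U x hx g' • X.presheaf.germ U x hx g •
          t = 0 := by
        rw [← h1, ← germ_smul', ← germ_smul', h4, map_zero]
      rw [smul_smul, smul_smul] at h5
      have h6 : IsUnit (X.presheaf.germ U x hx r * X.presheaf.germ U x hx g' *
          X.presheaf.germ U x hx g) := ((hu r hr).mul hgu').mul hgu
      exact (h6.smul_eq_zero).1 (by rw [← h5, mul_assoc])
    · intro t
      obtain ⟨g, n, hg, h1⟩ := exists_germ_eq_smul N hU hN x hx t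
      have hgu := (X.mem_basicOpen g x hx).mp hg
      obtain ⟨s, hs', m, hm⟩ := hs n
      have h2 : stalkMap φ x (M.presheaf.germ U x hx m) =
          (X.presheaf.germ U x hx s * X.presheaf.germ U x hx g) • t := by
        rw [stalkMap_germ, mul_smul, ← h1, ← germ_smul']
        exact congrArg _ hm
      have h3 := (hu s hs').mul hgu
      refine ⟨(↑(h3.unit⁻¹) : X.presheaf.stalk x) • M.presheaf.germ U x hx m, ?_⟩
      rw [map_smul, h2, smul_smul, IsUnit.val_inv_mul, one_smul]

end chart

section locus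

variable {X S : Scheme.{u}} (f : X ⟶ S) [LocallyOfFinitePresentation f] {M N : X.Modules} (φ : M ⟶ N)

/-- The locus. -/
def W : Set X := {x | Function.Bijective (stalkMap φ x)}

variable {φ} in
theorem W_inter {U : X.Opens} (hU : IsAffineOpen U) (hM : Coh.IsQCoh M) (hN : Coh.IsQCoh N) :
    W φ ∩ U = hU.fromSpec '' isoSet (secMap φ U) := by
  ext x
  constructor
  · rintro ⟨h, hx⟩
    exact ⟨hU.primeIdealOf ⟨x, hx⟩, (bijective_iff_mem_isoSet φ hU hM hN x hx).1 h,
      hU.fromSpec_primeIdealOf ⟨x, hx⟩⟩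
  · rintro ⟨q, hq, rfl⟩
    obtain ⟨x, hx, rfl⟩ := exists_primeIdealOf hU q
    have h1 : hU.fromSpec (hU.primeIdealOf ⟨x, hx⟩) = x := hU.fromSpec_primeIdealOf ⟨x, hx⟩
    rw [h1]
    exact ⟨(bijective_iff_mem_isoSet φ hU hM hN x hx).2 hq, hx⟩

theorem isCompact_W_inter {U : X.Opens} (hU : IsAffineOpen U) {V : S.Opens} (hV : IsAffineOpen V)
    (e : U ≤ f ⁻¹ᵁ V) (hM : CohB1.IsFP M) (hN : CohB1.IsFP N) (hfl : FlatMod.IsFlatOver f N) :
    IsCompact (W φ ∩ U) ∧ IsOpen (W φ ∩ U) := by
  have hMq := PerfC.FPSections.isQCoh_of_isFP hM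
  have hNq := PerfC.FPSections.isQCoh_of_isFP hN
  let i1 : Algebra Γ(S, V) Γ(X, U) := algebraOver f e
  let i2 : Module Γ(S, V) Γ(N, U) := moduleOver f N e
  have i3 : IsScalarTower Γ(S, V) Γ(X, U) Γ(N, U) := isScalarTower_over f N e
  have i4 : Module.FinitePresentation Γ(X, U) Γ(M, U) :=
    Desc.FPSections.finitePresentation_sections hU hMq hM
  have i5 : Module.FinitePresentation Γ(X, U) Γ(N, U) :=
    Desc.FPSections.finitePresentation_sections hU hNq hN
  have i6 : Module.Flat Γ(S, V) Γ(N, U) :=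
    (flat_sections_iff f N hU hV e hNq).2 fun x _ => hfl x
  have i7 : Algebra.FinitePresentation Γ(S, V) Γ(X, U) :=
    f.finitePresentation_appLE hV hU e
  obtain ⟨hc, ho⟩ := isCompact_isoSet (A := Γ(S, V)) (secMap φ U)
  rw [W_inter hU hMq hNq]
  exact ⟨hc.image hU.fromSpec.continuous, hU.fromSpec.isOpenEmbedding.isOpenMap _ ho⟩

theorem exists_chart (x : X) : ∃ (V : S.Opens) (U : X.Opens), IsAffineOpen V ∧ IsAffineOpen U ∧
    x ∈ U ∧ U ≤ f ⁻¹ᵁ V := by
  obtain ⟨V, hV, hx, -⟩ := exists_isAffineOpen_mem_and_subset (x := f x) (U := ⊤) trivial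
  obtain ⟨U, hU, hx', hUV⟩ := exists_isAffineOpen_mem_and_subset (x := x) (U := f ⁻¹ᵁ V) hx
  exact ⟨V, U, hV, hU, hx', hUV⟩

include f in
theorem isOpen_W (hM : CohB1.IsFP M) (hN : CohB1.IsFP N) (hfl : FlatMod.IsFlatOver f N) :
    IsOpen (W φ) := by
  rw [isOpen_iff_mem_nhds]
  intro x hx
  obtain ⟨V, U, hV, hU, hx', e⟩ := exists_chart f x
  exact Filter.mem_of_superset
    ((isCompact_W_inter f φ hU hV e hM hN hfl).2.mem_nhds ⟨hx, hx'⟩) Set.inter_subset_left

theorem isConstructible_of_isCompact_inter {T : Type*} [TopologicalSpace T] {s O : Set T}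
    [QuasiSeparatedSpace O] (hc : IsCompact (s ∩ O)) (ho : IsOpen (s ∩ O)) :
    Topology.IsConstructible (Subtype.val ⁻¹' s : Set O) := by
  have h1 : IsCompact (Subtype.val ⁻¹' s : Set O) := by
    rw [Subtype.isCompact_iff, Subtype.image_preimage_coe, Set.inter_comm]
    exact hc
  have h2 : IsOpen (Subtype.val ⁻¹' s : Set O) := by
    have h3 : (Subtype.val ⁻¹' s : Set O) = Subtype.val ⁻¹' (s ∩ O) := by
      ext y
      simp
    rw [h3]
    exact ho.preimage continuous_subtype_val
  exact h1.isConstructible h2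

include f in
theorem isLocallyConstructible_W (hM : CohB1.IsFP M) (hN : CohB1.IsFP N)
    (hfl : FlatMod.IsFlatOver f N) : Topology.IsLocallyConstructible (W φ) := by
  intro x
  obtain ⟨V, U, hV, hU, hx', e⟩ := exists_chart f x
  obtain ⟨hc, ho⟩ := isCompact_W_inter f φ hU hV e hM hN hfl
  refine ⟨U, U.isOpen.mem_nhds hx', U.isOpen, ?_⟩
  have : IsAffine (U : Scheme.{u}) := hU
  have : QuasiSeparatedSpace (U : Scheme.{u}) := inferInstance
  have : QuasiSeparatedSpace (U : Set X) := this
  exact isConstructible_of_isCompact_inter hc ho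

end locus

section bc

variable {X S T X' : Scheme.{u}} {f : X ⟶ S} {t : T ⟶ S} {p : X' ⟶ X} {q : X' ⟶ T}

/-- The locus is compatible with base change. -/
theorem bijective_pullback_iff (H : IsPullback p q f t) {M N : X.Modules} (φ : M ⟶ N)
    (hM : CohB1.IsFP M) (hN : CohB1.IsFP N) (hfl : FlatMod.IsFlatOver f N) (z : X') :
    Function.Bijective (stalkMap ((Scheme.Modules.pullback p).map φ) z) ↔
      Function.Bijective (stalkMap φ (p.base z)) := by
  letI := stalkAlg p z
  have h0 : Function.Bijective (stalkMap ((Scheme.Modules.pullback p).map φ) z) ↔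
      Function.Bijective (LinearMap.lTensor (X'.presheaf.stalk z) (stalkMap φ (p.base z))) :=
    and_congr (K256.StalkPull.injective_iff' p φ z) (K256.StalkPull.surjective_iff' p φ z)
  rw [h0]
  constructor
  · intro h
    letI := stalkAlg f (p.base z)
    letI : Algebra (S.presheaf.stalk (f.base (p.base z))) (T.presheaf.stalk (q.base z)) :=
      (Groth.Agent.Fdesc.FlatBC.crossMap H.w z).hom.toAlgebra
    letI := stalkAlg q z
    letI : Algebra (S.presheaf.stalk (f.base (p.base z))) (X'.presheaf.stalk z) :=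
      (f.stalkMap (p.base z) ≫ p.stalkMap z).hom.toAlgebra
    haveI : IsScalarTower (S.presheaf.stalk (f.base (p.base z))) (X.presheaf.stalk (p.base z))
      (X'.presheaf.stalk z) := IsScalarTower.of_algebraMap_eq fun _ => rfl
    haveI : IsScalarTower (S.presheaf.stalk (f.base (p.base z))) (T.presheaf.stalk (q.base z))
      (X'.presheaf.stalk z) := IsScalarTower.of_algebraMap_eq fun r =>
        (ConcreteCategory.congr_hom (Groth.Agent.Fdesc.FlatBC.crossMap_comp H.w z) r).symm
    letI := FlatMod.moduleStalkOver f N (p.base z)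
    haveI := isScalarTower f N (p.base z)
    haveI : Module.Flat (S.presheaf.stalk (f.base (p.base z))) (N.presheaf.stalk (p.base z)) :=
      hfl (p.base z)
    haveI := Groth.Agent.Ega1.StalkFP.finitePresentation_stalk N
      (PerfC.FPSections.isQCoh_of_isFP hN) hN (p.base z)
    haveI := Groth.Agent.Ega1.StalkFP.finitePresentation_stalk M
      (PerfC.FPSections.isQCoh_of_isFP hM) hM (p.base z)
    haveI : IsLocalHom (algebraMap (X.presheaf.stalk (p.base z)) (X'.presheaf.stalk z)) :=
      inferInstanceAs (IsLocalHom (p.stalkMap z).hom)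
    exact K249.IsoCube.bijective_of_cube
      (Groth.Agent.Fdesc.FlatBC.flat_productMap_stalk H z) (stalkMap φ (p.base z)) h
  · intro h
    exact (LinearEquiv.lTensor (X'.presheaf.stalk z)
      (LinearEquiv.ofBijective (stalkMap φ (p.base z)) h)).bijective

end bc

end K249.IsoLocusSch
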