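import Groth.Agent.Krr.H487.LocBasisPull
import Groth.Agent.Dcoh.MonPull3_292

/-!
# Descent of homomorphisms of finite locally free modules along a morphism with `O_Y → f_* O_X ⇉ g_* O`
exact

* `pbS_comb`, `pbS_injective`: pull-back of sections of a locally free module is injective when
  `O_Y → f_* O_X` is;
* `mem_range_pbS`: sections of `f^* M` over `f⁻¹ U` whose two pull-backs agree come from `M`.
-/

set_option autoImplicit false
universe u

open CategoryTheory CategoryTheory.Limits AlgebraicGeometry Opposite TopologicalSpace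

namespace K249.LFDesc

open Groth.Agent.Sga67.Sec Groth.Agent.Sga67.LocBasis
open Groth.Agent.Krr.H487.LocBasisPull

variable {X Y : Scheme.{u}} (f : X ⟶ Y)

theorem pbS_comb {M : Y.Modules} {U V : Y.Opens} {n : ℕ} (b : Fin n → Sec M U) (h : V ≤ U)
    (h' : f ⁻¹ᵁ V ≤ f ⁻¹ᵁ U) (a : Fin n → Γ(Y, V)) :
    pbS f M (comb b h a) =
      comb (M := (Scheme.Modules.pullback f).obj M) (U := f ⁻¹ᵁ U) (fun k => pbS f M (b k)) h'
        (fun k => (f.app V (a k) : Γ(X, f ⁻¹ᵁ V))) := by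
  rw [comb_apply, comb_apply, map_sum]
  refine Finset.sum_congr rfl fun k _ => ?_
  rw [pbS_smul, res_pbS]

theorem exists_basis_nhd {M : Y.Modules} (hM : FlatMod.IsFinLocFree M) {U : Y.Opens} {y : Y}
    (hy : y ∈ U) : ∃ (V : Y.Opens), V ≤ U ∧ y ∈ V ∧ ∃ (n : ℕ) (b : Fin n → Sec M V),
      IsLocBasis b := by
  obtain ⟨W, n, hW, b, hb⟩ := (isFinLocFree_iff M).1 hM y
  exact ⟨W ⊓ U, inf_le_right, ⟨hW, hy⟩, n, _, hb.restrict inf_le_left⟩

section inj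

variable (hinj : ∀ U : Y.Opens, Function.Injective (f.app U))

include hinj in
theorem pbS_injective_of_basis {M : Y.Modules} {U : Y.Opens} {n : ℕ} {b : Fin n → Sec M U}
    (hb : IsLocBasis b) : Function.Injective (pbS f M (U := U)) := by
  intro s t hst
  obtain ⟨a, rfl⟩ := (hb U le_rfl).2 s
  obtain ⟨a', rfl⟩ := (hb U le_rfl).2 t
  rw [pbS_comb f b le_rfl le_rfl, pbS_comb f b le_rfl le_rfl] at hst
  have h1 := (isLocBasis_pbS f hb (f ⁻¹ᵁ U) le_rfl).1 hst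
  congr 1
  funext k
  exact hinj U (congrFun h1 k)

include hinj in
theorem pbS_injective {M : Y.Modules} (hM : FlatMod.IsFinLocFree M) (U : Y.Opens) :
    Function.Injective (pbS f M (U := U)) := by
  intro s t hst
  refine eq_of_locally M fun y hy => ?_
  obtain ⟨V, hVU, hyV, n, b, hb⟩ := exists_basis_nhd hM hy
  refine ⟨V, hVU, hyV, pbS_injective_of_basis f hinj hb ?_⟩
  have h : f ⁻¹ᵁ V ≤ f ⁻¹ᵁ U := fun x hx => hVU hx
  rw [← res_pbS f M hVU h, ← res_pbS f M hVU h, hst]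

end inj

/-- The isomorphism `g₁^* M ≅ g₂^* M` for `g₁ = g₂` on pulled back sections. -/
theorem congr_pbS {Z : Scheme.{u}} {g₁ g₂ : Z ⟶ Y} (h : g₁ = g₂) (M : Y.Modules) {U : Y.Opens}
    (hU : g₁ ⁻¹ᵁ U ≤ g₂ ⁻¹ᵁ U) (s : Sec M U) :
    appS ((Scheme.Modules.pullbackCongr h).hom.app M) (g₁ ⁻¹ᵁ U) (pbS g₁ M s) =
      res _ hU (pbS g₂ M s) := by
  subst h
  rw [res_self]
  have : (Scheme.Modules.pullbackCongr (rfl : g₁ = g₁)).hom = 𝟙 _ := rfl
  rw [this]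
  rfl

/-- The image of a function on `f⁻¹ U` under `p`. -/
noncomputable def apO {Z : Scheme.{u}} (p : Z ⟶ X) {U : Y.Opens} (a : Γ(X, f ⁻¹ᵁ U)) :
    Γ(Z, (p ≫ f) ⁻¹ᵁ U) := p.app (f ⁻¹ᵁ U) a

/-- The image of a section of `f^* M` in `(p ≫ f)^* M`. -/
noncomputable def D {Z : Scheme.{u}} (p : Z ⟶ X) (M : Y.Modules) {U : Y.Opens}
    (t : Sec ((Scheme.Modules.pullback f).obj M) (f ⁻¹ᵁ U)) :
    Sec ((Scheme.Modules.pullback (p ≫ f)).obj M) ((p ≫ f) ⁻¹ᵁ U) :=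
  appS ((Scheme.Modules.pullbackComp p f).hom.app M) ((p ≫ f) ⁻¹ᵁ U)
    (pbS p ((Scheme.Modules.pullback f).obj M) t)

theorem D_add {Z : Scheme.{u}} (p : Z ⟶ X) (M : Y.Modules) {U : Y.Opens}
    (s t : Sec ((Scheme.Modules.pullback f).obj M) (f ⁻¹ᵁ U)) :
    D f p M (s + t) = D f p M s + D f p M t := by
  unfold D
  rw [map_add]
  exact map_add _ _ _

theorem D_smul {Z : Scheme.{u}} (p : Z ⟶ X) (M : Y.Modules) {U : Y.Opens} (a : Γ(X, f ⁻¹ᵁ U))
    (t : Sec ((Scheme.Modules.pullback f).obj M) (f ⁻¹ᵁ U)) :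
    D f p M (a • t) = apO f p a • D f p M t := by
  unfold D
  rw [pbS_smul]
  exact map_smul (appS ((Scheme.Modules.pullbackComp p f).hom.app M) ((p ≫ f) ⁻¹ᵁ U)) _ _

theorem D_zero {Z : Scheme.{u}} (p : Z ⟶ X) (M : Y.Modules) {U : Y.Opens} :
    D f p M (0 : Sec ((Scheme.Modules.pullback f).obj M) (f ⁻¹ᵁ U)) = 0 := by
  have h := D_add f p M (0 : Sec ((Scheme.Modules.pullback f).obj M) (f ⁻¹ᵁ U)) 0
  rw [add_zero] at h
  exact left_eq_add.1 h

theorem D_sum {Z : Scheme.{u}} (p : Z ⟶ X) (M : Y.Modules) {U : Y.Opens} {κ : Type*}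
    (s : Finset κ) (t : κ → Sec ((Scheme.Modules.pullback f).obj M) (f ⁻¹ᵁ U)) :
    D f p M (∑ k ∈ s, t k) = ∑ k ∈ s, D f p M (t k) := by
  classical
  induction s using Finset.induction_on with
  | empty => rw [Finset.sum_empty, Finset.sum_empty, D_zero]
  | insert a s ha ih => rw [Finset.sum_insert ha, Finset.sum_insert ha, D_add, ih]

theorem D_pbS {Z : Scheme.{u}} (p : Z ⟶ X) (M : Y.Modules) {U : Y.Opens} (s : Sec M U) :
    D f p M (pbS f M s) = pbS (p ≫ f) M s :=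
  Groth.Agent.Dcoh.MonPull.pullbackComp_hom_pb p f (M := M) (V := U) s

theorem D_comb {Z : Scheme.{u}} (p : Z ⟶ X) {M : Y.Modules} {U : Y.Opens} {n : ℕ}
    (b : Fin n → Sec M U) (a : Fin n → Γ(X, f ⁻¹ᵁ U)) :
    D f p M (comb (M := (Scheme.Modules.pullback f).obj M) (U := f ⁻¹ᵁ U)
        (fun k => pbS f M (b k)) le_rfl a) =
      comb (M := (Scheme.Modules.pullback (p ≫ f)).obj M) (U := (p ≫ f) ⁻¹ᵁ U)
        (fun k => pbS (p ≫ f) M (b k)) le_rfl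
        (fun k => apO f p (a k)) := by
  rw [comb_apply, comb_apply, D_sum]
  refine Finset.sum_congr rfl fun k _ => ?_
  rw [D_smul, res_self, res_self, D_pbS]

/-- Sections of `f^* M` over `f⁻¹ U` whose two pull-backs agree come from `M` (over opens where `M` has
a basis). -/
theorem mem_range_pbS {Z : Scheme.{u}} (p₁ p₂ : Z ⟶ X) (hp : p₁ ≫ f = p₂ ≫ f) {M : Y.Modules}
    {U : Y.Opens} {n : ℕ} {b : Fin n → Sec M U} (hb : IsLocBasis b)
    (hU : (p₁ ≫ f) ⁻¹ᵁ U ≤ (p₂ ≫ f) ⁻¹ᵁ U)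
    (hex : ∀ a : Γ(X, f ⁻¹ᵁ U), apO f p₁ a = resO Z hU (apO f p₂ a) → a ∈ Set.range (f.app U))
    (t : Sec ((Scheme.Modules.pullback f).obj M) (f ⁻¹ᵁ U))
    (ht : appS ((Scheme.Modules.pullbackCongr hp).hom.app M) ((p₁ ≫ f) ⁻¹ᵁ U) (D f p₁ M t) =
      res _ hU (D f p₂ M t)) : ∃ s : Sec M U, pbS f M s = t := by
  obtain ⟨a, rfl⟩ := (isLocBasis_pbS f hb (f ⁻¹ᵁ U) le_rfl).2 t
  rw [D_comb, D_comb, res_comb] at ht
  have h1 : appS ((Scheme.Modules.pullbackCongr hp).hom.app M) ((p₁ ≫ f) ⁻¹ᵁ U)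
      (comb (M := (Scheme.Modules.pullback (p₁ ≫ f)).obj M) (U := (p₁ ≫ f) ⁻¹ᵁ U)
        (fun k => pbS (p₁ ≫ f) M (b k)) le_rfl
        (fun k => apO f p₁ (a k))) =
      comb (M := (Scheme.Modules.pullback (p₂ ≫ f)).obj M) (U := (p₂ ≫ f) ⁻¹ᵁ U)
        (fun k => pbS (p₂ ≫ f) M (b k)) hU
        (fun k => apO f p₁ (a k)) := by
    rw [comb_apply, comb_apply, map_sum]
    refine Finset.sum_congr rfl fun k _ => ?_
    rw [map_smul, res_self, congr_pbS hp M hU]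
  rw [h1] at ht
  have h2 := (isLocBasis_pbS (p₂ ≫ f) hb _ hU).1 ht
  have h3 : ∀ k, ∃ c : Γ(Y, U), f.app U c = a k := fun k => hex (a k) (congrFun h2 k)
  choose c hc using h3
  refine ⟨comb b le_rfl c, ?_⟩
  rw [pbS_comb f b le_rfl le_rfl]
  congr 1
  funext k
  exact hc k

end K249.LFDesc
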