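import Groth.Agent.FlatMor.K249.FGLimit
import Groth.Agent.FlatMor.K249.GeomNormal
import Groth.Agent.S0591
import Groth.Agent.Ega43.LimCompare

/-!
# Spreading out the normalization of a geometric fibre to a finitely generated algebra
-/

set_option autoImplicit false
set_option linter.style.haveILetI false
universe u

open CategoryTheory CategoryTheory.Limits AlgebraicGeometry Opposite

namespace K249.NormSpread

open Groth.Agent K249.FGLimit

/-- The normalization of `X ×_S Spec Ω` descends to a finitely generated `R`-subalgebra of `Ω`. -/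
theorem exists_model (R Ω : Type u) [CommRing R] [IsNoetherianRing R] [Field Ω]
    [Algebra R Ω] {X S : Scheme.{u}} (f : X ⟶ S) [LocallyOfFiniteType f] [QuasiCompact f]
    [GeometricallyIntegral f] (b : Spec (CommRingCat.of R) ⟶ S) :
    ∃ (B : Subalgebra R Ω) (XB Y' Y : Scheme.{u}) (a : XB ⟶ X) (pB : XB ⟶ Spec (CommRingCat.of B))
      (ν' : Y' ⟶ XB) (g : Y ⟶ Y') (y : Y ⟶ Spec (CommRingCat.of Ω)), B.FG ∧
      IsPullback a pB f (Spec.map (CommRingCat.ofHom (algebraMap R B)) ≫ b) ∧ IsFinite ν' ∧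
      IsPullback g y (ν' ≫ pB) (Spec.map (CommRingCat.ofHom (algebraMap B Ω))) ∧
      IsIntegral Y ∧ Pi1.IsNormalScheme Y ∧
      Set.range (g ≫ ν').base = {x | pB.base x ∈
        Set.range (Spec.map (CommRingCat.ofHom (algebraMap B Ω))).base} := by
  let D := specDiagram R Ω
  let c := specCone R Ω
  have hc : IsLimit c := isLimitSpecCone R Ω
  let i₀ : (FGSub R Ω)ᵒᵖ := op ⟨⊥, Subalgebra.fg_bot⟩
  let bi : ∀ i : (FGSub R Ω)ᵒᵖ, D.obj i ⟶ S := fun i =>
    Spec.map (CommRingCat.ofHom (algebraMap R i.unop.1)) ≫ b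
  have hbi : ∀ {i j : (FGSub R Ω)ᵒᵖ} (φ : i ⟶ j), D.map φ ≫ bi j = bi i := by
    intro i j φ
    change Spec.map _ ≫ Spec.map _ ≫ b = _
    rw [← Category.assoc, ← Spec.map_comp]
    rfl
  let X₀ := pullback f (bi i₀)
  let g₀ : X₀ ⟶ D.obj i₀ := pullback.snd f (bi i₀)
  have hN0 : IsLocallyNoetherian (D.obj i₀) := inferInstance
  have hg₀ : LocallyOfFiniteType g₀ := inferInstance
  have hq₀ : QuasiCompact g₀ := inferInstance
  have hNX : IsLocallyNoetherian X₀ := LocallyOfFiniteType.isLocallyNoetherian g₀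
  have hCX : CompactSpace X₀ := QuasiCompact.compactSpace_of_compactSpace g₀
  have hNX' : IsNoetherian X₀ := {}
  let E := Ega43.LimDesc.bc D g₀
  let cE := Ega43.LimDesc.bcCone D c g₀
  have hcE : IsLimit cE := Ega43.LimDesc.bcIsLimit D c g₀ hc
  let P : Scheme.{u} := cE.pt
  let p : P ⟶ Spec (CommRingCat.of Ω) := Ega43.LimDesc.bcPtFst D c g₀
  have hsq0 : IsPullback p (Ega43.LimDesc.bcPtSnd D c g₀) (c.π.app i₀) g₀ :=
    Ega43.LimDesc.bcCone_isPullback₀ D c g₀
  have hX₀ : IsPullback (pullback.fst f (bi i₀)) g₀ f (bi i₀) := IsPullback.of_hasPullback _ _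
  have hsqP : IsPullback (Ega43.LimDesc.bcPtSnd D c g₀ ≫ pullback.fst f (bi i₀)) p f
      (c.π.app i₀ ≫ bi i₀) := (hsq0.paste_vert hX₀.flip).flip
  have hp : LocallyOfFiniteType p := MorphismProperty.of_isPullback hsq0.flip hg₀
  have hPint : IsIntegral P :=
    GeometricallyIntegral.geometrically_isIntegral (f := f) (K := Ω) (c.π.app i₀ ≫ bi i₀) _ _ hsqP
  obtain ⟨Y, ν, hY, hYn, hν, hνs⟩ := GeomNormal.exists_normalization p
  have hNoe : IsNoetherianRing (CommRingCat.of Ω) := inferInstanceAs (IsNoetherianRing Ω)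
  have hNP : IsLocallyNoetherian P := LocallyOfFiniteType.isLocallyNoetherian p
  have hνfp : LocallyOfFinitePresentation ν := LocallyOfFinitePresentation.iff_locallyOfFiniteType.2 inferInstance
  obtain ⟨j, Yj, νj, gj, h1, h2, h3, h4⟩ := S0591.result E cE hcE Y ν
  obtain ⟨i, φ, Y', q, ν', h5, h6⟩ := Ega43.LimCompare.descends_isFinite E cE hcE j νj gj ν h4 hν
  have hgi : ∃ g : Y ⟶ Y', IsPullback g ν ν' (cE.π.app i) := by
    have h7 : IsPullback gj ν νj (cE.π.app i ≫ E.map φ) := by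
      rw [cE.w]
      exact h4
    refine ⟨h5.lift gj (ν ≫ cE.π.app i) (by rw [Category.assoc]; exact h7.w), ?_⟩
    refine IsPullback.of_right ?_ (h5.lift_snd _ _ _) h5
    rw [h5.lift_fst]
    exact h7
  obtain ⟨g, hg⟩ := hgi
  have hsqi : IsPullback (cE.π.app i) p (Ega43.LimDesc.bcFst D g₀ i) (c.π.app i.left) :=
    Ega43.LimDesc.bcCone_isPullback D c g₀ i
  have hsqi0 : IsPullback (Ega43.LimDesc.bcFst D g₀ i) (Ega43.LimDesc.bcSnd D g₀ i) (D.map i.hom) g₀ :=
    Ega43.LimDesc.bc_isPullback₀ D g₀ i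
  refine ⟨i.left.unop.1, E.obj i, Y', Y, Ega43.LimDesc.bcSnd D g₀ i ≫ pullback.fst f (bi i₀),
    Ega43.LimDesc.bcFst D g₀ i, ν', g, ν ≫ p, i.left.unop.2, ?_, h6, ?_, hY, hYn, ?_⟩
  · have h8 := (hsqi0.paste_vert hX₀.flip).flip
    rw [hbi] at h8
    exact h8
  · exact hg.paste_vert hsqi
  · ext x
    constructor
    · rintro ⟨z, rfl⟩
      refine ⟨(ν ≫ p).base z, ?_⟩
      have e : (ν ≫ p) ≫ c.π.app i.left = (g ≫ ν') ≫ Ega43.LimDesc.bcFst D g₀ i := by
        rw [hg.w, Category.assoc, Category.assoc, hsqi.w]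
      exact congrArg (fun k : Y ⟶ D.obj i.left => k.base z) e
    · rintro ⟨w, hw⟩
      obtain ⟨z, hz, -⟩ := Scheme.exists_preimage_of_isPullback hsqi x w hw.symm
      obtain ⟨t, rfl⟩ := ν.surjective z
      refine ⟨t, ?_⟩
      rw [hg.w, Scheme.Hom.comp_apply]
      exact hz

end K249.NormSpread
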