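import Groth.Agent.FlatMor.K249.GeomNormal
import Groth.Agent.S0414
import Groth.Agent.S0419
import Groth.Agent.S0434
import Groth.Agent.S2080
import Groth.Agent.S4827
import Groth.Agent.Cons9.K118.GenCons
import Groth.Agent.Flat2D.GenFibTop
import Groth.Agent.Flat2D.GeomFib
import Groth.Agent.Flat2E.GenericQS

/-!
# Generic finiteness of an algebraic extension; good opens for the spread-out normalization
-/

set_option autoImplicit false
set_option linter.style.haveILetI false
universe u

open CategoryTheory CategoryTheory.Limits AlgebraicGeometry Opposite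

namespace K249.NormSpread2

open Groth.Agent

/-- A generically finite dominant morphism of integral schemes is finite flat surjective over an open. -/
theorem exists_finite_flat {S T : Scheme.{u}} [IsIntegral S] [IsIntegral T] (t : T ⟶ S)
    [LocallyOfFiniteType t] [QuasiCompact t] [QuasiSeparated t]
    (hfib : ∀ x, t x = genericPoint S → x = genericPoint T)
    (hdom : t (genericPoint T) = genericPoint S) :
    ∃ V : S.Opens, (V : Set S).Nonempty ∧ IsFinite (t ∣_ V) ∧ Flat (t ∣_ V) ∧ Surjective (t ∣_ V) := by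
  have h1 : (t.base ⁻¹' {genericPoint S}).Finite :=
    (Set.finite_singleton (genericPoint T)).subset fun x hx => hfib x hx
  have hη : closure {genericPoint S} ∈ irreducibleComponents (S : Type u) := by
    rw [irreducibleComponents_eq_singleton, genericPoint_closure]
    exact rfl
  obtain ⟨V, hV, hηV, hfin⟩ := (S2080.result t (genericPoint S) hη).1 h1
  obtain ⟨V', hV', hfl, -⟩ := S0414.result t
  have hηV' : genericPoint S ∈ V' := Flat2D.GenFibTop.genericPoint_mem V' hV'.nonempty
  have h2 : IsFinite (t ∣_ (V ⊓ V')) := Flat2E.GenericQS.restrict_of_le @IsFinite t inf_le_left hfin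
  have h3 : Flat (t ∣_ (V ⊓ V')) := Flat2E.GenericQS.restrict_of_le @Flat t inf_le_right hfl
  refine ⟨V ⊓ V', ⟨_, hηV, hηV'⟩, h2, h3, ?_⟩
  refine ⟨fun y => ?_⟩
  have hcl : IsClosed (Set.range (t ∣_ (V ⊓ V')).base) := (t ∣_ (V ⊓ V')).isClosedMap.isClosed_range
  have h4 : (⟨genericPoint S, hηV, hηV'⟩ : ↥(V ⊓ V')) ∈ Set.range (t ∣_ (V ⊓ V')).base := by
    refine ⟨⟨genericPoint T, ?_⟩, ?_⟩
    · change t (genericPoint T) ∈ V ⊓ V'
      rw [hdom]
      exact ⟨hηV, hηV'⟩
    · apply (V ⊓ V').ι.isEmbedding.injective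
      rw [← Scheme.Hom.comp_apply, morphismRestrict_ι]
      exact hdom
  have hηW : genericPoint S ∈ V ⊓ V' := ⟨hηV, hηV'⟩
  have h5 : (⟨genericPoint S, hηW⟩ : ((V ⊓ V' : S.Opens) : Scheme.{u})) ⤳ y :=
    (V ⊓ V').ι.isEmbedding.isInducing.specializes_iff.1 (genericPoint_specializes _)
  exact hcl.stableUnderSpecialization h5 h4

/-- The factorization of a field point through the residue field. -/
theorem exists_fac {Ω : Type u} [Field Ω] {T : Scheme.{u}} (σ : Spec (CommRingCat.of Ω) ⟶ T) (s : T)
    (hs : σ (IsLocalRing.closedPoint Ω) = s) :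
    ∃ φ : T.residueField s ⟶ CommRingCat.of Ω, Spec.map φ ≫ T.fromSpecResidueField s = σ := by
  subst hs
  exact ⟨T.descResidueField (Scheme.stalkClosedPointTo σ),
    Scheme.descResidueField_stalkClosedPointTo_fromSpecResidueField Ω T σ⟩

/-- The fibre over a field point as base change of the fibre over the point. -/
theorem exists_fiber_pullback {Ω : Type u} [Field Ω] {T Y Z : Scheme.{u}} {q : Y ⟶ T} (s : T)
    {σ : Spec (CommRingCat.of Ω) ⟶ T} {a : Z ⟶ Y} {b : Z ⟶ Spec (CommRingCat.of Ω)}
    (h : IsPullback a b q σ) (hs : σ (IsLocalRing.closedPoint Ω) = s) :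
    ∃ (φ : T.residueField s →+* Ω),
      Nonempty (Z ≅ pullback (q.fiberToSpecResidueField s) (Spec.map (CommRingCat.ofHom φ))) := by
  obtain ⟨φ, hφ⟩ := exists_fac σ s hs
  have h3 : IsPullback (q.fiberι s) (q.fiberToSpecResidueField s) q (T.fromSpecResidueField s) :=
    IsPullback.of_hasPullback _ _
  obtain ⟨p, hp, -⟩ := Flat2D.GeomFib.exists_isPullback_lift h3 h (Spec.map φ) hφ
  exact ⟨φ.hom, ⟨hp.isoPullback⟩⟩

theorem isNormalScheme_of_iso {X Y : Scheme.{u}} (e : X ≅ Y) (h : Pi1.IsNormalScheme Y) :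
    Pi1.IsNormalScheme X := by
  intro x
  have h1 := h (e.hom x)
  have : IsIso (e.hom.stalkMap x) := inferInstance
  exact Groth.Agent.VarietyB.NormalBc.P_of_equiv _ _ (asIso (e.hom.stalkMap x)).commRingCatIsoToRingEquiv h1

end K249.NormSpread2
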