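import Groth.Agent.FlatMor.K249.NormSpread2

/-!
# The good open of a spread-out normalization
-/

set_option autoImplicit false
set_option linter.style.haveILetI false
universe u

open CategoryTheory CategoryTheory.Limits AlgebraicGeometry Opposite

namespace K249.NormSpread3

open Groth.Agent K249.NormSpread2

theorem normal_fiber {T Y' Y : Scheme.{u}} (q : Y' ⟶ T)
    {Ω : Type u} [Field Ω] [IsAlgClosed Ω] (σ : Spec (CommRingCat.of Ω) ⟶ T) (τ : T)
    (hσ : σ (IsLocalRing.closedPoint Ω) = τ)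
    (g : Y ⟶ Y') (y : Y ⟶ Spec (CommRingCat.of Ω)) (hY : IsPullback g y q σ)
    [IsIntegral Y] (hN : Pi1.IsNormalScheme Y) :
    GeometricallyIntegral (q.fiberToSpecResidueField τ) ∧
      ∀ (K : Type u) [Field K] (φ : T.residueField τ →+* K), Pi1.IsNormalScheme
        (pullback (q.fiberToSpecResidueField τ) (Spec.map (CommRingCat.ofHom φ))) := by
  obtain ⟨φ, ⟨e⟩⟩ := exists_fiber_pullback τ hY hσ
  letI : Algebra (IsLocalRing.ResidueField (T.presheaf.stalk τ)) Ω := φ.toAlgebra
  have hint : IsIntegral (pullback (q.fiberToSpecResidueField τ) (Spec.map (CommRingCat.ofHom φ))) := by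
    have : Nonempty ↥(pullback (q.fiberToSpecResidueField τ) (Spec.map (CommRingCat.ofHom φ))) :=
      ⟨e.hom (genericPoint Y)⟩
    exact isIntegral_of_isOpenImmersion e.inv
  have hnor : Pi1.IsNormalScheme
      (pullback (q.fiberToSpecResidueField τ) (Spec.map (CommRingCat.ofHom φ))) :=
    isNormalScheme_of_iso e.symm hN
  refine ⟨GeomNormal.geometricallyIntegral_of_bc
    (k := IsLocalRing.ResidueField (T.presheaf.stalk τ)) (Ω := Ω) _ hint, fun K _ ψ => ?_⟩
  letI : Algebra (IsLocalRing.ResidueField (T.presheaf.stalk τ)) K := ψ.toAlgebra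
  exact GeomNormal.isNormalScheme_bc
    (k := IsLocalRing.ResidueField (T.presheaf.stalk τ)) (Ω := Ω) _ hnor K

/-- The open of good fibres. -/
theorem exists_good_open {T Y' : Scheme.{u}} [IsIntegral T] (q : Y' ⟶ T)
    [LocallyOfFiniteType q] [QuasiCompact q] [LocallyOfFinitePresentation q] [QuasiSeparated q]
    {Ω : Type u} [Field Ω] [IsAlgClosed Ω] (σ : Spec (CommRingCat.of Ω) ⟶ T)
    (hσ : σ (IsLocalRing.closedPoint Ω) = genericPoint T)
    {Y : Scheme.{u}} (g : Y ⟶ Y') (y : Y ⟶ Spec (CommRingCat.of Ω)) (hY : IsPullback g y q σ)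
    [IsIntegral Y] (hN : Pi1.IsNormalScheme Y) :
    ∃ W : T.Opens, (W : Set T).Nonempty ∧ Flat (q ∣_ W) ∧ GeometricallyIntegral (q ∣_ W) ∧
      ∀ s ∈ W, ∀ (K : Type u) [Field K] (φ : T.residueField s →+* K), Pi1.IsNormalScheme
        (pullback (q.fiberToSpecResidueField s) (Spec.map (CommRingCat.ofHom φ))) := by
  obtain ⟨hgi, hgn⟩ := normal_fiber q σ (genericPoint T) hσ g y hY hN
  obtain ⟨W1, hW1, hred⟩ := S0434.result q inferInstance
  obtain ⟨W2, hW2, hirr⟩ := S0419.result q inferInstance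
  obtain ⟨W3, hW3, hfl, -⟩ := S0414.result q
  have hgen : IsGenericPoint (genericPoint T) Set.univ := genericPoint_spec T
  obtain ⟨W4, hW4o, hW4g, hW4⟩ := K118.GenCons.exists_open_subset hgen (S4827.result q)
    (by
      intro K _ _ x'
      exact hgn K (algebraMap (IsLocalRing.ResidueField (T.presheaf.stalk (genericPoint T))) K) x')
  let W : T.Opens := W1 ⊓ W2 ⊓ W3 ⊓ ⟨W4, hW4o⟩
  have h1 : W ≤ W1 := inf_le_left.trans (inf_le_left.trans inf_le_left)
  have h2 : W ≤ W2 := inf_le_left.trans (inf_le_left.trans inf_le_right)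
  have h3 : W ≤ W3 := inf_le_left.trans inf_le_right
  have h4 : W ≤ ⟨W4, hW4o⟩ := inf_le_right
  have hr : GeometricallyReduced (q ∣_ W) := Flat2E.GenericQS.restrict_of_le @GeometricallyReduced q h1 hred
  have hi : GeometricallyIrreducible (q ∣_ W) :=
    Flat2E.GenericQS.restrict_of_le @GeometricallyIrreducible q h2 hirr
  refine ⟨W, ⟨genericPoint T, ⟨⟨Flat2D.GenFibTop.genericPoint_mem W1 hW1,
    Flat2D.GenFibTop.genericPoint_mem W2 hW2⟩, Flat2D.GenFibTop.genericPoint_mem W3 hW3.nonempty⟩, hW4g⟩,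
    Flat2E.GenericQS.restrict_of_le @Flat q h3 hfl,
    GeometricallyIntegral.of_geometricallyReduced_of_geometricallyIrreducible _, ?_⟩
  intro s hs K _ φ x'
  letI : Algebra (IsLocalRing.ResidueField (T.presheaf.stalk s)) K := φ.toAlgebra
  exact hW4 (h4 hs) K x'

end K249.NormSpread3
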