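import Groth.Agent.S1358
import Groth.Agent.S4715
import Groth.Agent.Flat2D.GenFibTop

/-!
# Shrinking the target of a finite flat cover
-/

set_option autoImplicit false
set_option linter.style.haveILetI false
universe u

open CategoryTheory CategoryTheory.Limits AlgebraicGeometry

namespace K249.ShrinkFin

open Groth.Agent

/-- Shrink the target of a finite flat surjection so that the source lies in a given open. -/
theorem exists_shrink {X Y Y1 : Scheme.{u}} [IsIntegral Y] [IsIntegral Y1] (f : X ⟶ Y)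
    {V : Y.Opens} (g : Y1 ⟶ (V : Scheme.{u})) [IsFinite g] [Flat g] [Surjective g]
    (W : Y1.Opens) (hW : (W : Set Y1).Nonempty) :
    ∃ (V2 : Y.Opens) (Y2 : Scheme.{u}) (g2 : Y2 ⟶ (V2 : Scheme.{u})) (o : Y2 ⟶ Y1),
      (V2 : Set Y).Nonempty ∧ V2 ≤ V ∧ IsIntegral Y2 ∧ IsFinite g2 ∧ Flat g2 ∧ Surjective g2 ∧
        IsOpenImmersion o ∧ Set.range o.base ⊆ W ∧ o ≫ (g ≫ V.ι) = g2 ≫ V2.ι ∧
        ∃ m : pullback f (g2 ≫ V2.ι) ⟶ pullback f (g ≫ V.ι),
          m ≫ pullback.fst f (g ≫ V.ι) = pullback.fst f (g2 ≫ V2.ι) ∧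
          IsPullback m (pullback.snd f (g2 ≫ V2.ι)) (pullback.snd f (g ≫ V.ι)) o := by
  let C : Set (V : Scheme.{u}) := g.base '' (W : Set Y1)ᶜ
  have hC : IsClosed C := g.isClosedMap _ W.isOpen.isClosed_compl
  obtain ⟨w0, hw0⟩ := hW
  have hVne : Nonempty (V : Scheme.{u}) := ⟨g w0⟩
  have hVint : IsIntegral (V : Scheme.{u}) := isIntegral_of_isOpenImmersion V.ι
  have hgen : g (genericPoint Y1) = genericPoint (V : Scheme.{u}) := by
    refine ((genericPoint_spec (V : Scheme.{u})).eq ?_).symm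
    change closure {g (genericPoint Y1)} = Set.univ
    have h1 : closure {genericPoint Y1} = Set.univ := genericPoint_spec Y1
    rw [Set.eq_univ_iff_forall]
    intro y
    obtain ⟨x, rfl⟩ := g.surjective y
    have h2 : genericPoint Y1 ⤳ x := genericPoint_specializes x
    exact (h2.map g.continuous).mem_closure
  have hgC : genericPoint (V : Scheme.{u}) ∉ C := by
    rintro ⟨x, hx, hgx⟩
    have h1 : genericPoint Y1 = x :=
      S4715.eq_of_specializes g _ x (genericPoint_specializes x) (hgen.trans hgx.symm)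
    apply hx
    rw [← h1]
    exact Flat2D.GenFibTop.genericPoint_mem W ⟨w0, hw0⟩
  let V2 : Y.Opens := ⟨V.ι '' Cᶜ, V.ι.isOpenEmbedding.isOpenMap _ hC.isOpen_compl⟩
  have hV2ne : (V2 : Set Y).Nonempty := ⟨_, _, hgC, rfl⟩
  have hle : V2 ≤ V := by
    rintro _ ⟨v, -, rfl⟩
    exact v.2
  let U : Y1.Opens := (g ≫ V.ι) ⁻¹ᵁ V2
  have hleW : U ≤ W := by
    intro x hx
    obtain ⟨v, hv, h⟩ := (show (g ≫ V.ι) x ∈ V2 from hx)
    rw [Scheme.Hom.comp_apply] at h
    have h1 := V.ι.isOpenEmbedding.injective h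
    by_contra hxW
    exact hv ⟨x, hxW, h1.symm⟩
  let g2 : (U : Scheme.{u}) ⟶ (V2 : Scheme.{u}) := (g ≫ V.ι) ∣_ V2
  have hg2 : IsPullback U.ι g2 g (Y.homOfLE hle) := by
    apply S1358.isPullback_of_comp_mono V.ι
    rw [Scheme.homOfLE_ι]
    exact (isPullback_morphismRestrict (g ≫ V.ι) V2).flip
  have hU : Nonempty (U : Scheme.{u}) := by
    refine ⟨⟨genericPoint Y1, ?_⟩⟩
    change (g ≫ V.ι) (genericPoint Y1) ∈ V2
    rw [Scheme.Hom.comp_apply, hgen]
    exact ⟨_, hgC, rfl⟩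
  have hUint : IsIntegral (U : Scheme.{u}) := isIntegral_of_isOpenImmersion U.ι
  have hw : g2 ≫ (Scheme.Opens.ι V2) = U.ι ≫ (g ≫ V.ι) := morphismRestrict_ι _ _
  have hP1 : IsPullback (pullback.fst f (g ≫ V.ι)) (pullback.snd f (g ≫ V.ι)) f (g ≫ V.ι) :=
    IsPullback.of_hasPullback _ _
  have hP2 : IsPullback (pullback.fst f (g2 ≫ (Scheme.Opens.ι V2))) (pullback.snd f (g2 ≫ (Scheme.Opens.ι V2))) f
    (g2 ≫ (Scheme.Opens.ι V2)) := IsPullback.of_hasPullback _ _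
  let m : pullback f (g2 ≫ (Scheme.Opens.ι V2)) ⟶ pullback f (g ≫ V.ι) :=
    hP1.lift (pullback.fst _ _) (pullback.snd _ _ ≫ U.ι) (by rw [hP2.w, hw, Category.assoc])
  have hm2 : m ≫ pullback.snd f (g ≫ V.ι) = pullback.snd f (g2 ≫ (Scheme.Opens.ι V2)) ≫ U.ι := hP1.lift_snd _ _ _
  have hm1 : m ≫ pullback.fst f (g ≫ V.ι) = pullback.fst f (g2 ≫ (Scheme.Opens.ι V2)) := hP1.lift_fst _ _ _
  have hP3 : IsPullback m (pullback.snd f (g2 ≫ (Scheme.Opens.ι V2))) (pullback.snd f (g ≫ V.ι)) U.ι := by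
    refine IsPullback.of_right (h₁₂ := pullback.fst f (g ≫ V.ι)) (h₂₂ := g ≫ V.ι) (v₁₃ := f) ?_ hm2 hP1
    rw [hm1, ← hw]
    exact hP2
  refine ⟨V2, U, g2, U.ι, hV2ne, hle, hUint, MorphismProperty.of_isPullback hg2 inferInstance,
    MorphismProperty.of_isPullback hg2 inferInstance, MorphismProperty.of_isPullback hg2 inferInstance,
    inferInstance, ?_, hw.symm, m, hm1, hP3⟩
  rw [Scheme.Opens.range_ι]
  exact hleW

end K249.ShrinkFin
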