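import Groth.Agent.FlatMor.K249.NormSpread3
import Groth.Agent.FlatMor.K249.ShrinkFin

/-!
# The finite flat cover and the model over it
-/

set_option autoImplicit false
set_option linter.style.haveILetI false
universe u

open CategoryTheory CategoryTheory.Limits AlgebraicGeometry Opposite

namespace K249.NormSpread4

open Groth.Agent K249.NormSpread2

theorem of_model {X S T XB Y' : Scheme.{u}} [IsIntegral S] [IsIntegral T] (f : X ⟶ S)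
    (t : T ⟶ S) [LocallyOfFiniteType t] [QuasiCompact t] [QuasiSeparated t]
    (hfib : ∀ x, t x = genericPoint S → x = genericPoint T)
    (hdom : t (genericPoint T) = genericPoint S)
    (a : XB ⟶ X) (pB : XB ⟶ T) (hXB : IsPullback a pB f t) (ν' : Y' ⟶ XB) [IsFinite ν']
    (W : T.Opens) (hW : (W : Set T).Nonempty) (hfl : Flat ((ν' ≫ pB) ∣_ W))
    (hgi : GeometricallyIntegral ((ν' ≫ pB) ∣_ W))
    (hn : ∀ s ∈ W, ∀ (K : Type u) [Field K] (φ : T.residueField s →+* K), Pi1.IsNormalScheme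
        (pullback ((ν' ≫ pB).fiberToSpecResidueField s) (Spec.map (CommRingCat.ofHom φ))))
    (hsurj : ∀ x, pB x ∈ W → x ∈ Set.range ν'.base) :
    ∃ (U : S.Opens) (S' : Scheme.{u}) (h : S' ⟶ (U : Scheme.{u})) (X' : Scheme.{u}) (q : X' ⟶ S')
      (g : X' ⟶ pullback f (h ≫ U.ι)),
      (U : Set S).Nonempty ∧ IsIntegral S' ∧ IsFinite h ∧ Flat h ∧ Surjective h ∧
      Flat q ∧ GeometricallyIntegral q ∧
      (∀ (Ω : Type u) [Field Ω] [IsAlgClosed Ω] (σ : Spec (CommRingCat.of Ω) ⟶ S'), Pi1.IsNormalScheme (pullback q σ)) ∧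
      IsFinite g ∧ Surjective g ∧ g ≫ pullback.snd f (h ≫ U.ι) = q := by
  obtain ⟨V, hV, hfin, hflat, hsur⟩ := exists_finite_flat t hfib hdom
  have hgV : genericPoint T ∈ t ⁻¹ᵁ V := by
    change t (genericPoint T) ∈ V
    rw [hdom]
    exact Flat2D.GenFibTop.genericPoint_mem V hV
  have hgW : genericPoint T ∈ W := Flat2D.GenFibTop.genericPoint_mem W hW
  have : Nonempty (t ⁻¹ᵁ V : Scheme.{u}) := ⟨⟨_, hgV⟩⟩
  have hint : IsIntegral (t ⁻¹ᵁ V : Scheme.{u}) := isIntegral_of_isOpenImmersion (t ⁻¹ᵁ V).ι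
  obtain ⟨V2, Y2, g2, o, hV2, -, hY2, hg2f, hg2fl, hg2s, ho, hoW, hocomm, -⟩ :=
    K249.ShrinkFin.exists_shrink f (t ∣_ V) ((t ⁻¹ᵁ V).ι ⁻¹ᵁ W) ⟨⟨_, hgV⟩, hgW⟩
  have ho' : (o ≫ (t ⁻¹ᵁ V).ι) ≫ t = g2 ≫ V2.ι := by
    rw [Category.assoc, ← hocomm, morphismRestrict_ι]
  have hoW' : ∀ z, (o ≫ (t ⁻¹ᵁ V).ι) z ∈ W := fun z => hoW ⟨z, rfl⟩
  obtain ⟨k, hk, hk2⟩ := Flat2D.GeomFib.exists_isPullback_lift hXB
    (IsPullback.of_hasPullback f (g2 ≫ V2.ι)) (o ≫ (t ⁻¹ᵁ V).ι) ho'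
  have hq : IsPullback (pullback.fst ν' k) (pullback.snd ν' k ≫ pullback.snd f (g2 ≫ V2.ι))
      (ν' ≫ pB) (o ≫ (t ⁻¹ᵁ V).ι) := (IsPullback.of_hasPullback ν' k).paste_vert hk
  have hrange : Set.range (o ≫ (t ⁻¹ᵁ V).ι) ⊆ Set.range W.ι := by
    rintro _ ⟨z, rfl⟩
    rw [Scheme.Opens.range_ι]
    exact hoW' z
  obtain ⟨p, hp, -⟩ := Flat2D.GeomFib.exists_isPullback_lift
    (isPullback_morphismRestrict (ν' ≫ pB) W).flip hq
    (IsOpenImmersion.lift W.ι (o ≫ (t ⁻¹ᵁ V).ι) hrange) (IsOpenImmersion.lift_fac _ _ _)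
  refine ⟨V2, Y2, g2, pullback ν' k, pullback.snd ν' k ≫ pullback.snd f (g2 ≫ V2.ι),
    pullback.snd ν' k, hV2, hY2, hg2f, hg2fl, hg2s, MorphismProperty.of_isPullback hp hfl,
    MorphismProperty.of_isPullback hp hgi, ?_, inferInstance, ?_, rfl⟩
  · intro Ω _ _ σ
    have hsq := (IsPullback.of_hasPullback (pullback.snd ν' k ≫ pullback.snd f (g2 ≫ V2.ι)) σ).paste_horiz hq
    obtain ⟨φ, ⟨e⟩⟩ := exists_fiber_pullback ((σ ≫ (o ≫ (t ⁻¹ᵁ V).ι)) (IsLocalRing.closedPoint Ω)) hsq rfl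
    exact isNormalScheme_of_iso e (hn _ (hoW' _) _ φ)
  · refine ⟨fun z => ?_⟩
    have hz : pB (k z) ∈ W := by
      have h1 : pB (k z) = (o ≫ (t ⁻¹ᵁ V).ι) (pullback.snd f (g2 ≫ V2.ι) z) := by
        rw [← Scheme.Hom.comp_apply, hk.w, Scheme.Hom.comp_apply]
      rw [h1]
      exact hoW' _
    obtain ⟨x, hx⟩ := hsurj _ hz
    obtain ⟨w, -, hw⟩ := Scheme.Pullback.exists_preimage_pullback (f := ν') (g := k) x z hx
    exact ⟨w, hw⟩

end K249.NormSpread4
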