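import Groth.Agent.Flat2H.PCFinal
import Groth.Agent.Flat2H.PCFppf

/-!
# Pseudo-coherent ring maps and morphisms: cancellation, affine-local criterion, finite presentation
-/

set_option autoImplicit false
set_option linter.style.haveILetI false
universe u

attribute [local instance] HasDerivedCategory.standard

namespace K249.PCCancel

open CategoryTheory CategoryTheory.Limits AlgebraicGeometry MvPolynomial
open Groth.Agent.Flat2H

/-- If `A → B` and `A → C` are pseudo-coherent then so is `B → C`. -/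
theorem pcHom_of_comp {A B C : Type u} [CommRing A] [CommRing B] [CommRing C] [Algebra A B]
    [Algebra A C] [Algebra B C] [IsScalarTower A B C] (hB : PCHom A B) (hC : PCHom A C) :
    PCHom B C := by
  obtain ⟨n, φ, hφ, h⟩ := hB
  obtain ⟨m, ψ, hψ⟩ := Algebra.FiniteType.iff_quotient_mvPolynomial''.1 hC.finiteType
  let θ : MvPolynomial (Fin m) B →ₐ[B] C := aeval (fun i => ψ (X i))
  let χ : MvPolynomial (Fin m ⊕ Fin n) A →ₐ[A] C :=
    aeval (Sum.elim (fun i => ψ (X i)) (fun i => algebraMap B C (φ (X i))))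
  have h2 : χ.toRingHom = (θ.toRingHom.comp (MvPolynomial.map φ.toRingHom)).comp
      (RingHomClass.toRingHom (sumAlgEquiv A (Fin m) (Fin n))) := by
    apply MvPolynomial.ringHom_ext
    · intro r
      simp only [AlgHom.toRingHom_eq_coe, RingHom.coe_coe, RingHom.coe_comp, Function.comp_apply,
        sumAlgEquiv_C_inl, map_C, algHom_C, χ, θ]
      exact IsScalarTower.algebraMap_apply A B C r
    · rintro (i | i)
      · simp [χ, θ]
      · simp [χ, θ]
  have hχ : Function.Surjective χ := by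
    intro c
    obtain ⟨p, rfl⟩ := hψ c
    refine ⟨rename Sum.inl p, ?_⟩
    have : χ.comp (rename Sum.inl) = ψ := by
      apply MvPolynomial.algHom_ext
      intro i; simp [χ]
    exact DFunLike.congr_fun this p
  have h3 : PCMap χ.toRingHom := hC.pcMap χ hχ
  have h4 : PCMap (θ.toRingHom.comp (MvPolynomial.map φ.toRingHom)) :=
    (PCMap.of_comp_bij (sumAlgEquiv A (Fin m) (Fin n)).bijective h2).1 h3
  have h5 : PCMap θ.toRingHom := (h.mvPolynomial_map (Fin m)).of_comp h4
  refine PCHom.of_presentation θ ?_ h5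
  intro c
  obtain ⟨p, rfl⟩ := hψ c
  refine ⟨MvPolynomial.map (algebraMap A B) p, ?_⟩
  have : (θ.restrictScalars A).comp (MvPolynomial.mapAlgHom (Algebra.ofId A B)) = ψ := by
    apply MvPolynomial.algHom_ext
    intro i; simp [θ]
  exact DFunLike.congr_fun this p

/-- Pseudo-coherence may be checked near every point of the source. -/
theorem pcMor_iff_exists {X S : Scheme.{u}} (f : X ⟶ S) :
    PCMor f ↔ ∀ x : X, ∃ (U : X.Opens) (V : S.Opens) (hUV : U ≤ f ⁻¹ᵁ V),
      IsAffineOpen U ∧ IsAffineOpen V ∧ x ∈ U ∧ PCRing (f.appLE V U hUV).hom := by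
  have hloc := pcHom_isLocal.{u}
  have := hloc.hasRingHomProperty
  constructor
  · intro h x
    obtain ⟨V, hV, hxV, -⟩ := exists_isAffineOpen_mem_and_subset (X := S) (x := f x) (U := ⊤) trivial
    obtain ⟨U, hU, hxU, hUV⟩ := exists_isAffineOpen_mem_and_subset (X := X) (x := x) (U := f ⁻¹ᵁ V) hxV
    exact ⟨U, V, hUV, hU, hV, hxU, h U V hU hV hUV⟩
  · intro h
    rw [HasRingHomProperty.iff_exists_appLE (P := PCMor) hloc.holdsForComp_source]
    intro x
    obtain ⟨U, V, hUV, hU, hV, hxU, hP⟩ := h x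
    exact ⟨⟨V, hV⟩, ⟨U, hU⟩, hxU, hUV, hP⟩

/-- Cancellation for pseudo-coherent morphisms. -/
theorem pcMor_of_comp {X Y S : Scheme.{u}} (f : X ⟶ Y) (g : Y ⟶ S) (h : PCMor (f ≫ g))
    (hg : PCMor g) : PCMor f := by
  rw [pcMor_iff_exists]
  intro x
  obtain ⟨W, hW, hxW, -⟩ := exists_isAffineOpen_mem_and_subset (X := S) (x := g (f x)) (U := ⊤) trivial
  obtain ⟨V, hV, hxV, hVW⟩ := exists_isAffineOpen_mem_and_subset (X := Y) (x := f x) (U := g ⁻¹ᵁ W) hxW
  obtain ⟨U, hU, hxU, hUV⟩ := exists_isAffineOpen_mem_and_subset (X := X) (x := x) (U := f ⁻¹ᵁ V) hxV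
  have hUW : U ≤ (f ≫ g) ⁻¹ᵁ W := hUV.trans (by
    intro y hy; exact hVW hy)
  refine ⟨U, V, hUV, hU, hV, hxU, ?_⟩
  have h1 := h U W hU hW hUW
  have h2 := hg V W hV hW hVW
  letI := (f.appLE V U hUV).hom.toAlgebra
  letI := (g.appLE W V hVW).hom.toAlgebra
  letI := ((f ≫ g).appLE W U hUW).hom.toAlgebra
  have : IsScalarTower Γ(S, W) Γ(Y, V) Γ(X, U) := IsScalarTower.of_algebraMap_eq' (by
    have h3 := Scheme.Hom.appLE_comp_appLE f g W V U hVW hUV
    exact congr(($h3).hom).symm)
  exact pcHom_of_comp (A := Γ(S, W)) (B := Γ(Y, V)) (C := Γ(X, U)) h2 h1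

/-- A pseudo-coherent morphism is locally of finite presentation. -/
theorem locallyOfFinitePresentation_of_pcMor {X S : Scheme.{u}} (f : X ⟶ S) (h : PCMor f) :
    LocallyOfFinitePresentation f := by
  rw [HasRingHomProperty.iff_appLE (P := @LocallyOfFinitePresentation)]
  intro V U e
  have h1 := h U.1 V.1 U.2 V.2 e
  letI := (f.appLE V.1 U.1 e).hom.toAlgebra
  exact PCHom.finitePresentation (A := Γ(S, V.1)) (B := Γ(X, U.1)) h1

end K249.PCCancel
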