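import Groth.Agent.FlatMor.K249.FlatStage4

/-!
# Selection of a stage of a directed colimit at which a closed subset misses a closed subset
-/

set_option autoImplicit false
set_option linter.style.haveILetI false
universe u

namespace K249.StageSel

open TensorProduct
open Groth.Agent K249.DirColimTensor

/-- Universal property of a pushout, for ring homomorphisms. -/
theorem exists_desc {A₀ A₁ B₀ B₁ T : Type u} [CommRing A₀] [CommRing A₁] [CommRing B₀]
    [CommRing B₁] [Algebra A₀ A₁] [Algebra A₀ B₀] [Algebra A₁ B₁] [Algebra B₀ B₁] [Algebra A₀ B₁]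
    [IsScalarTower A₀ A₁ B₁] [IsScalarTower A₀ B₀ B₁] [Algebra.IsPushout A₀ A₁ B₀ B₁] [CommRing T]
    (a : A₁ →+* T) (b : B₀ →+* T)
    (hab : a.comp (algebraMap A₀ A₁) = b.comp (algebraMap A₀ B₀)) :
    ∃ θ : B₁ →+* T, θ.comp (algebraMap A₁ B₁) = a ∧ θ.comp (algebraMap B₀ B₁) = b := by
  letI : Algebra A₀ T := (a.comp (algebraMap A₀ A₁)).toAlgebra
  let a' : A₁ →ₐ[A₀] T := { a with commutes' := fun x => rfl }
  let b' : B₀ →ₐ[A₀] T := { b with commutes' := fun x => (RingHom.congr_fun hab x).symm }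
  refine ⟨(Algebra.pushoutDesc B₁ a' b' (fun x y => mul_comm _ _)).toRingHom, ?_, ?_⟩
  · exact RingHom.ext fun x => Algebra.pushoutDesc_left B₁ a' b' (fun x y => mul_comm _ _) x
  · exact RingHom.ext fun x => Algebra.pushoutDesc_right B₁ a' b' (fun x y => mul_comm _ _) x

theorem exists_stage_ideal
    {A₀ A₁ B₀ B₁ : Type u} [CommRing A₀] [CommRing A₁] [CommRing B₀]
    [CommRing B₁] [Algebra A₀ A₁] [Algebra A₀ B₀] [Algebra A₁ B₁] [Algebra B₀ B₁] [Algebra A₀ B₁]
    [IsScalarTower A₀ A₁ B₁] [IsScalarTower A₀ B₀ B₁] [Algebra.IsPushout A₀ A₁ B₀ B₁]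
    [Algebra.FiniteType ℤ A₀] [Algebra.FiniteType ℤ A₁]
    {R S : Type u} [CommRing R] [CommRing S] [Algebra R S] [Algebra A₀ R]
    (b : B₀ →+* S) (hb : b.comp (algebraMap A₀ B₀) = (algebraMap R S).comp (algebraMap A₀ R))
    {ι : Type u} [Preorder ι] (G : ι → Type u) [∀ i, CommRing (G i)] [∀ i, Algebra R (G i)]
    (g : ∀ i j, i ≤ j → G i →+* G j) (hgR : ∀ i j (h : i ≤ j), (g i j h).comp (algebraMap R (G i)) = algebraMap R (G j))
    (R' : Type u) [CommRing R'] [Algebra R R'] [∀ i, Algebra (G i) R'] [∀ i, IsScalarTower R (G i) R']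
    (hcolim : FlatCA.IsDirectedColimitRing G g R')
    (Il : ∀ i, Ideal (G i)) (hIl : ∀ i j (h : i ≤ j), (Il i).map (g i j h) ≤ Il j)
    {S' : Type u} [CommRing S'] [Algebra S S'] [Algebra R' S'] [Algebra R S'] [IsScalarTower R S S']
    [IsScalarTower R R' S'] [Algebra.IsPushout R S R' S'] (J : Ideal S)
    (a : A₁ →+* R') (ha : a.comp (algebraMap A₀ A₁) = (algebraMap R R').comp (algebraMap A₀ R))
    (θ : B₁ →+* S') (hθ1 : θ.comp (algebraMap A₁ B₁) = (algebraMap R' S').comp a)
    (hθ2 : θ.comp (algebraMap B₀ B₁) = (algebraMap S S').comp b) (K : Ideal B₁)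
    (hK : ∀ (q' : Ideal S') [q'.IsPrime],
      (⨆ i, (Il i).map (algebraMap (G i) R')).map (algebraMap R' S') ⊔ J.map (algebraMap S S') ≤ q' →
        ¬ K ≤ q'.comap θ) :
    ∃ (k : ι) (w : A₁ →+* G k),
      w.comp (algebraMap A₀ A₁) = (algebraMap R (G k)).comp (algebraMap A₀ R) ∧
      ∀ (Si : Type u) [CommRing Si] [Algebra S Si] [Algebra (G k) Si] [Algebra R Si]
        [IsScalarTower R S Si] [IsScalarTower R (G k) Si] [Algebra.IsPushout R S (G k) Si]
        (θi : B₁ →+* Si), θi.comp (algebraMap A₁ B₁) = (algebraMap (G k) Si).comp w →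
        θi.comp (algebraMap B₀ B₁) = (algebraMap S Si).comp b →
        ∀ (q : Ideal Si) [q.IsPrime],
          (Il k).map (algebraMap (G k) Si) ⊔ J.map (algebraMap S Si) ≤ q → ¬ K ≤ q.comap θi := by
  classical
  -- a stage where `a` is defined
  obtain ⟨j₀, w₀, hw₀⟩ := Fdesc.DirColimLift.exists_lift G g hcolim a
  obtain ⟨j, hj, hwj⟩ := FlatStage4.exists_stage_eq G g hcolim j₀ (w₀.comp (algebraMap A₀ A₁))
    ((algebraMap R (G j₀)).comp (algebraMap A₀ R)) (by
      rw [← RingHom.comp_assoc, hw₀, ha, ← RingHom.comp_assoc,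
        ← IsScalarTower.algebraMap_eq R (G j₀) R'])
  obtain ⟨w, hw, hwa⟩ : ∃ w : A₁ →+* G j,
      w.comp (algebraMap A₀ A₁) = (algebraMap R (G j)).comp (algebraMap A₀ R) ∧
        (algebraMap (G j) R').comp w = a := by
    refine ⟨(g j₀ j hj).comp w₀, ?_, ?_⟩
    · rw [RingHom.comp_assoc, hwj, ← RingHom.comp_assoc, hgR]
    · rw [← RingHom.comp_assoc, hcolim.2.2.2.2.1 j₀ j hj, hw₀]
  -- the inclusions
  let ir : ∀ i, G i →+* S ⊗[R] G i := fun i =>
    (Algebra.TensorProduct.includeRight : G i →ₐ[R] S ⊗[R] G i).toRingHom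
  have hir : ∀ i k (h : i ≤ k) (x : G i), trS G g hgR S i k h (ir i x) = ir k (g i k h x) := by
    intro i k h x
    change trS G g hgR S i k h ((1 : S) ⊗ₜ[R] x) = _
    change Algebra.TensorProduct.map (AlgHom.id S S) (tr G g hgR i k h) ((1 : S) ⊗ₜ[R] x) = _
    rw [Algebra.TensorProduct.map_tmul]
    rfl
  obtain ⟨θj, hθj1, hθj2⟩ := exists_desc (A₀ := A₀) (A₁ := A₁) (B₀ := B₀) (B₁ := B₁)
    ((ir j).comp w) ((algebraMap S (S ⊗[R] G j)).comp b) (by
      rw [RingHom.comp_assoc, RingHom.comp_assoc, hw, hb, ← RingHom.comp_assoc,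
        ← RingHom.comp_assoc]
      congr 1
      ext r
      change (1 : S) ⊗ₜ[R] (algebraMap R (G j) r) = (algebraMap R S r) ⊗ₜ[R] (1 : G j)
      rw [Algebra.algebraMap_eq_smul_one, Algebra.algebraMap_eq_smul_one,
        TensorProduct.tmul_smul, TensorProduct.smul_tmul'])
  -- the ideals
  let I : ∀ k, Ideal (S ⊗[R] G k) := fun k =>
    (Il k).map (ir k) ⊔ J.map (algebraMap S (S ⊗[R] G k)) ⊔
      ⨆ (h : j ≤ k), (K.map θj).map (trS G g hgR S j k h).toRingHom
  have hI : ∀ i k (hik : i ≤ k) (x), x ∈ I i → trS G g hgR S i k hik x ∈ I k := by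
    intro i k hik x hx
    have key : I i ≤ (I k).comap (trS G g hgR S i k hik).toRingHom := by
      refine sup_le (sup_le ?_ ?_) (iSup_le fun h => ?_)
      · rw [Ideal.map_le_iff_le_comap]
        intro y hy
        change trS G g hgR S i k hik (ir i y) ∈ I k
        rw [hir]
        exact Ideal.mem_sup_left (Ideal.mem_sup_left
          (Ideal.mem_map_of_mem _ (hIl i k hik (Ideal.mem_map_of_mem _ hy))))
      · rw [Ideal.map_le_iff_le_comap]
        intro y hy
        change trS G g hgR S i k hik (algebraMap S _ y) ∈ I k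
        rw [AlgHom.commutes]
        exact Ideal.mem_sup_left (Ideal.mem_sup_right (Ideal.mem_map_of_mem _ hy))
      · rw [Ideal.map_le_iff_le_comap]
        intro y hy
        change trS G g hgR S i k hik (trS G g hgR S j i h y) ∈ I k
        rw [trS_trS hgR S hcolim]
        exact Ideal.mem_sup_right (Ideal.mem_iSup_of_mem (h.trans hik)
          (Ideal.mem_map_of_mem (trS G g hgR S j k (h.trans hik)).toRingHom hy))
    exact key hx
  -- the unit ideal in the colimit
  have h1 : (1 : S ⊗[R] R') ∈ ⨆ i, (I i).map (toColimS G R' S i).toRingHom := by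
    rw [← Ideal.eq_top_iff_one]
    by_contra hne
    obtain ⟨𝔪, h𝔪, hle⟩ := Ideal.exists_le_maximal _ hne
    have hle' : ∀ i (x : S ⊗[R] G i), x ∈ I i → toColimS G R' S i x ∈ 𝔪 := fun i x hx =>
      hle (Ideal.mem_iSup_of_mem i (Ideal.mem_map_of_mem (toColimS G R' S i).toRingHom hx))
    let e : S ⊗[R] R' ≃ₐ[S] S' := Algebra.IsPushout.equiv R S R' S'
    haveI : (𝔪.comap (e.symm : S' →+* S ⊗[R] R')).IsPrime := inferInstance
    have hq := hK (𝔪.comap (e.symm : S' →+* S ⊗[R] R')) (by
      refine sup_le ?_ ?_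
      · rw [Ideal.map_le_iff_le_comap]
        refine iSup_le fun i => ?_
        rw [Ideal.map_le_iff_le_comap]
        intro x hx
        change e.symm (algebraMap R' S' (algebraMap (G i) R' x)) ∈ 𝔪
        rw [Algebra.IsPushout.equiv_symm_algebraMap_right]
        have := hle' i (ir i x)
          (Ideal.mem_sup_left (Ideal.mem_sup_left (Ideal.mem_map_of_mem _ hx)))
        have h2 : toColimS G R' S i (ir i x) = (1 : S) ⊗ₜ[R] (algebraMap (G i) R' x) := by
          change Algebra.TensorProduct.map (AlgHom.id S S) (toColim (R := R) G R' i)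
            ((1 : S) ⊗ₜ[R] x) = _
          rw [Algebra.TensorProduct.map_tmul]
          rfl
        rw [h2] at this
        exact this
      · rw [Ideal.map_le_iff_le_comap]
        intro x hx
        change e.symm (algebraMap S S' x) ∈ 𝔪
        rw [AlgEquiv.commutes]
        obtain ⟨i⟩ := hcolim.2.1
        have := hle' i (algebraMap S _ x)
          (Ideal.mem_sup_left (Ideal.mem_sup_right (Ideal.mem_map_of_mem _ hx)))
        rw [AlgHom.commutes] at this
        exact this)
    refine hq fun x hx => ?_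
    change e.symm (θ x) ∈ 𝔪
    have h2 : ((e.symm : S' →+* S ⊗[R] R')).comp θ = (toColimS G R' S j).toRingHom.comp θj := by
      apply FlatStage4.ringHom_ext_of_isPushout (A₀ := A₀) (A₁ := A₁) (B₀ := B₀) (B₁ := B₁)
      · rw [RingHom.comp_assoc, RingHom.comp_assoc, hθ1, hθj1]
        ext x
        change e.symm (algebraMap R' S' (a x)) = toColimS G R' S j (ir j (w x))
        rw [Algebra.IsPushout.equiv_symm_algebraMap_right]
        change _ = Algebra.TensorProduct.map (AlgHom.id S S) (toColim (R := R) G R' j)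
            ((1 : S) ⊗ₜ[R] w x)
        rw [Algebra.TensorProduct.map_tmul, ← hwa]
        rfl
      · rw [RingHom.comp_assoc, RingHom.comp_assoc, hθ2, hθj2]
        ext x
        change e.symm (algebraMap S S' (b x)) = toColimS G R' S j (algebraMap S _ (b x))
        rw [AlgEquiv.commutes, AlgHom.commutes]
    have h3 : e.symm (θ x) = toColimS G R' S j (θj x) := RingHom.congr_fun h2 x
    rw [h3]
    refine hle' j _ (Ideal.mem_sup_right (Ideal.mem_iSup_of_mem le_rfl ?_))
    have h4 : (trS G g hgR S j j le_rfl).toRingHom (θj x) = θj x := by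
      change trS G g hgR S j j le_rfl (θj x) = θj x
      rw [trS_eq]
      have h5 : (tr G g hgR j j le_rfl).toLinearMap = LinearMap.id := by
        ext y
        exact RingHom.congr_fun (hcolim.2.2.1 j) y
      rw [h5, LinearMap.lTensor_id, LinearMap.id_apply]
    rw [← h4]
    exact Ideal.mem_map_of_mem _ (Ideal.mem_map_of_mem _ hx)
  obtain ⟨k₀, hk₀⟩ := exists_one_mem hgR S hcolim I hI h1
  obtain ⟨k, hk₀k, hjk⟩ := hcolim.1.directed k₀ j
  have hk : (1 : S ⊗[R] G k) ∈ I k := by
    have := hI k₀ k hk₀k 1 (by rw [hk₀]; trivial)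
    rwa [map_one] at this
  refine ⟨k, (g j k hjk).comp w, ?_, ?_⟩
  · rw [RingHom.comp_assoc, hw, ← RingHom.comp_assoc, hgR]
  · intro Si _ _ _ _ _ _ _ θi hi1 hi2 q _ hq hKq
    let e : S ⊗[R] G k ≃ₐ[S] Si := Algebra.IsPushout.equiv R S (G k) Si
    have he1 : ∀ x : G k, e (ir k x) = algebraMap (G k) Si x := by
      intro x
      change Algebra.IsPushout.equiv R S (G k) Si ((1 : S) ⊗ₜ[R] x) = _
      rw [Algebra.IsPushout.equiv_tmul, map_one, one_mul]
    have h2 : (e : S ⊗[R] G k →+* Si).comp ((trS G g hgR S j k hjk).toRingHom.comp θj) = θi := by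
      apply FlatStage4.ringHom_ext_of_isPushout (A₀ := A₀) (A₁ := A₁) (B₀ := B₀) (B₁ := B₁)
      · rw [RingHom.comp_assoc, RingHom.comp_assoc, hθj1, hi1]
        ext x
        change e (trS G g hgR S j k hjk (ir j (w x))) = _
        rw [hir, he1]
        rfl
      · rw [RingHom.comp_assoc, RingHom.comp_assoc, hθj2, hi2]
        ext x
        change e (trS G g hgR S j k hjk (algebraMap S _ (b x))) = algebraMap S Si (b x)
        rw [AlgHom.commutes, AlgEquiv.commutes]
    have h3 : I k ≤ q.comap (e : S ⊗[R] G k →+* Si) := by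
      refine sup_le (sup_le ?_ ?_) (iSup_le fun h => ?_)
      · rw [Ideal.map_le_iff_le_comap]
        intro y hy
        change e (ir k y) ∈ q
        rw [he1]
        exact hq (Ideal.mem_sup_left (Ideal.mem_map_of_mem _ hy))
      · rw [Ideal.map_le_iff_le_comap]
        intro y hy
        change e (algebraMap S _ y) ∈ q
        rw [AlgEquiv.commutes]
        exact hq (Ideal.mem_sup_right (Ideal.mem_map_of_mem _ hy))
      · rw [Ideal.map_le_iff_le_comap, Ideal.map_le_iff_le_comap]
        intro y hy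
        change e (trS G g hgR S j k h (θj y)) ∈ q
        have h4 : e (trS G g hgR S j k h (θj y)) = θi y := RingHom.congr_fun h2 y
        rw [h4]
        exact hKq hy
    have h4 : e 1 ∈ q := h3 hk
    rw [map_one] at h4
    exact (Ideal.ne_top_iff_one q).1 (Ideal.IsPrime.ne_top inferInstance) h4

end K249.StageSel
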