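import Groth.Agent.FlatMor.K249.StrictVal
import Groth.Agent.Flat2C.FreeAway

/-!
# Strict transforms of an algebra and a module from the flattening of a module
-/

set_option autoImplicit false
set_option linter.style.haveILetI false
universe u

namespace K249.StrictConv

open TensorProduct
open Groth.Agent

/-- From the flattening of `S × M` as a module over a finitely presented cover `P → S` to the strict
transforms of `S` and `M`. -/
theorem strict_conv {R R₁ P S M : Type u} [CommRing R] [CommRing R₁] [Algebra R R₁] [CommRing S]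
    [Algebra R S] [AddCommGroup M] [Module S M] [Module R M] [IsScalarTower R S M]
    [CommRing P] [Algebra R P] [Algebra.FinitePresentation R P] [Algebra P S]
    [IsScalarTower R P S] (hs : Function.Surjective (algebraMap P S)) [Module P M]
    [IsScalarTower P S M] (a : R)
    (H : ∀ (S' N' G : Type u) [CommRing S'] [Algebra R₁ S'] [Algebra P S'] [Algebra R S']
      [IsScalarTower R R₁ S'] [IsScalarTower R P S'] [Algebra.IsPushout R P R₁ S']
      [AddCommGroup N'] [Module S' N'] [Module P N'] [Module R₁ N'] [IsScalarTower P S' N']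
      [IsScalarTower R₁ S' N'] (φ : (S × M) →ₗ[P] N'), IsBaseChange S' φ →
      ∀ [AddCommGroup G] [Module S' G] [Module R₁ G] [IsScalarTower R₁ S' G] (π : N' →ₗ[S'] G),
        Function.Surjective π →
        (∀ m : N', π m = 0 ↔ ∃ n : ℕ, (algebraMap R R₁ a) ^ n • m = 0) →
        Module.Flat R₁ G ∧ Module.FinitePresentation S' G) :
    Module.Flat R₁ ((R₁ ⊗[R] S) ⧸ FlatCA.powTorsion (R₁ ⊗[R] S) (algebraMap R (R₁ ⊗[R] S) a) (R₁ ⊗[R] S)) ∧
    Algebra.FinitePresentation R₁
      ((R₁ ⊗[R] S) ⧸ FlatCA.powTorsion (R₁ ⊗[R] S) (algebraMap R (R₁ ⊗[R] S) a) (R₁ ⊗[R] S)) ∧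
    Module.Flat R₁ ((R₁ ⊗[R] M) ⧸ FlatCA.powTorsion R₁ (algebraMap R R₁ a) (R₁ ⊗[R] M)) := by
  let C := R₁ ⊗[R] S
  letI : Algebra S C := Algebra.TensorProduct.rightAlgebra
  haveI p0 : Algebra.IsPushout R R₁ S C := inferInstance
  haveI p0' : Algebra.IsPushout R S R₁ C := p0.symm
  let S' := R₁ ⊗[R] P
  letI : Algebra P S' := Algebra.TensorProduct.rightAlgebra
  haveI q0 : Algebra.IsPushout R R₁ P S' := inferInstance
  haveI q0' : Algebra.IsPushout R P R₁ S' := q0.symm
  let κ : S' →ₐ[R₁] C := Algebra.TensorProduct.map (AlgHom.id R₁ R₁) (IsScalarTower.toAlgHom R P S)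
  have hκ : Function.Surjective κ := by
    have h1 : Function.Surjective ((IsScalarTower.toAlgHom R P S).toLinearMap.lTensor R₁) :=
      LinearMap.lTensor_surjective R₁ hs
    intro y
    obtain ⟨x, rfl⟩ := h1 y
    refine ⟨x, ?_⟩
    induction x using TensorProduct.induction_on with
    | zero => simp
    | tmul r m => rfl
    | add x y hx hy => rw [map_add, map_add, hx, hy]
  letI : Algebra S' C := κ.toRingHom.toAlgebra
  haveI : IsScalarTower R₁ S' C := .of_algebraMap_eq' κ.comp_algebraMap.symm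
  letI : Algebra P C := ((algebraMap S C).comp (algebraMap P S)).toAlgebra
  haveI : IsScalarTower P S C := .of_algebraMap_eq' rfl
  haveI : IsScalarTower P S' C := .of_algebraMap_eq' (by
    ext x
    change (1 : R₁) ⊗ₜ[R] (algebraMap P S x) = κ ((1 : R₁) ⊗ₜ[R] x)
    change _ = Algebra.TensorProduct.map (AlgHom.id R₁ R₁) (IsScalarTower.toAlgHom R P S)
      ((1 : R₁) ⊗ₜ[R] x)
    rw [Algebra.TensorProduct.map_tmul]
    rfl)
  haveI : IsScalarTower R S' C := .of_algebraMap_eq' (by
    rw [IsScalarTower.algebraMap_eq R R₁ C, IsScalarTower.algebraMap_eq R R₁ S',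
      ← RingHom.comp_assoc, ← IsScalarTower.algebraMap_eq R₁ S' C])
  haveI p1 : Algebra.IsPushout P S S' C := (Algebra.IsPushout.comp_iff R P R₁ S').1 p0'
  -- the module
  obtain ⟨MC, _, _, _, _, u, hu⟩ := FlatAtDescent.exists_baseChange_model (B₂ := S) M C
  letI : Module S' MC := Module.compHom MC (algebraMap S' C)
  haveI : IsScalarTower S' C MC := .of_algebraMap_smul fun _ _ => rfl
  letI : Module R₁ MC := Module.compHom MC (algebraMap R₁ C)
  haveI : IsScalarTower R₁ C MC := .of_algebraMap_smul fun _ _ => rfl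
  haveI : IsScalarTower R₁ S' MC := .of_algebraMap_smul fun b n => by
    rw [← algebraMap_smul C (algebraMap R₁ S' b) n, ← IsScalarTower.algebraMap_apply,
      algebraMap_smul]
  letI : Module P MC := Module.compHom MC (algebraMap P C)
  haveI : IsScalarTower P C MC := .of_algebraMap_smul fun _ _ => rfl
  haveI : IsScalarTower P S' MC := .of_algebraMap_smul fun b n => by
    rw [← algebraMap_smul C (algebraMap P S' b) n, ← IsScalarTower.algebraMap_apply,
      algebraMap_smul]
  haveI : IsScalarTower P S MC := .of_algebraMap_smul fun b n => by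
    rw [← algebraMap_smul C (algebraMap P S b) n, ← IsScalarTower.algebraMap_apply,
      algebraMap_smul]
  let Φ : (S × M) →ₗ[S] (C × MC) := (Algebra.linearMap S C).prodMap u
  have hΦ : IsBaseChange C Φ :=
    Picfga.KerBC.isBaseChange_prodMap (IsBaseChange.linearMap S C) hu
  have hΦ' : IsBaseChange S' (Φ.restrictScalars P) :=
    Flat2A.ProjPure.isBaseChange_of_isPushout p1 Φ hΦ
  let x : C := algebraMap R C a
  have hx : algebraMap R₁ C (algebraMap R R₁ a) = x := (IsScalarTower.algebraMap_apply R R₁ C a).symm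
  let T₁ : Ideal C := FlatCA.powTorsion C x C
  let T₂ : Submodule C MC := FlatCA.powTorsion C x MC
  let G₁ := C ⧸ T₁
  let G₂ := MC ⧸ T₂
  let π₁ : C →ₗ[S'] G₁ := (Ideal.Quotient.mkₐ S' T₁).toLinearMap
  let π₂ : MC →ₗ[S'] G₂ := T₂.mkQ.restrictScalars S'
  let π : (C × MC) →ₗ[S'] (G₁ × G₂) := π₁.prodMap π₂
  have hπ₁ : Function.Surjective π₁ := Ideal.Quotient.mk_surjective
  have hπ₂ : Function.Surjective π₂ := T₂.mkQ_surjective
  have h1 : ∀ m : C, π₁ m = 0 ↔ ∃ n : ℕ, (algebraMap R R₁ a) ^ n • m = 0 := by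
    intro m
    change Ideal.Quotient.mk T₁ m = 0 ↔ _
    rw [Ideal.Quotient.eq_zero_iff_mem]
    change m ∈ FlatCA.powTorsion C x C ↔ _
    rw [Flat2C.FreeAway.mem_powTorsion]
    refine exists_congr fun n => ?_
    rw [← hx, ← map_pow, algebraMap_smul]
  have h2 : ∀ m : MC, π₂ m = 0 ↔ ∃ n : ℕ, (algebraMap R R₁ a) ^ n • m = 0 := by
    intro m
    change T₂.mkQ m = 0 ↔ _
    rw [Submodule.mkQ_apply, Submodule.Quotient.mk_eq_zero]
    change m ∈ FlatCA.powTorsion C x MC ↔ _
    rw [Flat2C.FreeAway.mem_powTorsion]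
    refine exists_congr fun n => ?_
    rw [← hx, ← map_pow, algebraMap_smul]
  have h3 : ∀ m : C × MC, π m = 0 ↔ ∃ n : ℕ, (algebraMap R R₁ a) ^ n • m = 0 := by
    rintro ⟨m₁, m₂⟩
    change (π₁ m₁, π₂ m₂) = 0 ↔ _
    rw [Prod.mk_eq_zero, h1, h2]
    constructor
    · rintro ⟨⟨n₁, e₁⟩, n₂, e₂⟩
      refine ⟨n₁ + n₂, ?_⟩
      change ((algebraMap R R₁ a) ^ (n₁ + n₂) • m₁, (algebraMap R R₁ a) ^ (n₁ + n₂) • m₂) = 0
      rw [Prod.mk_eq_zero]
      exact ⟨by rw [pow_add, mul_comm, mul_smul, e₁, smul_zero],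
        by rw [pow_add, mul_smul, e₂, smul_zero]⟩
    · rintro ⟨n, e⟩
      exact ⟨⟨n, congrArg Prod.fst e⟩, n, congrArg Prod.snd e⟩
  obtain ⟨hflat, hfp⟩ := H S' (C × MC) (G₁ × G₂) (Φ.restrictScalars P) hΦ' π
    (Function.Surjective.prodMap hπ₁ hπ₂) h3
  haveI f1 : Module.Flat R₁ G₁ :=
    Module.Flat.of_retract (M := G₁ × G₂) (LinearMap.inl R₁ G₁ G₂) (LinearMap.fst R₁ G₁ G₂)
      (LinearMap.fst_comp_inl _ _ _)
  haveI f2 : Module.Flat R₁ G₂ :=
    Module.Flat.of_retract (M := G₁ × G₂) (LinearMap.inr R₁ G₁ G₂) (LinearMap.snd R₁ G₁ G₂)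
      (LinearMap.snd_comp_inr _ _ _)
  refine ⟨f1, ?_, ?_⟩
  · haveI : Module.Finite S' (G₁ × G₂) := inferInstance
    haveI : Module.Finite S' G₂ := Module.Finite.of_surjective (LinearMap.snd S' G₁ G₂)
      LinearMap.snd_surjective
    haveI : Module.FinitePresentation S' G₁ :=
      Module.finitePresentation_of_surjective (LinearMap.fst S' G₁ G₂) LinearMap.fst_surjective (by
        rw [LinearMap.ker_fst, LinearMap.range_eq_map]
        exact (Module.Finite.fg_top (R := S') (M := G₂)).map _)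
    have hsurj : Function.Surjective (algebraMap S' G₁) := by
      have : (algebraMap S' G₁) = (Ideal.Quotient.mk T₁).comp (algebraMap S' C) := rfl
      rw [this]
      exact Ideal.Quotient.mk_surjective.comp hκ
    have hker : (LinearMap.ker (Algebra.linearMap S' G₁)).FG :=
      Module.FinitePresentation.fg_ker (Algebra.linearMap S' G₁) hsurj
    let ψ : S' →ₐ[R₁] G₁ := IsScalarTower.toAlgHom R₁ S' G₁
    haveI : Algebra.FinitePresentation R₁ S' := inferInstance
    exact Algebra.FinitePresentation.of_surjective (f := ψ) hsurj hker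
  · letI : Module R MC := Module.compHom MC (algebraMap R C)
    haveI : IsScalarTower R C MC := .of_algebraMap_smul fun _ _ => rfl
    haveI : IsScalarTower R R₁ MC := .of_algebraMap_smul fun b n => by
      rw [← algebraMap_smul C (algebraMap R R₁ b) n, ← IsScalarTower.algebraMap_apply,
        algebraMap_smul]
    haveI : IsScalarTower R S MC := .of_algebraMap_smul fun b n => by
      rw [← algebraMap_smul C (algebraMap R S b) n, ← IsScalarTower.algebraMap_apply,
        algebraMap_smul]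
    have hb : IsBaseChange R₁ (u.restrictScalars R) :=
      Flat2A.ProjPure.isBaseChange_of_isPushout p0' u hu
    let e₃ : R₁ ⊗[R] M ≃ₗ[R₁] MC := hb.equiv
    have h4 : (FlatCA.powTorsion R₁ (algebraMap R R₁ a) (R₁ ⊗[R] M)).map (e₃ : R₁ ⊗[R] M →ₗ[R₁] MC) =
        T₂.restrictScalars R₁ := by
      ext y
      rw [Submodule.restrictScalars_mem]
      change _ ↔ y ∈ FlatCA.powTorsion C x MC
      rw [Flat2C.FreeAway.mem_powTorsion, Submodule.mem_map]
      constructor
      · rintro ⟨z, hz, rfl⟩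
        rw [Flat2C.FreeAway.mem_powTorsion] at hz
        obtain ⟨n, hn⟩ := hz
        refine ⟨n, ?_⟩
        rw [← hx, ← map_pow, algebraMap_smul]
        change _ • e₃ z = 0
        rw [← map_smul, hn, map_zero]
      · rintro ⟨n, hn⟩
        refine ⟨e₃.symm y, ?_, e₃.apply_symm_apply y⟩
        rw [Flat2C.FreeAway.mem_powTorsion]
        refine ⟨n, ?_⟩
        rw [← map_smul]
        rw [← hx, ← map_pow, algebraMap_smul] at hn
        rw [hn, map_zero]
    let e₄ := Submodule.Quotient.equiv _ _ e₃ h4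
    let e₅ := e₄ ≪≫ₗ (Submodule.Quotient.restrictScalarsEquiv R₁ T₂)
    exact Module.Flat.of_linearEquiv e₅

end K249.StrictConv
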