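import Groth.Agent.S0389
import Groth.Agent.Flat2C.FlatteningRing
import Groth.Agent.Flat2A.ProjPure
import Groth.Agent.Divis.BlowAlg
import Groth.Agent.Picfga.KerBC
import Groth.Agent.FlatMor.K249.FlatStage2

/-!
# Flattening of finite type algebras and finite modules over a domain by an affine blow-up
-/

set_option autoImplicit false
set_option linter.style.haveILetI false
universe u

namespace K249.StrictVal

open TensorProduct
open Groth.Agent

/-- Finite presentation of a localization passes to a further localization. -/
theorem fp_dvd {B N : Type u} [CommRing B] [AddCommGroup N] [Module B N] (x y : B) (hxy : x ∣ y)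
    [Module.FinitePresentation (Localization.Away x) (LocalizedModule (Submonoid.powers x) N)] :
    Module.FinitePresentation (Localization.Away y) (LocalizedModule (Submonoid.powers y) N) := by
  let Bx := Localization.Away x
  let By := Localization.Away y
  let Ny := LocalizedModule (Submonoid.powers y) N
  have hu : IsUnit (algebraMap B By x) := by
    have h1 : IsUnit (algebraMap B By y) := IsLocalization.Away.algebraMap_isUnit y
    obtain ⟨z, rfl⟩ := hxy
    rw [map_mul] at h1
    exact isUnit_of_mul_isUnit_left h1
  letI : Algebra Bx By := (IsLocalization.Away.lift (S := Bx) x hu).toAlgebra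
  haveI : IsScalarTower B Bx By := .of_algebraMap_eq' (IsLocalization.Away.lift_comp x hu).symm
  letI : Module Bx Ny := Module.compHom Ny (algebraMap Bx By)
  haveI : IsScalarTower Bx By Ny := .of_algebraMap_smul fun _ _ => rfl
  haveI : IsScalarTower B Bx Ny := .of_algebraMap_smul fun b n => by
    rw [← algebraMap_smul By (algebraMap B Bx b) n, ← IsScalarTower.algebraMap_apply,
      algebraMap_smul]
  have h1 : IsBaseChange Bx (LocalizedModule.mkLinearMap (Submonoid.powers x) N) :=
    IsLocalizedModule.isBaseChange (Submonoid.powers x) Bx _
  have h2 : IsBaseChange By (LocalizedModule.mkLinearMap (Submonoid.powers y) N) :=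
    IsLocalizedModule.isBaseChange (Submonoid.powers y) By _
  obtain ⟨v, hv, -⟩ := FlatStage2.exists_lift_isBaseChange (A := B) (B := Bx) (C := By) _ h1 _ h2
  exact FinitePresentation.of_isBaseChange v hv

/-- Flatness after inverting an element of the base. -/
theorem flat_dvd {R P N : Type u} [CommRing R] [CommRing P] [Algebra R P] [AddCommGroup N]
    [Module P N] [Module R N] [IsScalarTower R P N] (x y : R) (hxy : x ∣ y)
    (h : Module.Flat (Localization.Away x) (Localization.Away x ⊗[R] N)) :
    Module.Flat R (LocalizedModule (Submonoid.powers (algebraMap R P y)) N) := by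
  let Rx := Localization.Away x
  let Ry := Localization.Away y
  have hu : IsUnit (algebraMap R Ry x) := by
    have h1 : IsUnit (algebraMap R Ry y) := IsLocalization.Away.algebraMap_isUnit y
    obtain ⟨z, rfl⟩ := hxy
    rw [map_mul] at h1
    exact isUnit_of_mul_isUnit_left h1
  letI : Algebra Rx Ry := (IsLocalization.Away.lift (S := Rx) x hu).toAlgebra
  haveI : IsScalarTower R Rx Ry := .of_algebraMap_eq' (IsLocalization.Away.lift_comp x hu).symm
  have e : Ry ⊗[Rx] (Rx ⊗[R] N) ≃ₗ[Ry] Ry ⊗[R] N :=
    TensorProduct.AlgebraTensorModule.cancelBaseChange R Rx Ry Ry N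
  have h1 : Module.Flat Ry (Ry ⊗[R] N) := Module.Flat.of_linearEquiv e.symm
  have h2 : Module.Flat R (Ry ⊗[R] N) := Module.Flat.trans R Ry _
  haveI : IsLocalizedModule (Submonoid.powers y) (TensorProduct.mk R Ry N 1) :=
    (isLocalizedModule_iff_isBaseChange (Submonoid.powers y) Ry _).2
      (TensorProduct.isBaseChange R N Ry)
  haveI : IsLocalizedModule (Submonoid.powers y)
      ((LocalizedModule.mkLinearMap (Submonoid.powers (algebraMap R P y)) N).restrictScalars R) :=
    IsLocalizedModule.restrictScalars_powers (A := P) y _
  let e2 : Ry ⊗[R] N ≃ₗ[R] LocalizedModule (Submonoid.powers (algebraMap R P y)) N :=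
    IsLocalizedModule.linearEquiv (Submonoid.powers y) (TensorProduct.mk R Ry N 1)
      ((LocalizedModule.mkLinearMap (Submonoid.powers (algebraMap R P y)) N).restrictScalars R)
  exact Module.Flat.of_linearEquiv e2.symm

/-- A valuation ring dominating: among finitely many elements one divides all the others. -/
theorem exists_dvd_of_finset {R A : Type u} [CommRing R] [CommRing A] [IsDomain A] [ValuationRing A]
    (f : R →+* A) (s : Finset R) (hs : s.Nonempty) : ∃ a ∈ s, ∀ x ∈ s, f a ∣ f x := by
  classical
  induction hs using Finset.Nonempty.cons_induction with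
  | singleton a => exact ⟨a, Finset.mem_singleton_self a, fun x hx => by
      rw [Finset.mem_singleton.1 hx]⟩
  | cons b t hb ht ih =>
    obtain ⟨a, ha, h⟩ := ih
    rcases ValuationRing.dvd_total (f a) (f b) with h1 | h1
    · refine ⟨a, Finset.mem_cons_of_mem ha, fun x hx => ?_⟩
      rcases Finset.mem_cons.1 hx with rfl | hx
      · exact h1
      · exact h x hx
    · refine ⟨b, Finset.mem_cons_self _ _, fun x hx => ?_⟩
      rcases Finset.mem_cons.1 hx with rfl | hx
      · exact dvd_rfl
      · exact h1.trans (h x hx)

end K249.StrictVal
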